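import Groth.Agent.KoszulCech.Cone
import Groth.Agent.Depth.Basic
import Groth.Prelude.Def_ega3
import Mathlib.RingTheory.Regular.RegularSequence

/-!
# Koszul complexes: homotopies, top and bottom degrees, regular sequences
-/

set_option linter.style.haveILetI false
set_option backward.isDefEq.respectTransparency false

universe u

open CategoryTheory CochainComplex CohIII Limits
open scoped Pointwise

noncomputable section

namespace Groth.Agent.KoszulCech

open Groth.Agent.LocCohLib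

variable {A : Type u} [CommRing A]

theorem smulId_f_apply {K : CochainComplex (ModuleCat.{u} A) ℤ} (f : A) (k : ℤ) (x : K.X k) :
    (f • 𝟙 K : K ⟶ K).f k x = f • x := rfl

/-- A null homotopy, by elements. -/
theorem nonempty_homotopy_zero {K L : CochainComplex (ModuleCat.{u} A) ℤ} (φ : K ⟶ L)
    (h : ∀ i j, j + 1 = i → (K.X i →ₗ[A] L.X j))
    (e : ∀ i j l (hj : j + 1 = i) (hl : i + 1 = l) (x : K.X i),
      φ.f i x = h l i hl (K.d i l x) + L.d j i (h i j hj x)) :
    Nonempty (Homotopy φ 0) := by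
  let g : ∀ i j, (ComplexShape.up ℤ).Rel j i → (K.X i ⟶ L.X j) := fun i j hij => ModuleCat.ofHom (h i j hij)
  have hφ : φ = Homotopy.nullHomotopicMap' g := by
    ext i : 1
    rw [Homotopy.nullHomotopicMap'_f (c := ComplexShape.up ℤ) (k₂ := i - 1) (k₁ := i) (k₀ := i + 1)
      (show i - 1 + 1 = i by omega) (show i + 1 = i + 1 from rfl)]
    exact ModuleCat.hom_ext (LinearMap.ext fun x => e i (i - 1) (i + 1) (by omega) rfl x)
  exact ⟨hφ ▸ Homotopy.nullHomotopy' g⟩

/-- The family of a null homotopy. -/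
theorem exists_family_of_homotopy {K L : CochainComplex (ModuleCat.{u} A) ℤ} {φ : K ⟶ L}
    (H : Homotopy φ 0) :
    ∃ h : ∀ i j, j + 1 = i → (K.X i →ₗ[A] L.X j), ∀ i j l (hj : j + 1 = i) (hl : i + 1 = l) (x : K.X i),
      φ.f i x = h l i hl (K.d i l x) + L.d j i (h i j hj x) := by
  refine ⟨fun i j _ => (H.hom i j).hom, fun i j l hj hl x => ?_⟩
  have h1 := H.comm i
  rw [dNext_eq H.hom (show (ComplexShape.up ℤ).Rel i l from hl),
    prevD_eq H.hom (show (ComplexShape.up ℤ).Rel j i from hj), HomologicalComplex.zero_f, add_zero] at h1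
  exact ConcreteCategory.congr_hom h1 x

theorem homotopy_cone_head {K : CochainComplex (ModuleCat.{u} A) ℤ} (f : A) :
    Nonempty (Homotopy (f • 𝟙 (mappingCone (f • 𝟙 K))) 0) := by
  refine nonempty_homotopy_zero _ (fun i j hij =>
    { toFun := fun x => cmk (f • 𝟙 K) j i hij (csnd (f • 𝟙 K) i x) 0
      map_add' := fun x y => cone_ext _ hij (by simp [map_add, cfst_cmk]) (by simp [map_add, csnd_cmk])
      map_smul' := fun r x => cone_ext _ hij (by simp [map_smul, cfst_cmk]) (by simp [map_smul, csnd_cmk]) })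
    fun i j l hj hl x => ?_
  refine cone_ext _ hl ?_ ?_
  · show cfst (f • 𝟙 K) i l hl (f • x) = cfst (f • 𝟙 K) i l hl
      (cmk (f • 𝟙 K) i l hl (csnd (f • 𝟙 K) l ((mappingCone (f • 𝟙 K)).d i l x)) 0 +
        (mappingCone (f • 𝟙 K)).d j i (cmk (f • 𝟙 K) j i hj (csnd (f • 𝟙 K) i x) 0))
    rw [map_smul, map_add, cfst_cmk, cfst_d _ hj hl, cfst_cmk, csnd_d _ hl, smulId_f_apply]
    abel
  · show csnd (f • 𝟙 K) i (f • x) = csnd (f • 𝟙 K) i
      (cmk (f • 𝟙 K) i l hl (csnd (f • 𝟙 K) l ((mappingCone (f • 𝟙 K)).d i l x)) 0 +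
        (mappingCone (f • 𝟙 K)).d j i (cmk (f • 𝟙 K) j i hj (csnd (f • 𝟙 K) i x) 0))
    rw [map_smul, map_add, csnd_cmk, csnd_d _ hj, cfst_cmk, csnd_cmk, map_zero, smulId_f_apply]
    simp

theorem homotopy_cone_tail {K : CochainComplex (ModuleCat.{u} A) ℤ} (f a : A)
    (H : Homotopy (a • 𝟙 K) 0) : Nonempty (Homotopy (a • 𝟙 (mappingCone (f • 𝟙 K))) 0) := by
  obtain ⟨h, e⟩ := exists_family_of_homotopy H
  refine nonempty_homotopy_zero _ (fun i j hij =>
    { toFun := fun x => cmk (f • 𝟙 K) j i hij (-(h (i + 1) i rfl (cfst (f • 𝟙 K) i (i + 1) rfl x)))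
        (h i j hij (csnd (f • 𝟙 K) i x))
      map_add' := fun x y => cone_ext _ hij (by simp [map_add, cfst_cmk]; abel) (by simp [map_add, csnd_cmk])
      map_smul' := fun r x => cone_ext _ hij (by simp [map_smul, cfst_cmk]) (by simp [map_smul, csnd_cmk]) })
    fun i j l hj hl x => ?_
  subst hl
  refine cone_ext _ rfl ?_ ?_
  · show cfst (f • 𝟙 K) i (i + 1) rfl (a • x) = cfst (f • 𝟙 K) i (i + 1) rfl
      (cmk (f • 𝟙 K) i (i + 1) rfl _ _ + (mappingCone (f • 𝟙 K)).d j i (cmk (f • 𝟙 K) j i hj _ _))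
    rw [map_smul, map_add, cfst_cmk, cfst_d _ hj rfl, cfst_cmk, map_neg, neg_neg,
      cfst_d (f • 𝟙 K) (rfl : i + 1 = i + 1) (rfl : i + 1 + 1 = i + 1 + 1), map_neg, neg_neg]
    exact e (i + 1) i (i + 1 + 1) rfl rfl _
  · show csnd (f • 𝟙 K) i (a • x) = csnd (f • 𝟙 K) i
      (cmk (f • 𝟙 K) i (i + 1) rfl _ _ + (mappingCone (f • 𝟙 K)).d j i (cmk (f • 𝟙 K) j i hj _ _))
    rw [map_smul, map_add, csnd_cmk, csnd_d _ hj, cfst_cmk, csnd_cmk, csnd_d _ (rfl : i + 1 = i + 1),
      map_add, smulId_f_apply, smulId_f_apply, map_smul, smul_neg]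
    rw [show a • csnd (f • 𝟙 K) i x = (a • 𝟙 K : K ⟶ K).f i (csnd (f • 𝟙 K) i x) from rfl,
      e i j (i + 1) hj rfl]
    abel

/-- Elements of the ideal act by maps homotopic to zero. -/
theorem nonempty_homotopy_smul (M : ModuleCat.{u} A) : ∀ (xs : List A) (a : A),
    a ∈ Ideal.span {x | x ∈ xs} → Nonempty (Homotopy (a • 𝟙 (koszulCx M xs)) 0) := by
  suffices h : ∀ (xs : List A) (x : A), x ∈ xs → Nonempty (Homotopy (x • 𝟙 (koszulCx M xs)) 0) by
    intro xs a ha
    induction ha using Submodule.span_induction with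
    | mem x hx => exact h xs x hx
    | zero => exact ⟨Homotopy.ofEq (zero_smul A _)⟩
    | add x y _ _ hx hy =>
      obtain ⟨hx⟩ := hx
      obtain ⟨hy⟩ := hy
      exact ⟨((Homotopy.ofEq (add_smul x y _)).trans (hx.add hy)).trans (Homotopy.ofEq (add_zero _))⟩
    | smul r x _ hx =>
      obtain ⟨hx⟩ := hx
      exact ⟨((Homotopy.ofEq (by rw [smul_eq_mul, mul_smul, Linear.comp_smul, Category.comp_id])).trans
        (hx.compRight (r • 𝟙 (koszulCx M xs)))).trans (Homotopy.ofEq zero_comp)⟩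
  intro xs
  induction xs with
  | nil => intro x hx; simp at hx
  | cons f l ih =>
    intro x hx
    rcases List.mem_cons.mp hx with rfl | hx
    · exact homotopy_cone_head x
    · obtain ⟨H⟩ := ih x hx
      exact homotopy_cone_tail f x H

theorem isZero_koszulH_of_span_eq_top (M : ModuleCat.{u} A) {xs : List A}
    (h : Ideal.span {a | a ∈ xs} = ⊤) (p : ℕ) : IsZero (koszulH xs M p) := by
  obtain ⟨H⟩ := nonempty_homotopy_smul M xs 1 (by rw [h]; trivial)
  have h1 := H.homologyMap_eq ((p : ℤ) - xs.length)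
  rw [one_smul, HomologicalComplex.homologyMap_id, HomologicalComplex.homologyMap_zero] at h1
  exact (IsZero.iff_id_eq_zero _).mpr h1

theorem subsingleton_X (M : ModuleCat.{u} A) : ∀ (xs : List A) (k : ℤ), (0 < k ∨ k < -(xs.length : ℤ)) →
    Subsingleton ((koszulCx M xs).X k)
  | [], k, hk => ModuleCat.subsingleton_of_isZero
      (HomologicalComplex.isZero_single_obj_X _ _ _ _ (by simp at hk; omega))
  | f :: l, k, hk => ⟨fun x y => by
      haveI := subsingleton_X M l (k + 1) (by simp at hk; omega)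
      haveI := subsingleton_X M l k (by simp at hk; omega)
      exact cone_ext (f • 𝟙 (koszulCx M l)) rfl (Subsingleton.elim _ _) (Subsingleton.elim _ _)⟩

/-- The augmentation in the top degree. -/
def kaug (M : ModuleCat.{u} A) : ∀ xs : List A, (koszulCx M xs).X 0 →ₗ[A] M
  | [] => (HomologicalComplex.singleObjXSelf (ComplexShape.up ℤ) 0 M).hom.hom
  | f :: l => (kaug M l).comp (csnd (f • 𝟙 (koszulCx M l)) 0)

theorem kaug_surjective (M : ModuleCat.{u} A) : ∀ xs : List A, Function.Surjective (kaug M xs)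
  | [] => (HomologicalComplex.singleObjXSelf (ComplexShape.up ℤ) 0 M).toLinearEquiv.surjective
  | f :: l => fun m => by
    obtain ⟨b, rfl⟩ := kaug_surjective M l m
    exact ⟨cmk (f • 𝟙 (koszulCx M l)) 0 1 rfl 0 b, congrArg (kaug M l) (csnd_cmk _ _ _ _)⟩

theorem kaug_mem_iff (M : ModuleCat.{u} A) : ∀ (xs : List A) (x : (koszulCx M xs).X 0),
    kaug M xs x ∈ Ideal.ofList xs • (⊤ : Submodule A M) ↔ ∃ w, (koszulCx M xs).d (-1) 0 w = x
  | [], x => by
    rw [Ideal.ofList_nil, Submodule.bot_smul, Submodule.mem_bot]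
    refine ⟨fun h => ⟨0, (map_zero _).trans
      ((map_eq_zero_iff _ (HomologicalComplex.singleObjXSelf (ComplexShape.up ℤ) 0 M).toLinearEquiv.injective).mp h).symm⟩,
      ?_⟩
    rintro ⟨w, rfl⟩
    haveI := subsingleton_X M [] (-1) (Or.inr (by simp))
    rw [Subsingleton.elim w 0, map_zero, map_zero]
  | f :: l, x => by
    haveI := subsingleton_X M l 1 (Or.inl one_pos)
    rw [Ideal.ofList_cons_smul, Submodule.mem_sup]
    constructor
    · rintro ⟨y, hy, z, hz, hyz⟩
      obtain ⟨m, -, rfl⟩ := (Submodule.mem_smul_pointwise_iff_exists _ _ _).mp hy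
      obtain ⟨a, rfl⟩ := kaug_surjective M l m
      have hmem : kaug M l (csnd (f • 𝟙 (koszulCx M l)) 0 x - f • a) ∈
          Ideal.ofList l • (⊤ : Submodule A M) := by
        rw [map_sub, map_smul]
        rw [show kaug M l (csnd (f • 𝟙 (koszulCx M l)) 0 x) = f • kaug M l a + z from hyz.symm]
        simpa using hz
      obtain ⟨w, hw⟩ := (kaug_mem_iff M l _).mp hmem
      refine ⟨cmk (f • 𝟙 (koszulCx M l)) (-1) 0 (by omega) a w,
        cone_ext _ (rfl : (0 : ℤ) + 1 = 1) (Subsingleton.elim (α := (koszulCx M l).X 1) _ _) ?_⟩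
      refine (csnd_d (f • 𝟙 (koszulCx M l)) (by omega : (-1 : ℤ) + 1 = 0) _).trans ?_
      rw [cfst_cmk, csnd_cmk, hw, smulId_f_apply]
      abel
    · rintro ⟨w, rfl⟩
      refine ⟨f • kaug M l (cfst (f • 𝟙 (koszulCx M l)) (-1) 0 (by omega) w),
        (Submodule.mem_smul_pointwise_iff_exists _ _ _).mpr ⟨_, trivial, rfl⟩,
        kaug M l ((koszulCx M l).d (-1) 0 (csnd (f • 𝟙 (koszulCx M l)) (-1) w)),
        (kaug_mem_iff M l _).mpr ⟨_, rfl⟩, ?_⟩
      refine Eq.trans ?_ (congrArg (kaug M l) (csnd_d (f • 𝟙 (koszulCx M l)) (by omega : (-1 : ℤ) + 1 = 0) w)).symm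
      rw [map_add, smulId_f_apply, map_smul]

theorem mem_zmod_of_top (M : ModuleCat.{u} A) (xs : List A) (x : (koszulCx M xs).X 0) :
    x ∈ Zmod (koszulCx M xs) 0 := by
  haveI := subsingleton_X M xs (0 + 1) (Or.inl one_pos)
  exact mem_zmod (Subsingleton.elim _ _)

theorem nonempty_top_equiv (M : ModuleCat.{u} A) (xs : List A) :
    Nonempty ((koszulCx M xs).homology 0 ≃ₗ[A] (M ⧸ (Ideal.ofList xs • (⊤ : Submodule A M)))) := by
  let ψ : Zmod (koszulCx M xs) 0 →ₗ[A] (M ⧸ (Ideal.ofList xs • (⊤ : Submodule A M))) :=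
    ((Ideal.ofList xs • (⊤ : Submodule A M)).mkQ.comp (kaug M xs)).comp (Zmod (koszulCx M xs) 0).subtype
  have hψ : Function.Surjective ψ := fun y => by
    obtain ⟨m, rfl⟩ := Submodule.mkQ_surjective _ y
    obtain ⟨x, rfl⟩ := kaug_surjective M xs m
    exact ⟨⟨x, mem_zmod_of_top M xs x⟩, rfl⟩
  have hk : LinearMap.ker (cls (koszulCx M xs) 0) = LinearMap.ker ψ := by
    ext z
    rw [LinearMap.mem_ker, LinearMap.mem_ker, cls_eq_zero (i := -1) (by omega)]
    exact ((kaug_mem_iff M xs z.1).symm.trans (Submodule.Quotient.mk_eq_zero _).symm)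
  exact ⟨((cls (koszulCx M xs) 0).quotKerEquivOfSurjective (cls_surjective _ _)).symm.trans
    ((Submodule.quotEquivOfEq _ _ hk).trans (ψ.quotKerEquivOfSurjective hψ))⟩

/-- Functoriality of the Koszul complex in the module. -/
def kmapM {M N : ModuleCat.{u} A} (g : M ⟶ N) : ∀ xs : List A, koszulCx M xs ⟶ koszulCx N xs
  | [] => (HomologicalComplex.single (ModuleCat.{u} A) (ComplexShape.up ℤ) 0).map g
  | f :: l => mappingCone.map (f • 𝟙 (koszulCx M l)) (f • 𝟙 (koszulCx N l)) (kmapM g l) (kmapM g l)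
      (by rw [Linear.smul_comp, Category.id_comp, Linear.comp_smul, Category.comp_id])

/-- Degreewise short exactness for the quotient by a regular element. -/
structure QuotSeq (f : A) {X Y : ModuleCat.{u} A} (π : X ⟶ Y) : Prop where
  inj : Function.Injective fun x : X => f • x
  surj : Function.Surjective π
  ker : ∀ x : X, π x = 0 ↔ ∃ x' : X, f • x' = x

variable {M N : ModuleCat.{u} A} {g : M ⟶ N}

theorem quotSeq_kmapM {f : A} (hg : QuotSeq f g) : ∀ (xs : List A) (k : ℤ), QuotSeq f ((kmapM g xs).f k)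
  | [], k => by
    by_cases hk : k = 0
    · subst hk
      let eM := (HomologicalComplex.singleObjXSelf (ComplexShape.up ℤ) 0 M).toLinearEquiv
      let eN := (HomologicalComplex.singleObjXSelf (ComplexShape.up ℤ) 0 N).toLinearEquiv
      have h : ∀ x, eN ((kmapM g []).f 0 x) = g (eM x) := fun x => by
        have h' : (kmapM g []).f 0 ≫ (HomologicalComplex.singleObjXSelf (ComplexShape.up ℤ) 0 N).hom =
            (HomologicalComplex.singleObjXSelf (ComplexShape.up ℤ) 0 M).hom ≫ g := by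
          rw [kmapM, HomologicalComplex.single_map_f_self]; simp
        exact ConcreteCategory.congr_hom h' x
      refine ⟨fun x y hxy => eM.injective (hg.inj ?_), fun y => ?_, fun x => ?_⟩
      · exact ((map_smul eM f x).symm.trans (congrArg eM hxy)).trans (map_smul eM f y)
      · obtain ⟨m, hm⟩ := hg.surj (eN y)
        exact ⟨eM.symm m, eN.injective ((h _).trans (by rw [LinearEquiv.apply_symm_apply]; exact hm))⟩
      · refine ((map_eq_zero_iff eN eN.injective).symm.trans ((Eq.congr_left (h x)).trans (hg.ker _))).trans ?_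
        exact ⟨fun ⟨m, hm⟩ => ⟨eM.symm m, eM.injective (by rw [map_smul, LinearEquiv.apply_symm_apply, hm])⟩,
          fun ⟨x', hx'⟩ => ⟨eM x', by rw [← map_smul, hx']⟩⟩
    · haveI := subsingleton_X M ([] : List A) k (by simp; omega)
      haveI := subsingleton_X N ([] : List A) k (by simp; omega)
      exact ⟨fun _ _ _ => Subsingleton.elim _ _, fun y => ⟨0, Subsingleton.elim _ _⟩,
        fun x => iff_of_true (Subsingleton.elim _ _) ⟨0, Subsingleton.elim _ _⟩⟩
  | a :: l, k => by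
    have h₁ := quotSeq_kmapM hg l (k + 1)
    have h₂ := quotSeq_kmapM hg l k
    refine ⟨fun x y hxy => cone_ext (a • 𝟙 (koszulCx M l)) rfl (h₁.inj ?_) (h₂.inj ?_), fun y => ?_,
      fun x => ⟨fun hx => ?_, ?_⟩⟩
    · exact ((map_smul _ f x).symm.trans (congrArg _ hxy)).trans (map_smul _ f y)
    · exact ((map_smul _ f x).symm.trans (congrArg _ hxy)).trans (map_smul _ f y)
    · obtain ⟨p, hp⟩ := h₁.surj (cfst (a • 𝟙 (koszulCx N l)) k (k + 1) rfl y)
      obtain ⟨q, hq⟩ := h₂.surj (csnd (a • 𝟙 (koszulCx N l)) k y)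
      refine ⟨cmk (a • 𝟙 (koszulCx M l)) k (k + 1) rfl p q, cone_ext (a • 𝟙 (koszulCx N l)) rfl
        ((cfst_map _ _ _ _ _ rfl _).trans ?_) ((csnd_map _ _ _ _ _ _).trans ?_)⟩
      · rw [cfst_cmk]; exact hp
      · rw [csnd_cmk]; exact hq
    · obtain ⟨p, hp⟩ := (h₁.ker _).mp ((cfst_map _ _ _ _ _ rfl x).symm.trans
        ((congrArg (cfst (a • 𝟙 (koszulCx N l)) k (k + 1) rfl) hx).trans (map_zero _)))
      obtain ⟨q, hq⟩ := (h₂.ker _).mp ((csnd_map _ _ _ _ _ x).symm.trans
        ((congrArg (csnd (a • 𝟙 (koszulCx N l)) k) hx).trans (map_zero _)))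
      exact ⟨cmk (a • 𝟙 (koszulCx M l)) k (k + 1) rfl p q, cone_ext (a • 𝟙 (koszulCx M l)) rfl
        (by rw [map_smul, cfst_cmk]; exact hp) (by rw [map_smul, csnd_cmk]; exact hq)⟩
    · rintro ⟨x', rfl⟩
      refine cone_ext (a • 𝟙 (koszulCx N l)) rfl ((cfst_map _ _ _ _ _ rfl _).trans ?_)
        ((csnd_map _ _ _ _ _ _).trans ?_)
      · rw [map_zero, map_smul]; exact (h₁.ker _).mpr ⟨_, rfl⟩
      · rw [map_zero, map_smul]; exact (h₂.ker _).mpr ⟨_, rfl⟩

variable {K L : CochainComplex (ModuleCat.{u} A) ℤ} {π : K ⟶ L} {f : A}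

/-- The cone of multiplication by a regular element is the quotient. -/
theorem hBij_cone_quot (hπ : ∀ k, QuotSeq f (π.f k)) (ψ : mappingCone (f • 𝟙 K) ⟶ L)
    (hψ : ∀ k x, ψ.f k x = π.f k (csnd (f • 𝟙 K) k x)) : HBij ψ := by
  have dπ : ∀ i k (a : K.X i), L.d i k (π.f i a) = π.f k (K.d i k a) := fun i k a =>
    ConcreteCategory.congr_hom (π.comm i k) a
  constructor
  · intro i k l hik hkl x hx w hw
    obtain ⟨v, rfl⟩ := (hπ i).surj w
    have h0 : π.f k (csnd (f • 𝟙 K) k x - K.d i k v) = 0 := by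
      rw [map_sub, ← hψ, hw, dπ, sub_self]
    obtain ⟨a', ha'⟩ := ((hπ k).ker _).mp h0
    have h1 : f • cfst (f • 𝟙 K) k l hkl x + K.d k l (csnd (f • 𝟙 K) k x) = 0 := by
      rw [← smulId_f_apply, ← csnd_d (f • 𝟙 K) hkl, hx, map_zero]
    have ha : cfst (f • 𝟙 K) k l hkl x = -(K.d k l a') := by
      apply (hπ l).inj
      show f • _ = f • _
      rw [eq_neg_of_add_eq_zero_left h1, smul_neg, ← map_smul, ha', map_sub,
        cls_sub_boundary' hik hkl, sub_zero]
    refine ⟨cmk (f • 𝟙 K) i k hik a' v, cone_ext _ hkl ?_ ?_⟩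
    · rw [cfst_d _ hik hkl, cfst_cmk, ha]
    · rw [csnd_d _ hik, cfst_cmk, csnd_cmk, smulId_f_apply, ha', sub_add_cancel]
  · intro i k l hik hkl y hy
    obtain ⟨b, rfl⟩ := (hπ k).surj y
    obtain ⟨c, hc⟩ := ((hπ l).ker _).mp ((dπ k l b).symm.trans hy)
    obtain ⟨m, hm⟩ : ∃ m, l + 1 = m := ⟨_, rfl⟩
    refine ⟨cmk (f • 𝟙 K) k l hkl (-c) b, 0, cone_ext _ hm ?_ ?_, ?_⟩
    · rw [cfst_d _ hkl hm, cfst_cmk, map_neg, neg_neg, map_zero]
      apply (hπ m).inj
      show f • _ = f • _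
      rw [← map_smul, hc, smul_zero]
      exact cls_sub_boundary' hkl hm b
    · rw [csnd_d _ hkl, cfst_cmk, csnd_cmk, smulId_f_apply, smul_neg, hc, neg_add_cancel, map_zero]
    · rw [map_zero, add_zero, hψ, csnd_cmk]
where
  cls_sub_boundary' {i k l : ℤ} (_ : i + 1 = k) (_ : k + 1 = l) (v : K.X i) : K.d k l (K.d i k v) = 0 :=
    ConcreteCategory.congr_hom (K.d_comp_d i k l) v

/-- Projection of the cone to the quotient. -/
def quotProj (hπ : ∀ k, QuotSeq f (π.f k)) : mappingCone (f • 𝟙 K) ⟶ L :=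
  mappingCone.desc (f • 𝟙 K) 0 π (by
    ext k x
    rw [HomComplex.δ_zero, HomComplex.Cochain.ofHom_v]
    exact (((hπ k).ker _).mpr ⟨x, rfl⟩).symm)

theorem quotProj_f (hπ : ∀ k, QuotSeq f (π.f k)) (k : ℤ) (x : (mappingCone (f • 𝟙 K)).X k) :
    (quotProj hπ).f k x = π.f k (csnd (f • 𝟙 K) k x) := by
  rw [quotProj, mappingCone.desc_f _ _ _ _ k (k + 1) rfl]
  simp [csnd]

theorem isZero_homology_iff (K : CochainComplex (ModuleCat.{u} A) ℤ) {i k l : ℤ} (hik : i + 1 = k)
    (hkl : k + 1 = l) :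
    IsZero (K.homology k) ↔ ∀ x : K.X k, K.d k l x = 0 → ∃ w : K.X i, K.d i k w = x := by
  subst hkl
  constructor
  · intro h x hx
    haveI := ModuleCat.subsingleton_of_isZero h
    exact (cls_eq_zero hik ⟨x, mem_zmod hx⟩).mp (Subsingleton.elim _ _)
  · intro h
    haveI : Subsingleton (K.homology k) := subsingleton_of_forall_eq 0 fun z => by
      obtain ⟨x, rfl⟩ := cls_surjective K k z
      exact (cls_eq_zero hik x).mpr (h x.1 (zmod_d rfl x))
    exact ModuleCat.isZero_of_subsingleton _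

theorem isZero_homology_quot_iff (hπ : ∀ k, QuotSeq f (π.f k)) (H : Homotopy (f • 𝟙 K) 0) (k : ℤ) :
    IsZero (L.homology k) ↔ IsZero (K.homology k) ∧ IsZero (K.homology (k + 1)) := by
  obtain ⟨h, e⟩ := exists_family_of_homotopy H
  have dπ : ∀ i k (a : K.X i), L.d i k (π.f i a) = π.f k (K.d i k a) := fun i k a =>
    ConcreteCategory.congr_hom (π.comm i k) a
  have dd : ∀ i k l (a : K.X i), K.d k l (K.d i k a) = 0 := fun i k l a =>
    ConcreteCategory.congr_hom (K.d_comp_d i k l) a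
  obtain ⟨i, hi⟩ : ∃ i, i + 1 = k := ⟨k - 1, by omega⟩
  rw [isZero_homology_iff L hi rfl, isZero_homology_iff K hi rfl,
    isZero_homology_iff K (rfl : k + 1 = k + 1) (rfl : k + 1 + 1 = k + 1 + 1)]
  refine ⟨fun hL => ⟨fun b hb => ?_, fun c hc => ?_⟩, fun ⟨h₁, h₂⟩ y hy => ?_⟩
  · obtain ⟨w, hw⟩ := hL (π.f k b) (by rw [dπ, hb, map_zero])
    obtain ⟨v, rfl⟩ := (hπ i).surj w
    obtain ⟨c, hc⟩ := ((hπ k).ker (b - K.d i k v)).mp (by rw [map_sub, ← dπ, hw, sub_self])
    have hdc : K.d k (k + 1) c = 0 := by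
      apply (hπ (k + 1)).inj
      show f • _ = f • _
      rw [← map_smul, hc, map_sub, hb, dd, sub_zero, smul_zero]
    have h1 : f • c = K.d i k (h k i hi c) := by
      rw [← smulId_f_apply, e k i (k + 1) hi rfl c, hdc, map_zero, zero_add]
    exact ⟨v + h k i hi c, by rw [map_add, ← h1, hc, add_sub_cancel]⟩
  · have h1 : f • c = K.d k (k + 1) (h (k + 1) k rfl c) := by
      rw [← smulId_f_apply, e (k + 1) k (k + 1 + 1) rfl rfl c, hc, map_zero, zero_add]
    obtain ⟨w, hw⟩ := hL (π.f k (h (k + 1) k rfl c)) (by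
      rw [dπ, ← h1]; exact ((hπ (k + 1)).ker _).mpr ⟨c, rfl⟩)
    obtain ⟨v, rfl⟩ := (hπ i).surj w
    obtain ⟨c', hc'⟩ := ((hπ k).ker (h (k + 1) k rfl c - K.d i k v)).mp (by
      rw [map_sub, ← dπ, hw, sub_self])
    refine ⟨c', (hπ (k + 1)).inj ?_⟩
    show f • _ = f • _
    rw [← map_smul, hc', map_sub, dd, sub_zero, h1]
  · obtain ⟨b, rfl⟩ := (hπ k).surj y
    obtain ⟨c, hc⟩ := ((hπ (k + 1)).ker _).mp ((dπ k (k + 1) b).symm.trans hy)
    have hdc : K.d (k + 1) (k + 1 + 1) c = 0 := by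
      apply (hπ (k + 1 + 1)).inj
      show f • _ = f • _
      rw [← map_smul, hc, dd, smul_zero]
    obtain ⟨c', hc'⟩ := h₂ c hdc
    obtain ⟨v, hv⟩ := h₁ (b - f • c') (by rw [map_sub, map_smul, hc', hc, sub_self])
    refine ⟨π.f i v, ?_⟩
    rw [dπ, hv, map_sub, sub_eq_self]
    exact ((hπ k).ker _).mpr ⟨c', rfl⟩

theorem quotSeq_quotSMulTop {M : Type u} [AddCommGroup M] [Module A M] {f : A} (h : IsSMulRegular M f) :
    QuotSeq f (ModuleCat.ofHom (f • (⊤ : Submodule A M)).mkQ :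
      ModuleCat.of A M ⟶ ModuleCat.of A (QuotSMulTop f M)) where
  inj := h
  surj := Submodule.mkQ_surjective _
  ker x := (Submodule.Quotient.mk_eq_zero _).trans
    ((Submodule.mem_smul_pointwise_iff_exists _ _ _).trans
      ⟨fun ⟨m, _, hm⟩ => ⟨m, hm⟩, fun ⟨m, hm⟩ => ⟨m, trivial, hm⟩⟩)

theorem isZero_of_isWeaklyRegular : ∀ (fs : List A) (M : Type u) [AddCommGroup M] [Module A M],
    RingTheory.Sequence.IsWeaklyRegular M fs → ∀ k : ℤ, k ≠ 0 →
      IsZero ((koszulCx (ModuleCat.of A M) fs).homology k)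
  | [], M, _, _, _, k, hk => (isZero_homology_iff _ (show k - 1 + 1 = k by omega) rfl).mpr fun x _ => by
      haveI := subsingleton_X (ModuleCat.of A M) ([] : List A) k (by simp; omega)
      exact ⟨0, Subsingleton.elim _ _⟩
  | f :: l, M, _, _, hreg, k, hk => by
    obtain ⟨hf, hl⟩ := (RingTheory.Sequence.isWeaklyRegular_cons_iff M f l).mp hreg
    let hπ := quotSeq_kmapM (quotSeq_quotSMulTop hf) l
    exact (isZero_of_isWeaklyRegular l (QuotSMulTop f M) hl k hk).of_iso
      (LinearEquiv.ofBijective _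
        ((hBij_cone_quot hπ (quotProj hπ) (quotProj_f hπ)).bijective_homologyMap k)).toModuleIso

theorem exists_bottom (M : ModuleCat.{u} A) : ∀ (xs : List A) (k n : ℤ), k = -(xs.length : ℤ) → k + 1 = n →
    ∃ β : M ≃ₗ[A] (koszulCx M xs).X k, ∀ m, (koszulCx M xs).d k n (β m) = 0 ↔ ∀ a ∈ xs, a • m = 0
  | [], k, n, hk, hn => by
    obtain rfl : k = 0 := by simpa using hk
    haveI := subsingleton_X M ([] : List A) n (Or.inl (by omega))
    exact ⟨(HomologicalComplex.singleObjXSelf (ComplexShape.up ℤ) 0 M).toLinearEquiv.symm,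
      fun m => iff_of_true (Subsingleton.elim _ _) fun a ha => absurd ha List.not_mem_nil⟩
  | f :: l, k, n, hk, hn => by
    have hk' : n = -(l.length : ℤ) := by simp at hk; omega
    haveI := subsingleton_X M l k (Or.inr (by omega))
    obtain ⟨β, hβ⟩ := exists_bottom M l n (n + 1) hk' rfl
    refine ⟨{ toFun := fun m => cmk (f • 𝟙 (koszulCx M l)) k n hn (β m) 0
              invFun := fun x => β.symm (cfst (f • 𝟙 (koszulCx M l)) k n hn x)
              map_add' := fun a b => cone_ext _ hn (by simp [map_add, cfst_cmk]) (Subsingleton.elim _ _)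
              map_smul' := fun r a => cone_ext _ hn (by simp [map_smul, cfst_cmk]) (Subsingleton.elim _ _)
              left_inv := fun m => by simp [cfst_cmk]
              right_inv := fun x => cone_ext _ hn (by simp [cfst_cmk]) (Subsingleton.elim _ _) }, fun m => ?_⟩
    show (mappingCone (f • 𝟙 (koszulCx M l))).d k n (cmk (f • 𝟙 (koszulCx M l)) k n hn (β m) 0) = 0 ↔ _
    have e₁ := cfst_d (f • 𝟙 (koszulCx M l)) hn (rfl : n + 1 = n + 1)
      (cmk (f • 𝟙 (koszulCx M l)) k n hn (β m) 0)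
    have e₂ := csnd_d (f • 𝟙 (koszulCx M l)) hn (cmk (f • 𝟙 (koszulCx M l)) k n hn (β m) 0)
    rw [cfst_cmk] at e₁
    rw [cfst_cmk, csnd_cmk, map_zero, add_zero, smulId_f_apply, ← map_smul] at e₂
    rw [List.forall_mem_cons]
    refine ⟨fun h => ⟨?_, (hβ m).mp ?_⟩, fun ⟨h₁, h₂⟩ => cone_ext _ (rfl : n + 1 = n + 1) ?_ ?_⟩
    · exact β.injective ((e₂.symm.trans ((congrArg _ h).trans (map_zero _))).trans (map_zero β).symm)
    · exact neg_eq_zero.mp (e₁.symm.trans ((congrArg _ h).trans (map_zero _)))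
    · rw [map_zero]; exact e₁.trans (by rw [(hβ m).mpr h₂, neg_zero])
    · rw [map_zero]; exact e₂.trans (by rw [h₁, map_zero])

theorem not_isZero_bottom_iff (M : ModuleCat.{u} A) (xs : List A) :
    ¬ IsZero ((koszulCx M xs).homology (-(xs.length : ℤ))) ↔ ∃ m : M, m ≠ 0 ∧ ∀ a ∈ xs, a • m = 0 := by
  obtain ⟨k, hk⟩ : ∃ k : ℤ, k = -(xs.length : ℤ) := ⟨_, rfl⟩
  rw [← hk]
  obtain ⟨β, hβ⟩ := exists_bottom M xs k (k + 1) hk rfl
  haveI := subsingleton_X M xs (k - 1) (Or.inr (by omega))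
  rw [isZero_homology_iff _ (show k - 1 + 1 = k by omega) rfl]
  constructor
  · intro h
    by_contra hne
    push Not at hne
    refine h fun x hx => ?_
    obtain ⟨m, rfl⟩ := β.surjective x
    have hm : m = 0 := by
      by_contra hm
      obtain ⟨a, ha, ham⟩ := hne m hm
      exact ham ((hβ m).mp hx a ha)
    exact ⟨0, by rw [map_zero, hm, map_zero]⟩
  · rintro ⟨m, hm, hm'⟩ h
    obtain ⟨w, hw⟩ := h (β m) ((hβ m).mpr hm')
    rw [Subsingleton.elim w 0, map_zero] at hw
    exact hm (β.injective (hw.symm.trans (map_zero β).symm))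

open RingTheory.Sequence Depth in
theorem depth_of_isMaxSeq [IsNoetherianRing A] (xs : List A) : ∀ (rs : List A) (M : Type u)
    [AddCommGroup M] [Module A M], Depth.IsMaxSeq (Ideal.span {x | x ∈ xs}) M rs →
    (∀ p : ℕ, p < rs.length → IsZero (koszulH xs (ModuleCat.of A M) p)) ∧
      ¬ IsZero (koszulH xs (ModuleCat.of A M) rs.length)
  | [], M, _, _, h => by
    obtain ⟨-, -, x, hx, hx'⟩ := h
    simp only [Ideal.ofList_nil, Submodule.bot_smul, Submodule.mem_bot] at hx hx'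
    refine ⟨fun p hp => by simp at hp, ?_⟩
    show ¬ IsZero ((koszulCx (ModuleCat.of A M) xs).homology (((([] : List A).length : ℕ) : ℤ) - xs.length))
    rw [show (((([] : List A).length : ℕ)) : ℤ) - (xs.length : ℤ) = -(xs.length : ℤ) by simp]
    exact (not_isZero_bottom_iff _ xs).mpr ⟨x, hx, fun a ha => hx' a (Ideal.subset_span ha)⟩
  | f :: rs, M, _, _, h => by
    obtain ⟨hw, hm, x, hx, hx'⟩ := h
    simp only [List.mem_cons, forall_eq_or_imp] at hm
    obtain ⟨hf, hw'⟩ := (isWeaklyRegular_cons_iff M f rs).1 hw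
    let e := Submodule.quotOfListConsSMulTopEquivQuotSMulTopInner M f rs
    obtain ⟨y, hy⟩ := Submodule.Quotient.mk_surjective _ (e (Submodule.Quotient.mk x))
    have hmax : Depth.IsMaxSeq (Ideal.span {x | x ∈ xs}) (QuotSMulTop f M) rs := by
      refine ⟨hw', hm.2, y, fun hy' => hx ?_, fun a ha => ?_⟩
      · rw [← Submodule.Quotient.mk_eq_zero, hy] at hy'
        exact (Submodule.Quotient.mk_eq_zero _).1 (e.map_eq_zero_iff.1 hy')
      · rw [← Submodule.Quotient.mk_eq_zero, Submodule.Quotient.mk_smul, hy, ← map_smul,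
          ← Submodule.Quotient.mk_smul, (Submodule.Quotient.mk_eq_zero _).2 (hx' a ha), map_zero]
    obtain ⟨ih, ih'⟩ := depth_of_isMaxSeq xs rs (QuotSMulTop f M) hmax
    obtain ⟨H⟩ := nonempty_homotopy_smul (ModuleCat.of A M) xs f hm.1
    have key := isZero_homology_quot_iff (quotSeq_kmapM (quotSeq_quotSMulTop hf) xs) H
    have low : ∀ p : ℕ, p ≤ rs.length → IsZero (koszulH xs (ModuleCat.of A M) p) := fun p hp => by
      obtain rfl | ⟨q, rfl⟩ : p = 0 ∨ ∃ q, p = q + 1 := by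
        cases p with
        | zero => exact Or.inl rfl
        | succ q => exact Or.inr ⟨q, rfl⟩
      · by_contra hne
        change ¬ IsZero ((koszulCx (ModuleCat.of A M) xs).homology (((0 : ℕ) : ℤ) - xs.length)) at hne
        rw [show (((0 : ℕ)) : ℤ) - (xs.length : ℤ) = -(xs.length : ℤ) by simp] at hne
        obtain ⟨m, hm0, hm'⟩ := (not_isZero_bottom_iff _ xs).mp hne
        have : f • m = 0 := by
          refine Submodule.span_induction (p := fun a _ => a • m = 0) (fun a ha => hm' a ha) (zero_smul A m)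
            (fun a b _ _ ha hb => by rw [add_smul, ha, hb, add_zero])
            (fun r a _ ha => by rw [smul_eq_mul, mul_smul, ha, smul_zero]) hm.1
        exact hm0 (hf (this.trans (smul_zero f).symm))
      · have := ((key _).mp (ih q (by omega))).2
        show IsZero ((koszulCx (ModuleCat.of A M) xs).homology (((q + 1 : ℕ) : ℤ) - xs.length))
        rwa [show ((q + 1 : ℕ) : ℤ) - (xs.length : ℤ) = (q : ℤ) - xs.length + 1 by push_cast; ring]
    refine ⟨fun p hp => low p (by simpa [Nat.lt_succ_iff] using hp), fun hz => ih' ((key _).mpr ⟨low _ le_rfl, ?_⟩)⟩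
    change IsZero ((koszulCx (ModuleCat.of A M) xs).homology ((((f :: rs).length : ℕ) : ℤ) - xs.length)) at hz
    rwa [show ((rs.length : ℤ) - xs.length + 1) = (((f :: rs).length : ℕ) : ℤ) - xs.length by simp; ring]

end Groth.Agent.KoszulCech
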