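import Groth.Agent.KoszulCech.Cone
import Groth.Prelude.Def_ega3

/-!
# The stable Koszul complex attached to a list of opens
-/

set_option linter.style.haveILetI false
set_option backward.isDefEq.respectTransparency false

universe u

open CategoryTheory CochainComplex Opposite TopologicalSpace

noncomputable section

namespace Groth.Agent.KoszulCech

variable {A : Type u} [CommRing A] {T : Type u} [TopologicalSpace T]

section

variable (F : (Opens T)ᵒᵖ ⥤ CochainComplex (ModuleCat.{u} A) ℤ) (g : Opens T)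

/-- Restriction to the intersection with `g`. -/
abbrev toInf (V : Opens T) : F.obj (op V) ⟶ F.obj (op (V ⊓ g)) :=
  F.map (homOfLE (inf_le_left : V ⊓ g ≤ V)).op

theorem toInf_comm {V W : (Opens T)ᵒᵖ} (h : V ⟶ W) :
    toInf F g V.unop ≫ F.map (homOfLE (inf_le_inf_right g h.unop.le)).op = F.map h ≫ toInf F g W.unop := by
  refine (F.map_comp _ _).symm.trans (Eq.trans ?_ (F.map_comp _ _))
  exact congrArg _ (Subsingleton.elim _ _)

/-- The cone of the restriction to the intersection with `g`. -/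
def coneF : (Opens T)ᵒᵖ ⥤ CochainComplex (ModuleCat.{u} A) ℤ where
  obj V := mappingCone (toInf F g V.unop)
  map {V W} h := mappingCone.map _ _ (F.map h)
    (F.map (homOfLE (inf_le_inf_right g h.unop.le)).op) (toInf_comm F g h)
  map_id V := by
    refine Eq.trans ?_ (mappingCone.map_id _)
    congr 1
    · exact F.map_id _
    · exact (congrArg F.map (Subsingleton.elim _ _)).trans (F.map_id _)
  map_comp {U V W} h k := by
    refine Eq.trans ?_ (mappingCone.map_comp (φ₁ := toInf F g U.unop) (φ₂ := toInf F g V.unop)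
      (φ₃ := toInf F g W.unop) _ _ (toInf_comm F g h) _ _ (toInf_comm F g k))
    congr 1
    · exact F.map_comp _ _
    · exact (congrArg F.map (Subsingleton.elim _ _)).trans (F.map_comp _ _)

end

variable (P : (Opens T)ᵒᵖ ⥤ ModuleCat.{u} A)

/-- The stable Koszul complex. -/
def S : List (Opens T) → (Opens T)ᵒᵖ ⥤ CochainComplex (ModuleCat.{u} A) ℤ
  | [] => P ⋙ HomologicalComplex.single (ModuleCat.{u} A) (ComplexShape.up ℤ) 0
  | g :: l => coneF (S l) g

/-- Localization at `f`, by elements. -/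
structure Loc (f : A) {M N : ModuleCat.{u} A} (φ : M ⟶ N) : Prop where
  bij : Function.Bijective fun y : N => f • y
  extend : ∀ y : N, ∃ (j : ℕ) (x : M), f ^ j • y = φ x
  kill : ∀ x : M, φ x = 0 → ∃ j : ℕ, f ^ j • x = 0

/-- The sections localize at the basic opens. -/
structure Setting (D : A → Opens T) : Prop where
  mul : ∀ a b, D (a * b) = D a ⊓ D b
  loc : ∀ a f, Loc f (P.map (homOfLE (inf_le_left : D a ⊓ D f ≤ D a)).op)

theorem single_f_eq (X Y : ModuleCat.{u} A) (φ : X ⟶ Y)
    (x : ((HomologicalComplex.single (ModuleCat.{u} A) (ComplexShape.up ℤ) 0).obj X).X 0) :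
    (HomologicalComplex.singleObjXSelf (ComplexShape.up ℤ) 0 Y).hom
      (((HomologicalComplex.single (ModuleCat.{u} A) (ComplexShape.up ℤ) 0).map φ).f 0 x) =
      φ ((HomologicalComplex.singleObjXSelf (ComplexShape.up ℤ) 0 X).hom x) := by
  have h := HomologicalComplex.single_map_f_self (c := ComplexShape.up ℤ) 0 φ
  have h' : ((HomologicalComplex.single (ModuleCat.{u} A) (ComplexShape.up ℤ) 0).map φ).f 0 ≫
      (HomologicalComplex.singleObjXSelf (ComplexShape.up ℤ) 0 Y).hom =
      (HomologicalComplex.singleObjXSelf (ComplexShape.up ℤ) 0 X).hom ≫ φ := by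
    rw [h]; simp
  exact ConcreteCategory.congr_hom h' x

theorem subsingleton_single (X : ModuleCat.{u} A) {k : ℤ} (hk : k ≠ 0) :
    Subsingleton (((HomologicalComplex.single (ModuleCat.{u} A) (ComplexShape.up ℤ) 0).obj X).X k) :=
  ModuleCat.subsingleton_of_isZero (HomologicalComplex.isZero_single_obj_X _ _ _ _ hk)

theorem singleObjXSelf_injective (X : ModuleCat.{u} A) :
    Function.Injective (HomologicalComplex.singleObjXSelf (ComplexShape.up ℤ) 0 X).hom :=
  (HomologicalComplex.singleObjXSelf (ComplexShape.up ℤ) 0 X).toLinearEquiv.injective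

theorem singleObjXSelf_surjective (X : ModuleCat.{u} A) :
    Function.Surjective (HomologicalComplex.singleObjXSelf (ComplexShape.up ℤ) 0 X).hom :=
  (HomologicalComplex.singleObjXSelf (ComplexShape.up ℤ) 0 X).toLinearEquiv.surjective

theorem loc_single {f : A} {X Y : ModuleCat.{u} A} {φ : X ⟶ Y} (h : Loc f φ) (k : ℤ) :
    Loc f (((HomologicalComplex.single (ModuleCat.{u} A) (ComplexShape.up ℤ) 0).map φ).f k) := by
  by_cases hk : k = 0
  · subst hk
    have ey := singleObjXSelf_injective (A := A) Y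
    refine ⟨⟨fun y z hyz => ey (h.bij.1 ?_), fun y => ?_⟩, fun y => ?_, fun x hx => ?_⟩
    · exact ((map_smul _ _ _).symm.trans (congrArg _ hyz)).trans (map_smul _ _ _)
    · obtain ⟨z, hz⟩ := h.bij.2 ((HomologicalComplex.singleObjXSelf (ComplexShape.up ℤ) 0 Y).hom y)
      obtain ⟨z, rfl⟩ := singleObjXSelf_surjective Y z
      exact ⟨z, ey ((map_smul _ _ _).trans hz)⟩
    · obtain ⟨j, x, hx⟩ := h.extend ((HomologicalComplex.singleObjXSelf (ComplexShape.up ℤ) 0 Y).hom y)
      obtain ⟨x, rfl⟩ := singleObjXSelf_surjective X x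
      exact ⟨j, x, ey ((map_smul _ _ _).trans (hx.trans (single_f_eq X Y φ x).symm))⟩
    · obtain ⟨j, hj⟩ := h.kill ((HomologicalComplex.singleObjXSelf (ComplexShape.up ℤ) 0 X).hom x)
        ((single_f_eq X Y φ x).symm.trans ((congrArg _ hx).trans (map_zero _)))
      exact ⟨j, singleObjXSelf_injective X ((map_smul _ _ _).trans (hj.trans (map_zero _).symm))⟩
  · haveI := subsingleton_single X hk
    haveI := subsingleton_single Y hk
    exact ⟨⟨fun _ _ _ => Subsingleton.elim _ _, fun y => ⟨y, Subsingleton.elim _ _⟩⟩,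
      fun y => ⟨0, 0, Subsingleton.elim _ _⟩, fun x _ => ⟨0, Subsingleton.elim _ _⟩⟩

theorem loc_cone {f : A} {K L K' L' : CochainComplex (ModuleCat.{u} A) ℤ} {φ : K ⟶ L} {φ' : K' ⟶ L'}
    {p : K ⟶ K'} {q : L ⟶ L'} (comm : φ ≫ q = p ≫ φ') (hp : ∀ k, Loc f (p.f k))
    (hq : ∀ k, Loc f (q.f k)) (k : ℤ) : Loc f ((mappingCone.map φ φ' p q comm).f k) := by
  refine ⟨⟨fun y z hyz => cone_ext φ' rfl ((hp (k + 1)).bij.1 ?_) ((hq k).bij.1 ?_), fun y => ?_⟩,
    fun y => ?_, fun x hx => ?_⟩
  · exact (map_smul (cfst φ' k _ rfl) f y).symm.trans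
      ((congrArg (cfst φ' k _ rfl) hyz).trans (map_smul _ _ _))
  · exact (map_smul (csnd φ' k) f y).symm.trans ((congrArg (csnd φ' k) hyz).trans (map_smul _ _ _))
  · obtain ⟨a, ha⟩ := (hp (k + 1)).bij.2 (cfst φ' k _ rfl y)
    obtain ⟨b, hb⟩ := (hq k).bij.2 (csnd φ' k y)
    refine ⟨cmk φ' k _ rfl a b, cone_ext φ' rfl ?_ ?_⟩
    · rw [map_smul, cfst_cmk]; exact ha
    · rw [map_smul, csnd_cmk]; exact hb
  · obtain ⟨i, a, ha⟩ := (hp (k + 1)).extend (cfst φ' k _ rfl y)
    obtain ⟨j, b, hb⟩ := (hq k).extend (csnd φ' k y)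
    refine ⟨i + j, cmk φ k _ rfl (f ^ j • a) (f ^ i • b), cone_ext φ' rfl ?_ ?_⟩
    · rw [map_smul, cfst_map, cfst_cmk, map_smul, ← ha, smul_smul, pow_add, mul_comm]
    · rw [map_smul, csnd_map, csnd_cmk, map_smul, ← hb, smul_smul, pow_add]
  · obtain ⟨i, hi⟩ := (hp (k + 1)).kill (cfst φ k _ rfl x)
      ((cfst_map φ φ' p q comm rfl x).symm.trans ((congrArg _ hx).trans (map_zero _)))
    obtain ⟨j, hj⟩ := (hq k).kill (csnd φ k x)
      ((csnd_map φ φ' p q comm x).symm.trans ((congrArg _ hx).trans (map_zero _)))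
    refine ⟨i + j, cone_ext φ rfl ?_ ?_⟩
    · rw [map_smul, map_zero, pow_add, mul_comm, mul_smul, hi, smul_zero]
    · rw [map_smul, map_zero, pow_add, mul_smul, hj, smul_zero]

variable {P} {D : A → Opens T} (hD : Setting P D)
include hD

theorem loc_S (f : A) : ∀ (l : List A) (V W : Opens T) (h : W ≤ V) (a : A), V = D a → W = D a ⊓ D f →
    ∀ k, Loc f (((S P (l.map D)).map (homOfLE h).op).f k)
  | [], _, _, _, a, rfl, rfl, k => loc_single (hD.loc a f) k
  | g :: l, V, W, h, a, hV, hW, k => by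
    subst hV hW
    exact loc_cone (toInf_comm (S P (l.map D)) (D g) (homOfLE h).op) (loc_S f l _ _ _ a rfl rfl) (loc_S f l _ _ _ (a * g) (hD.mul a g).symm (by
      show D a ⊓ D f ⊓ D g = D (a * g) ⊓ D f
      rw [hD.mul, inf_right_comm])) k

theorem bij_pow (f : A) (l : List A) (a : A) (n : ℕ) (k : ℤ) :
    Function.Bijective fun y : ((S P (l.map D)).obj (op (D a ⊓ D f))).X k => f ^ n • y := by
  have h := (loc_S hD f l _ _ inf_le_left a rfl rfl k).bij
  induction n with
  | zero => simp only [pow_zero, one_smul]; exact Function.bijective_id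
  | succ n ih => simp only [pow_succ, mul_smul]; exact ih.comp h

theorem isIso_smul (f : A) (l : List A) (a : A) (n : ℕ) :
    IsIso (f ^ n • 𝟙 ((S P (l.map D)).obj (op (D a ⊓ D f)))) := by
  haveI : ∀ k, IsIso ((f ^ n • 𝟙 ((S P (l.map D)).obj (op (D a ⊓ D f)))).f k) := fun k =>
    (ConcreteCategory.isIso_iff_bijective _).mpr (bij_pow hD f l a n k)
  exact HomologicalComplex.Hom.isIso_of_components _

/-- Division by `f ^ n`. -/
def divPow (f : A) (l : List A) (a : A) (n : ℕ) :
    (S P (l.map D)).obj (op (D a ⊓ D f)) ⟶ (S P (l.map D)).obj (op (D a ⊓ D f)) :=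
  haveI := isIso_smul hD f l a n
  inv (f ^ n • 𝟙 _)

theorem smul_comp_divPow (f : A) (l : List A) (a : A) (n : ℕ) {Z : CochainComplex (ModuleCat.{u} A) ℤ}
    (h : Z ⟶ (S P (l.map D)).obj (op (D a ⊓ D f))) : f ^ n • (h ≫ divPow hD f l a n) = h := by
  haveI := isIso_smul hD f l a n
  have e : (f ^ n • 𝟙 _) ≫ divPow hD f l a n = 𝟙 _ := IsIso.hom_inv_id _
  rw [Linear.smul_comp, Category.id_comp] at e
  rw [← Linear.comp_smul, e, Category.comp_id]

/-- From the Koszul complex of powers to the stable Koszul complex. -/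
def kmap (a : A) {M : ModuleCat.{u} A} (e : M ≅ P.obj (op (D a))) (n : ℕ) : ∀ l : List A,
    CohIII.koszulCx M (l.map (· ^ n)) ⟶ (S P (l.map D)).obj (op (D a))
  | [] => (HomologicalComplex.single (ModuleCat.{u} A) (ComplexShape.up ℤ) 0).map e.hom
  | f :: l => mappingCone.map (f ^ n • 𝟙 (CohIII.koszulCx M (l.map (· ^ n))))
      (toInf (S P (l.map D)) (D f) (D a)) (kmap a e n l)
      ((kmap a e n l ≫ toInf (S P (l.map D)) (D f) (D a)) ≫ divPow hD f l a n)
      (by rw [Linear.smul_comp, Category.id_comp, smul_comp_divPow])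

theorem kmap_cons_compat {a : A} {M : ModuleCat.{u} A} (e : M ≅ P.obj (op (D a))) {n m : ℕ} (h : n ≤ m) (f : A) (l : List A) {k : ℤ}
    (hl : ∀ x, (kmap hD a e m l).f k ((CohIII.koszulTrans _ n m h l).f k x) = (kmap hD a e n l).f k x)
    (x : (CohIII.koszulCx M (l.map (· ^ n))).X k) :
    ((kmap hD a e m l ≫ toInf (S P (l.map D)) (D f) (D a)) ≫ divPow hD f l a m).f k
      (f ^ (m - n) • (CohIII.koszulTrans _ n m h l).f k x) =
    ((kmap hD a e n l ≫ toInf (S P (l.map D)) (D f) (D a)) ≫ divPow hD f l a n).f k x := by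
  apply (bij_pow hD f l a m k).1
  have he : ∀ q y, f ^ q • (((kmap hD a e q l ≫ toInf (S P (l.map D)) (D f) (D a)) ≫ divPow hD f l a q).f k y) =
      (kmap hD a e q l ≫ toInf (S P (l.map D)) (D f) (D a)).f k y := fun q y =>
    ConcreteCategory.congr_hom (HomologicalComplex.congr_hom
      (smul_comp_divPow hD f l a q (kmap hD a e q l ≫ toInf (S P (l.map D)) (D f) (D a))) k) y
  have hpow : f ^ m = f ^ (m - n) * f ^ n := by rw [← pow_add, Nat.sub_add_cancel h]
  show f ^ m • _ = f ^ m • _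
  rw [map_smul, smul_comm, he m, hpow, mul_smul, he n]
  exact congrArg (fun y => f ^ (m - n) • ((toInf (S P (l.map D)) (D f) (D a)).f k y)) (hl x)

theorem kmap_isColim (a : A) {M : ModuleCat.{u} A} (e : M ≅ P.obj (op (D a))) : ∀ l : List A,
    IsColim (fun n m h => CohIII.koszulTrans M n m h l) (fun n => kmap hD a e n l)
  | [] => by
    have hb : ∀ k, Function.Bijective
        (((HomologicalComplex.single (ModuleCat.{u} A) (ComplexShape.up ℤ) 0).map e.hom).f k) :=
      fun k => (ConcreteCategory.isIso_iff_bijective _).mp inferInstance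
    exact ⟨fun _ _ _ _ _ => rfl, fun k y => ⟨0, fun _ _ => (hb k).2 y⟩,
      fun _ k x hx => ⟨0, fun _ _ _ => (hb k).1 (hx.trans (map_zero _).symm)⟩⟩
  | f :: l => by
    have ih := kmap_isColim a e l
    have hf : ∀ n k (y : (CohIII.koszulCx M (l.map (· ^ n))).X k),
        f ^ n • (((kmap hD a e n l ≫ toInf (S P (l.map D)) (D f) (D a)) ≫ divPow hD f l a n).f k y) =
        (toInf (S P (l.map D)) (D f) (D a)).f k ((kmap hD a e n l).f k y) := fun n k y =>
      ConcreteCategory.congr_hom (HomologicalComplex.congr_hom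
        (smul_comp_divPow hD f l a n (kmap hD a e n l ≫ toInf (S P (l.map D)) (D f) (D a))) k) y
    refine ⟨fun n m h k x => ?_, fun k y => ?_, fun n k x hx => ?_⟩
    · refine cone_ext (toInf (S P (l.map D)) (D f) (D a)) rfl ?_ ?_
      · refine (cfst_map _ _ _ _ _ rfl _).trans (Eq.trans ?_ (cfst_map _ _ _ _ _ rfl _).symm)
        rw [show cfst (f ^ m • 𝟙 (CohIII.koszulCx M (l.map (· ^ m)))) k (k + 1) rfl
          ((CohIII.koszulTrans M n m h (f :: l)).f k x) = _ from cfst_map _ _ _ _ _ rfl x]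
        exact ih.compat n m h (k + 1) _
      · refine (csnd_map _ _ _ _ _ _).trans (Eq.trans ?_ (csnd_map _ _ _ _ _ _).symm)
        rw [show csnd (f ^ m • 𝟙 (CohIII.koszulCx M (l.map (· ^ m)))) k
          ((CohIII.koszulTrans M n m h (f :: l)).f k x) = _ from csnd_map _ _ _ _ _ x]
        exact kmap_cons_compat hD e h f l (ih.compat n m h k) _
    · obtain ⟨n₁, h₁⟩ := ih.surj (k + 1) (cfst (toInf (S P (l.map D)) (D f) (D a)) k (k + 1) rfl y)
      obtain ⟨j, s, hs⟩ := (loc_S hD f l _ _ inf_le_left a rfl rfl k).extend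
        (csnd (toInf (S P (l.map D)) (D f) (D a)) k y)
      obtain ⟨n₂, h₂⟩ := ih.surj k s
      refine ⟨max (max n₁ n₂) j, fun n hn => ?_⟩
      obtain ⟨x₁, hx₁⟩ := h₁ n (by omega)
      obtain ⟨x₂, hx₂⟩ := h₂ n (by omega)
      refine ⟨cmk _ k (k + 1) rfl x₁ (f ^ (n - j) • x₂), cone_ext (toInf (S P (l.map D)) (D f) (D a)) rfl
        ((cfst_map _ _ _ _ _ rfl _).trans ?_) ((csnd_map _ _ _ _ _ _).trans ?_)⟩
      · rw [cfst_cmk]; exact hx₁
      · rw [csnd_cmk]
        refine (bij_pow hD f l a n k).1 ((hf n k _).trans ?_)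
        rw [map_smul, map_smul, hx₂]
        show _ = f ^ n • _
        rw [show f ^ n = f ^ (n - j) * f ^ j by rw [← pow_add, Nat.sub_add_cancel (show j ≤ n by omega)],
          mul_smul, hs]
    · have h1 := (cfst_map _ _ _ _ _ rfl x).symm.trans
        ((congrArg (cfst (toInf (S P (l.map D)) (D f) (D a)) k (k + 1) rfl) hx).trans (map_zero _))
      have h2 := (csnd_map _ _ _ _ _ x).symm.trans
        ((congrArg (csnd (toInf (S P (l.map D)) (D f) (D a)) k) hx).trans (map_zero _))
      obtain ⟨m₁, hm₁⟩ := ih.inj n (k + 1) _ h1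
      have h3 : (toInf (S P (l.map D)) (D f) (D a)).f k ((kmap hD a e n l).f k
          (csnd (f ^ n • 𝟙 (CohIII.koszulCx M (l.map (· ^ n)))) k x)) = 0 := by
        rw [← hf n k]
        exact (congrArg (f ^ n • ·) h2).trans (smul_zero _)
      obtain ⟨j, hj⟩ := (loc_S hD f l _ _ inf_le_left a rfl rfl k).kill _ h3
      obtain ⟨m₂, hm₂⟩ := ih.inj n k _ ((map_smul _ (f ^ j) _).trans hj)
      refine ⟨max m₁ (max m₂ (n + j)), fun m h hm => ?_⟩
      refine cone_ext (f ^ m • 𝟙 (CohIII.koszulCx M (l.map (· ^ m)))) rfl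
        ((cfst_map _ _ _ _ _ rfl x).trans ?_) ((csnd_map _ _ _ _ _ x).trans ?_)
      · rw [map_zero]
        exact hm₁ m h (by omega)
      · rw [map_zero]
        show f ^ (m - n) • (CohIII.koszulTrans M n m h l).f k _ = 0
        rw [show f ^ (m - n) = f ^ (m - n - j) * f ^ j by rw [← pow_add]; congr 1; omega, mul_smul,
          ← map_smul, hm₂ m h (by omega), smul_zero]

/-- The limit of the Koszul cohomologies is the cohomology of the stable Koszul complex. -/
theorem nonempty_koszulHLim_equiv (a : A) {M : ModuleCat.{u} A} (e : M ≅ P.obj (op (D a))) (fs : List A) (p : ℕ) :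
    Nonempty (CohIII.koszulHLim fs M p ≃ₗ[A]
      ((S P (fs.map D)).obj (op (D a))).homology ((p : ℤ) - fs.length)) :=
  nonempty_directLimit_homology_equiv _ _ (kmap_isColim hD a e fs) _

end Groth.Agent.KoszulCech
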