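import Groth.Agent.KoszulCech.Basics
import Mathlib.RingTheory.MvPolynomial.Ideal
import Mathlib.LinearAlgebra.Finsupp.LinearCombination
import Mathlib.Algebra.Algebra.RestrictScalars

/-!
# The limit Koszul cohomology of a polynomial ring
-/

set_option linter.style.haveILetI false
set_option backward.isDefEq.respectTransparency false

universe u

open CategoryTheory CochainComplex CohIII Limits
open scoped Pointwise

noncomputable section

namespace Groth.Agent.KoszulCech

open Groth.Agent.LocCohLib

section General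

variable {A : Type u} [CommRing A] (M : ModuleCat.{u} A)

theorem koszulTrans_self (n : ℕ) : ∀ fs : List A, koszulTrans M n n le_rfl fs = 𝟙 _
  | [] => rfl
  | f :: l => by
    refine Eq.trans ?_ (mappingCone.map_id _)
    simp only [koszulTrans]
    congr 1
    · exact koszulTrans_self n l
    · rw [Nat.sub_self, pow_zero, one_smul]; exact koszulTrans_self n l

theorem koszulTrans_comp {a b c : ℕ} (h₁ : a ≤ b) (h₂ : b ≤ c) : ∀ fs : List A,
    koszulTrans M a b h₁ fs ≫ koszulTrans M b c h₂ fs = koszulTrans M a c (h₁.trans h₂) fs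
  | [] => Category.id_comp _
  | f :: l => by
    simp only [koszulTrans]
    refine (mappingCone.map_comp _ _ _ _ _ _ _ _ _).symm.trans ?_
    congr 1
    · exact koszulTrans_comp h₁ h₂ l
    · rw [Linear.smul_comp, Linear.comp_smul, smul_smul, ← pow_add, koszulTrans_comp h₁ h₂ l,
        show b - a + (c - b) = c - a by omega]

theorem directedSystem (fs : List A) (k : ℤ) :
    DirectedSystem (fun n : ℕ => ((koszulCx M (fs.map (· ^ n))).homology k : Type u))
      fun n m h => (HomologicalComplex.homologyMap (koszulTrans M n m h fs) k).hom where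
  map_self n x := by
    rw [koszulTrans_self, HomologicalComplex.homologyMap_id]
    rfl
  map_map a b c h₁ h₂ x := by
    rw [← koszulTrans_comp M h₁ h₂ fs, HomologicalComplex.homologyMap_comp]
    rfl

theorem kaug_koszulTrans {n m : ℕ} (h : n ≤ m) : ∀ (fs : List A)
    (x : (koszulCx M (fs.map (· ^ n))).X 0),
    kaug M (fs.map (· ^ m)) ((koszulTrans M n m h fs).f 0 x) =
      (fs.map (· ^ (m - n))).prod • kaug M (fs.map (· ^ n)) x
  | [], x => by
    simp only [List.map_nil, List.prod_nil, one_smul]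
    rfl
  | f :: l, x => by
    simp only [List.map_cons, List.prod_cons, mul_smul]
    show kaug M (l.map (· ^ m)) (csnd (f ^ m • 𝟙 (koszulCx M (l.map (· ^ m)))) 0
      ((koszulTrans M n m h (f :: l)).f 0 x)) = _
    rw [show csnd (f ^ m • 𝟙 (koszulCx M (l.map (· ^ m)))) 0 ((koszulTrans M n m h (f :: l)).f 0 x) = _ from
      csnd_map _ _ _ _ _ x]
    show kaug M (l.map (· ^ m)) (f ^ (m - n) • (koszulTrans M n m h l).f 0 _) = _
    rw [map_smul, kaug_koszulTrans h l]
    rfl

/-- The class of a top degree cochain. -/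
def cl0 (xs : List A) : (koszulCx M xs).X 0 →ₗ[A] (koszulCx M xs).homology 0 :=
  (cls (koszulCx M xs) 0).comp (LinearMap.id.codRestrict _ (mem_zmod_of_top M xs))

theorem ker_kaug_le (xs : List A) : LinearMap.ker (kaug M xs) ≤ LinearMap.ker (cl0 M xs) := fun x hx => by
  rw [LinearMap.mem_ker] at hx ⊢
  exact (cls_eq_zero (i := -1) (by omega) _).mpr ((kaug_mem_iff M xs x).mp (hx ▸ zero_mem _))

/-- Elements of the module as top degree classes. -/
def topCls (xs : List A) : M →ₗ[A] (koszulCx M xs).homology 0 :=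
  ((LinearMap.ker (kaug M xs)).liftQ (cl0 M xs) (ker_kaug_le M xs)).comp
    ((kaug M xs).quotKerEquivOfSurjective (kaug_surjective M xs)).symm.toLinearMap

theorem topCls_kaug (xs : List A) (x : (koszulCx M xs).X 0) : topCls M xs (kaug M xs x) = cl0 M xs x := by
  have h : ((kaug M xs).quotKerEquivOfSurjective (kaug_surjective M xs)).symm (kaug M xs x) =
      Submodule.Quotient.mk x := by
    rw [LinearEquiv.symm_apply_eq]; rfl
  show (LinearMap.ker (kaug M xs)).liftQ (cl0 M xs) (ker_kaug_le M xs) _ = _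
  erw [h]
  rfl

theorem topCls_surjective (xs : List A) : Function.Surjective (topCls M xs) := fun z => by
  obtain ⟨x, rfl⟩ := cls_surjective (koszulCx M xs) 0 z
  exact ⟨kaug M xs x.1, topCls_kaug M xs x.1⟩

theorem topCls_eq_zero_iff (xs : List A) (p : M) :
    topCls M xs p = 0 ↔ p ∈ Ideal.ofList xs • (⊤ : Submodule A M) := by
  obtain ⟨x, rfl⟩ := kaug_surjective M xs p
  rw [topCls_kaug]
  exact (cls_eq_zero (i := -1) (by omega) _).trans (kaug_mem_iff M xs x).symm

theorem homologyMap_topCls {n m : ℕ} (h : n ≤ m) (fs : List A) (p : M) :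
    (HomologicalComplex.homologyMap (koszulTrans M n m h fs) 0).hom (topCls M (fs.map (· ^ n)) p) =
      topCls M (fs.map (· ^ m)) ((fs.map (· ^ (m - n))).prod • p) := by
  obtain ⟨x, rfl⟩ := kaug_surjective M (fs.map (· ^ n)) p
  rw [topCls_kaug, ← kaug_koszulTrans M h fs x, topCls_kaug]
  exact homologyMap_cls _ _ _

end General

section Poly

open MvPolynomial RingTheory.Sequence

variable (A : Type u) [CommRing A] (r : ℕ)

/-- The variables. -/
abbrev vars : List (MvPolynomial (Fin (r + 1)) A) := List.ofFn fun j : Fin (r + 1) => X j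

theorem vars_map_pow (n : ℕ) :
    (vars A r).map (· ^ n) = List.ofFn fun j : Fin (r + 1) => (X j : MvPolynomial (Fin (r + 1)) A) ^ n := by
  rw [List.map_ofFn]; rfl

theorem prod_vars_pow (n : ℕ) :
    ((vars A r).map (· ^ n)).prod = monomial (Finsupp.equivFunOnFinite.symm fun _ => n) (1 : A) := by
  rw [vars_map_pow, List.prod_ofFn, monomial_eq, C_1, one_mul, Finsupp.prod_fintype _ _ (fun _ => pow_zero _)]
  rfl

theorem mem_span_pow_iff (s : Set (Fin (r + 1))) (n : ℕ) (p : MvPolynomial (Fin (r + 1)) A) :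
    p ∈ Ideal.span ((fun j => (X j : MvPolynomial (Fin (r + 1)) A) ^ n) '' s) ↔
      ∀ e ∈ p.support, ∃ j ∈ s, n ≤ e j := by
  have h : (fun j => (X j : MvPolynomial (Fin (r + 1)) A) ^ n) '' s =
      (fun e => monomial e (1 : A)) '' ((fun j => Finsupp.single j n) '' s) := by
    rw [Set.image_image]
    exact Set.image_congr fun j _ => X_pow_eq_monomial
  rw [h, mem_ideal_span_monomial_image]
  simp only [Set.exists_mem_image, Finsupp.single_le_iff]

theorem isWeaklyRegular_vars_pow (n : ℕ) :
    IsWeaklyRegular (MvPolynomial (Fin (r + 1)) A) ((vars A r).map (· ^ n)) := by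
  rw [vars_map_pow]
  refine ⟨fun i hi => ?_⟩
  rw [List.length_ofFn] at hi
  have hI : (Ideal.ofList ((List.ofFn fun j : Fin (r + 1) => (X j : MvPolynomial (Fin (r + 1)) A) ^ n).take i) •
      (⊤ : Submodule (MvPolynomial (Fin (r + 1)) A) (MvPolynomial (Fin (r + 1)) A))) =
      Ideal.span ((fun j => (X j : MvPolynomial (Fin (r + 1)) A) ^ n) '' {j : Fin (r + 1) | (j : ℕ) < i}) := by
    rw [smul_eq_mul, Ideal.mul_top, Ideal.ofList]
    congr 1
    ext p
    simp only [Set.mem_setOf_eq, List.mem_take_iff_getElem, List.getElem_ofFn, List.length_ofFn,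
      Set.mem_image]
    exact ⟨fun ⟨j, hj, hp⟩ => ⟨⟨j, by omega⟩, by simpa using (lt_min_iff.1 hj).1, hp⟩,
      fun ⟨j, hj, hp⟩ => ⟨j, lt_min hj j.2, hp⟩⟩
  rw [List.getElem_ofFn]
  refine (isSMulRegular_iff_right_eq_zero_of_smul).2 fun y hy => ?_
  obtain ⟨p, rfl⟩ := Submodule.Quotient.mk_surjective _ y
  rw [← Submodule.Quotient.mk_smul, Submodule.Quotient.mk_eq_zero, hI, smul_eq_mul,
    mem_span_pow_iff] at hy
  rw [Submodule.Quotient.mk_eq_zero, hI, mem_span_pow_iff]
  intro e he
  obtain ⟨t, ht, hte⟩ := hy (Finsupp.single (⟨i, hi⟩ : Fin (r + 1)) n + e) (by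
    rw [mem_support_iff, X_pow_eq_monomial, coeff_monomial_mul, one_mul]
    exact mem_support_iff.1 he)
  refine ⟨t, ht, ?_⟩
  have hti : t ≠ ⟨i, hi⟩ := fun e' => by
    rw [e'] at ht
    exact lt_irrefl _ (Set.mem_setOf_eq ▸ ht)
  rwa [Finsupp.add_apply, Finsupp.single_eq_of_ne hti, zero_add] at hte

theorem mem_ofList_smul_iff (n : ℕ) (p : MvPolynomial (Fin (r + 1)) A) :
    p ∈ Ideal.ofList ((vars A r).map (· ^ n)) •
        (⊤ : Submodule (MvPolynomial (Fin (r + 1)) A) (MvPolynomial (Fin (r + 1)) A)) ↔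
      ∀ e ∈ p.support, ∃ j, n ≤ e j := by
  rw [smul_eq_mul, Ideal.mul_top, Ideal.ofList, vars_map_pow]
  have h : {x | x ∈ List.ofFn fun j : Fin (r + 1) => (X j : MvPolynomial (Fin (r + 1)) A) ^ n} =
      (fun j => (X j : MvPolynomial (Fin (r + 1)) A) ^ n) '' Set.univ := by
    ext q; simp only [Set.mem_setOf_eq, List.mem_ofFn, Set.image_univ, Set.mem_range]
  rw [h, mem_span_pow_iff]
  simp

/-- The polynomial ring as a module over itself. -/
abbrev PM : ModuleCat.{u} (MvPolynomial (Fin (r + 1)) A) :=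
  ModuleCat.of (MvPolynomial (Fin (r + 1)) A) (MvPolynomial (Fin (r + 1)) A)

/-- The limit in a degree. -/
abbrev Lim (k : ℤ) : Type u :=
  Module.DirectLimit (fun n : ℕ => ((koszulCx (PM A r) ((vars A r).map (· ^ n))).homology k : Type u))
    fun n m h => (HomologicalComplex.homologyMap (koszulTrans (PM A r) n m h (vars A r)) k).hom

theorem subsingleton_lim {k : ℤ} (hk : k ≠ 0) : Subsingleton (Lim A r k) :=
  subsingleton_of_forall_eq 0 fun z => by
    obtain ⟨n, x, rfl⟩ := Module.DirectLimit.exists_of z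
    haveI := ModuleCat.subsingleton_of_isZero
      (isZero_of_isWeaklyRegular ((vars A r).map (· ^ n)) (MvPolynomial (Fin (r + 1)) A)
        (isWeaklyRegular_vars_pow A r n) k hk)
    rw [Subsingleton.elim x 0, map_zero]

/-- The class at stage `n` of a polynomial. -/
def stage (n : ℕ) : MvPolynomial (Fin (r + 1)) A →ₗ[MvPolynomial (Fin (r + 1)) A] Lim A r 0 :=
  (Module.DirectLimit.of (MvPolynomial (Fin (r + 1)) A) ℕ _ _ n).comp
    (topCls (PM A r) ((vars A r).map (· ^ n)))

theorem stage_eq {n m : ℕ} (h : n ≤ m) (p : MvPolynomial (Fin (r + 1)) A) :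
    stage A r n p = stage A r m (monomial (Finsupp.equivFunOnFinite.symm fun _ => m - n) (1 : A) * p) := by
  rw [← prod_vars_pow]
  refine (Module.DirectLimit.of_f (hij := h)).symm.trans ?_
  exact congrArg _ (homologyMap_topCls (PM A r) h (vars A r) p)

theorem stage_eq_zero {n : ℕ} {p : MvPolynomial (Fin (r + 1)) A} (h : ∀ e ∈ p.support, ∃ j, n ≤ e j) :
    stage A r n p = 0 := by
  simp only [stage, LinearMap.comp_apply]
  rw [(topCls_eq_zero_iff (PM A r) _ p).mpr ((mem_ofList_smul_iff A r n p).mpr h), map_zero]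

theorem exists_of_stage_eq_zero {n : ℕ} {p : MvPolynomial (Fin (r + 1)) A} (h : stage A r n p = 0) :
    ∃ m, n ≤ m ∧ ∀ e ∈ (monomial (Finsupp.equivFunOnFinite.symm fun _ => m - n) (1 : A) * p).support,
      ∃ j, m ≤ e j := by
  haveI := directedSystem (PM A r) (vars A r) 0
  obtain ⟨m, hm, h'⟩ := Module.DirectLimit.of.zero_exact h
  refine ⟨m, hm, ?_⟩
  rw [homologyMap_topCls, topCls_eq_zero_iff, mem_ofList_smul_iff, prod_vars_pow] at h'
  exact h'

/-- Exponents. -/
abbrev ex (n : ℕ) (c : Fin (r + 1) → ℕ) : Fin (r + 1) →₀ ℕ :=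
  Finsupp.equivFunOnFinite.symm fun j => n - 1 - c j

theorem stage_monomial {n m : ℕ} (h : n ≤ m) {c : Fin (r + 1) → ℕ} (hc : ∀ j, c j < n) (a : A) :
    stage A r n (monomial (ex r n c) a) = stage A r m (monomial (ex r m c) a) := by
  rw [stage_eq A r h, monomial_mul, one_mul]
  refine congrArg (fun e => stage A r m (monomial e a)) ?_
  ext j
  have := hc j
  simp only [Finsupp.add_apply, Finsupp.equivFunOnFinite_symm_apply_apply]
  omega

/-- A bound for an exponent vector. -/
abbrev bd (c : Fin (r + 1) → ℕ) : ℕ := (Finset.univ.sup c) + 1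

theorem lt_bd (c : Fin (r + 1) → ℕ) (j : Fin (r + 1)) : c j < bd r c :=
  Nat.lt_succ_of_le (Finset.le_sup (f := c) (Finset.mem_univ j))

/-- The candidate basis. -/
def basisVec (c : Fin (r + 1) → ℕ) : RestrictScalars A (MvPolynomial (Fin (r + 1)) A) (Lim A r 0) :=
  (RestrictScalars.addEquiv A (MvPolynomial (Fin (r + 1)) A) (Lim A r 0)).symm
    (stage A r (bd r c) (monomial (ex r (bd r c) c) 1))

theorem smul_basisVec (a : A) {n : ℕ} {c : Fin (r + 1) → ℕ} (hn : ∀ j, c j < n) :
    RestrictScalars.addEquiv A (MvPolynomial (Fin (r + 1)) A) (Lim A r 0) (a • basisVec A r c) =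
      stage A r n (monomial (ex r n c) a) := by
  refine (RestrictScalars.addEquiv_map_smul A (MvPolynomial (Fin (r + 1)) A) (Lim A r 0) a _).trans ?_
  show algebraMap A (MvPolynomial (Fin (r + 1)) A) a • stage A r (bd r c) (monomial (ex r (bd r c) c) 1) = _
  rw [← map_smul, smul_eq_mul, algebraMap_eq, C_mul_monomial, mul_one,
    stage_monomial A r (le_max_left _ n) (lt_bd r c), stage_monomial A r (le_max_right (bd r c) n) hn]

theorem free_lim : Module.Free A (RestrictScalars A (MvPolynomial (Fin (r + 1)) A) (Lim A r 0)) := by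
  let E := RestrictScalars.addEquiv A (MvPolynomial (Fin (r + 1)) A) (Lim A r 0)
  let Φ := Finsupp.linearCombination A (basisVec A r)
  have hΦ : ∀ (f : (Fin (r + 1) → ℕ) →₀ A) {n : ℕ}, (∀ c ∈ f.support, ∀ j, c j < n) →
      E (Φ f) = stage A r n (∑ c ∈ f.support, monomial (ex r n c) (f c)) := fun f n hn => by
    simp only [Φ, Finsupp.linearCombination_apply, Finsupp.sum, map_sum]
    exact Finset.sum_congr rfl fun c hc => smul_basisVec A r (f c) (hn c hc)
  refine Module.Free.of_equiv (LinearEquiv.ofBijective Φ ⟨?_, fun z => ?_⟩)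
  · refine (injective_iff_map_eq_zero _).mpr fun f hf => ?_
    let n := (f.support.sup fun c => bd r c)
    have hn : ∀ c ∈ f.support, ∀ j, c j < n := fun c hc j =>
      lt_of_lt_of_le (lt_bd r c j) (Finset.le_sup (f := fun c => bd r c) hc)
    have h0 := hΦ f hn
    rw [hf, map_zero] at h0
    obtain ⟨m, hm, hsupp⟩ := exists_of_stage_eq_zero A r h0.symm
    ext c
    by_contra hc
    have hcs : c ∈ f.support := Finsupp.mem_support_iff.mpr hc
    obtain ⟨j, hj⟩ := hsupp (Finsupp.equivFunOnFinite.symm (fun _ => m - n) + ex r n c) (by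
      rw [mem_support_iff, coeff_monomial_mul, one_mul, coeff_sum,
        Finset.sum_eq_single c (fun b hb hbc => ?_) (fun h => absurd hcs h), coeff_monomial, if_pos rfl]
      · exact hc
      · rw [coeff_monomial, if_neg fun e => hbc (funext fun j => ?_)]
        have h1 : n - 1 - b j = n - 1 - c j := by simpa using congrArg (fun v => v j) e
        have := hn b hb j
        have := hn c hcs j
        omega)
    have := hn c hcs j
    simp only [Finsupp.add_apply, Finsupp.equivFunOnFinite_symm_apply_apply] at hj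
    omega
  · obtain ⟨z, rfl⟩ := E.symm.surjective z
    obtain ⟨n, x, rfl⟩ := Module.DirectLimit.exists_of z
    obtain ⟨p, rfl⟩ := topCls_surjective (PM A r) _ x
    suffices ∀ q : MvPolynomial (Fin (r + 1)) A, ∃ f, E (Φ f) = stage A r n q by
      obtain ⟨f, hf⟩ := this p
      exact ⟨f, E.injective (hf.trans (E.apply_symm_apply _).symm)⟩
    intro q
    induction q using MvPolynomial.induction_on' with
    | monomial e a =>
      by_cases he : ∀ j, e j < n
      · refine ⟨Finsupp.single (fun j => n - 1 - e j) a, ?_⟩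
        simp only [Φ, Finsupp.linearCombination_single]
        refine (smul_basisVec A r a (n := n) fun j => by have := he j; omega).trans ?_
        refine congrArg (fun e' => stage A r n (monomial e' a)) ?_
        ext j
        have := he j
        simp only [Finsupp.equivFunOnFinite_symm_apply_apply]
        omega
      · push Not at he
        obtain ⟨j, hj⟩ := he
        refine ⟨0, ?_⟩
        rw [map_zero, map_zero, stage_eq_zero A r fun e' he' => ⟨j, ?_⟩]
        classical
        rw [support_monomial] at he'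
        split_ifs at he' with h
        · simp at he'
        · rw [Finset.mem_singleton.mp he']; exact hj
    | add p q hp hq =>
      obtain ⟨f, hf⟩ := hp
      obtain ⟨g, hg⟩ := hq
      exact ⟨f + g, by rw [map_add, map_add, map_add, hf, hg]⟩

theorem koszulHLim_polynomial :
    (∀ i : ℕ, i ≠ r + 1 → Subsingleton (koszulHLim (vars A r) (PM A r) i)) ∧
      Module.Free A (RestrictScalars A (MvPolynomial (Fin (r + 1)) A)
        (koszulHLim (vars A r) (PM A r) (r + 1))) := by
  have hlen : (vars A r).length = r + 1 := List.length_ofFn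
  refine ⟨fun i hi => subsingleton_lim A r (k := (i : ℤ) - (vars A r).length) (by omega), ?_⟩
  have key : ∀ k : ℤ, k = 0 →
      Module.Free A (RestrictScalars A (MvPolynomial (Fin (r + 1)) A) (Lim A r k)) := by
    rintro k rfl; exact free_lim A r
  exact key (((r + 1 : ℕ) : ℤ) - (vars A r).length) (by omega)

end Poly

end Groth.Agent.KoszulCech
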