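import Groth.Agent.KoszulCech.Theta
import Groth.Agent.CechOpenLib.LerayOpen

/-!
# Augmented cochains against Čech cohomology
-/

set_option linter.style.haveILetI false
set_option linter.unusedSectionVars false
set_option backward.isDefEq.respectTransparency false

universe u

open CategoryTheory Opposite TopologicalSpace

noncomputable section

namespace Groth.Agent.KoszulCech

open Groth.Agent.LocCohLib CohBase

/-- Two quotients by the same subgroup. -/
theorem nonempty_addEquiv_of_classes {Z H H' : Type*} [AddCommGroup Z] [AddCommGroup H] [AddCommGroup H']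
    (q : Z →+ H) (q' : Z →+ H') (hq : Function.Surjective q) (hq' : Function.Surjective q')
    (h : ∀ z, q z = 0 ↔ q' z = 0) : Nonempty (H ≃+ H') := by
  have hk : q.ker = q'.ker := AddSubgroup.ext h
  exact ⟨(QuotientAddGroup.quotientKerEquivOfSurjective q hq).symm.trans
    ((QuotientAddGroup.quotientAddEquivOfEq hk).trans (QuotientAddGroup.quotientKerEquivOfSurjective q' hq'))⟩

section Ab

variable {X : Type u} [TopologicalSpace X] {ι : Type u} (U : ι → Opens X)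
  (Q : (Opens X)ᵒᵖ ⥤ AddCommGrpCat.{u})

/-- Cocycles map onto Čech cohomology. -/
theorem exists_cech_classes (p : ℕ) :
    ∃ q : Zc U Q p →+ ((cK U Q).homology p : AddCommGrpCat.{u}),
      Function.Surjective q ∧ ∀ z, q z = 0 ↔ z.1 ∈ Bc U Q p := by
  let T := (cK U Q).sc p
  have hg : ∀ x : (cK U Q).X p, T.g x = 0 ↔ cdiff U Q p ((cIso U Q p).hom x) = 0 := by
    intro x
    obtain h : (ComplexShape.up ℕ).next p = p + 1 := CochainComplex.next ℕ p
    change (cK U Q).d p ((ComplexShape.up ℕ).next p) x = 0 ↔ _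
    rw [h, ← cIso_d, map_eq_zero_iff _ (cIso_injective U Q (p + 1))]
  let θ : T.g.hom.ker →+ Zc U Q p :=
    ((cIso U Q p).hom.hom.comp (AddMonoidHom.ker T.g.hom).subtype).codRestrict _
      fun x => (hg x.1).mp x.2
  have hθ : Function.Bijective θ := by
    refine ⟨fun a b h => Subtype.ext (cIso_injective U Q p (congrArg Subtype.val h)), fun z => ?_⟩
    obtain ⟨x, hx⟩ := cIso_surjective U Q p z.1
    exact ⟨⟨x, (hg x).mpr (by rw [hx]; exact z.2)⟩, Subtype.ext hx⟩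
  let e := AddEquiv.ofBijective θ hθ
  refine ⟨(T.abHomologyIso.addCommGroupIsoToAddEquiv.symm.toAddMonoidHom.comp
    (QuotientAddGroup.mk' T.abToCycles.range)).comp e.symm.toAddMonoidHom, ?_, fun z => ?_⟩
  · exact (T.abHomologyIso.addCommGroupIsoToAddEquiv.symm.surjective.comp
      (QuotientAddGroup.mk'_surjective _)).comp e.symm.surjective
  · obtain ⟨x, rfl⟩ := e.surjective z
    change T.abHomologyIso.addCommGroupIsoToAddEquiv.symm
      (QuotientAddGroup.mk' T.abToCycles.range (e.symm (e x))) = 0 ↔ _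
    rw [e.symm_apply_apply]
    refine (map_eq_zero_iff _ T.abHomologyIso.addCommGroupIsoToAddEquiv.symm.injective).trans ?_
    rw [QuotientAddGroup.mk'_apply, QuotientAddGroup.eq_zero_iff]
    change _ ↔ (cIso U Q p).hom x.1 ∈ Bc U Q p
    rw [AddMonoidHom.mem_range]
    cases p with
    | zero =>
      have hz : T.f = 0 := (cK U Q).shape _ _ (by simp)
      change _ ↔ (cIso U Q 0).hom x.1 = 0
      constructor
      · rintro ⟨y, rfl⟩
        change (cIso U Q 0).hom (T.f y) = 0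
        rw [hz]
        exact map_zero _
      · exact fun h => ⟨0, Subtype.ext ((map_zero _).trans
          (cIso_injective U Q 0 (h.trans (map_zero _).symm)).symm)⟩
    | succ p =>
      obtain h : (ComplexShape.up ℕ).prev (p + 1) = p := CochainComplex.prev_nat_succ p
      have key : (∃ y, T.f y = x.1) ↔ ∃ b, (cK U Q).d p (p + 1) b = x.1 := by
        change (∃ y, (cK U Q).d ((ComplexShape.up ℕ).prev (p + 1)) (p + 1) y = x.1) ↔ _
        rw [h]
      constructor
      · rintro ⟨w, rfl⟩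
        obtain ⟨y, hy⟩ := key.mp ⟨w, rfl⟩
        exact ⟨(cIso U Q p).hom y, by rw [← cIso_d, hy]⟩
      · rintro ⟨b, hb⟩
        obtain ⟨y, rfl⟩ := cIso_surjective U Q p b
        rw [← cIso_d] at hb
        obtain ⟨w, hw⟩ := key.mpr ⟨y, cIso_injective U Q _ hb⟩
        exact ⟨w, Subtype.ext hw⟩

end Ab

variable {A : Type u} [CommRing A] {T : Type u} [TopologicalSpace T]
  (P : (Opens T)ᵒᵖ ⥤ ModuleCat.{u} A)

/-- The presheaf of groups. -/
abbrev toQ : (Opens T)ᵒᵖ ⥤ AddCommGrpCat.{u} := P ⋙ forget₂ (ModuleCat.{u} A) AddCommGrpCat.{u}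

variable {ι : Type u} (U : ι → Opens T) {l : List (Opens T)} (σ : ι ≃ Fin l.length)
  (hU : ∀ a, U a = fam l (σ a))
include hU

theorem inter_le_tin {n : ℕ} (i : Fin n → ι) : inter U i ≤ tin (fam l) ⊤ (σ ∘ i) :=
  le_tin le_top fun a => (inter_le U i a).trans (le_of_eq (hU (i a)))

theorem tin_le_inter {n : ℕ} (j : Fin n → Fin l.length) : tin (fam l) ⊤ j ≤ inter U (σ.symm ∘ j) :=
  le_iInf fun a => (tin_le_apply j a).trans (le_of_eq ((congrArg (fam l) (σ.apply_symm_apply (j a)).symm).trans (hU (σ.symm (j a))).symm))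

/-- Cochains as Čech cochains. -/
def kap (n : ℕ) : RC P (fam l) ⊤ (n + 1) ≃+ CC U (toQ P) n where
  toFun x i := rs P (inter_le_tin U σ hU i) (x (σ ∘ i))
  invFun c j := rs P (tin_le_inter U σ hU j) (c (σ.symm ∘ j))
  left_inv x := by
    funext j
    refine (rs_rs P _ _ _).trans ((rs_congr P x (funext fun a => σ.apply_symm_apply (j a)) _).trans ?_)
    exact rs_self P (x j)
  right_inv c := by
    funext i
    refine (rs_rs P _ _ _).trans ?_
    exact (cc_congr (toQ P) c (funext fun a => σ.symm_apply_apply (i a)) _ le_rfl).trans (res_self _ _ _)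
  map_add' x y := funext fun i => map_add (rs P _) _ _

theorem kap_rd (n : ℕ) (x : RC P (fam l) ⊤ (n + 1)) :
    kap P U σ hU (n + 1) (rd P (fam l) ⊤ (n + 1) x) = cdiff U (toQ P) n (kap P U σ hU n x) := by
  funext i
  show rs P _ (rd P (fam l) ⊤ (n + 1) x (σ ∘ i)) = _
  rw [rd_apply, map_sum, cdiff_apply]
  refine Finset.sum_congr rfl fun j _ => ?_
  refine (map_zsmul (rs P _) _ _).trans (congrArg (((-1 : ℤ) ^ (j : ℕ)) • ·) ?_)
  exact (rs_rs P _ _ _).trans (rs_rs P _ _ _).symm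

omit hU

theorem eval_bijective (W : Opens T) {k : ℤ} {m : ℕ} (h : (m : ℤ) = k + l.length) :
    Function.Bijective fun x : Xc P l W k => x ⟨m, h⟩ := by
  refine ⟨fun x y e => funext fun ⟨m', h'⟩ => ?_, fun y => ⟨fun q => ?_, ?_⟩⟩
  · obtain rfl : m' = m := by omega
    exact e
  · exact (show q.1 = m by have := q.2; omega) ▸ y
  · rfl

theorem dX_eval (W : Opens T) {k k' : ℤ} (hk : k + 1 = k') {m : ℕ} (h : (m : ℤ) = k + l.length)
    (h' : ((m + 1 : ℕ) : ℤ) = k' + l.length) (x : Xc P l W k) :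
    dX P l W hk x ⟨m + 1, h'⟩ = rd P (fam l) W m (x ⟨m, h⟩) :=
  rfl

theorem mem_zmod_iff (W : Opens T) {k : ℤ} (x : Xc P l W k) :
    (show (Cc P l W).X k from x) ∈ Zmod (Cc P l W) k ↔ dX P l W (rfl : k + 1 = k + 1) x = 0 := by
  rw [LinearMap.mem_ker, CochainComplex.next]
  refine ⟨fun h => ?_, fun h => (Cc_d P rfl x).trans (by rw [h, smul_zero])⟩
  have h1 : eps l • dX P l W (rfl : k + 1 = k + 1) x = 0 := (Cc_d P rfl x).symm.trans h
  simpa [smul_smul, eps_sq] using congrArg (eps l • ·) h1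

theorem cls_Cc_eq_zero_iff (W : Opens T) {i k : ℤ} (h : i + 1 = k) (z : Zmod (Cc P l W) k) :
    cls (Cc P l W) k z = 0 ↔ ∃ w : Xc P l W i, dX P l W h w = (show Xc P l W k from z.1) := by
  refine (cls_eq_zero h z).trans ⟨fun ⟨w, hw⟩ => ?_, fun ⟨w, hw⟩ => ?_⟩
  · exact ⟨eps l • (show Xc P l W i from w), (map_zsmul _ _ _).trans ((Cc_d P h w).symm.trans hw)⟩
  · refine ⟨show (Cc P l W).X i from eps l • w, (Cc_d P h (eps l • w)).trans ?_⟩
    rw [map_zsmul, smul_smul, eps_sq, one_smul]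
    exact hw

include hU

/-- Cocycles map onto the cohomology of the augmented cochains. -/
theorem exists_classes (n : ℕ) (k : ℤ) (hk : ((n + 1 : ℕ) : ℤ) = k + l.length) :
    ∃ q : Zc U (toQ P) n →+ ((Cc P l ⊤).homology k : ModuleCat.{u} A), Function.Surjective q ∧
      ∀ z, q z = 0 ↔ ∃ w : RC P (fam l) ⊤ n, z.1 = kap P U σ hU n (rd P (fam l) ⊤ n w) := by
  let ev : Xc P l ⊤ k ≃+ RC P (fam l) ⊤ (n + 1) :=
    AddEquiv.ofBijective (⟨⟨fun x => x ⟨n + 1, hk⟩, rfl⟩, fun _ _ => rfl⟩ : Xc P l ⊤ k →+ RC P (fam l) ⊤ (n + 1))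
      (eval_bijective P ⊤ hk)
  have hk' : ((n + 2 : ℕ) : ℤ) = k + 1 + l.length := by push_cast at hk ⊢; omega
  have hz : ∀ x : Xc P l ⊤ k, (show (Cc P l ⊤).X k from x) ∈ Zmod (Cc P l ⊤) k ↔
      kap P U σ hU n (ev x) ∈ Zc U (toQ P) n := fun x => by
    rw [mem_zmod_iff, ← (eval_bijective P ⊤ hk').1.eq_iff, ← (kap P U σ hU (n + 1)).injective.eq_iff]
    show kap P U σ hU (n + 1) (rd P (fam l) ⊤ (n + 1) (ev x)) = kap P U σ hU (n + 1) 0 ↔ _
    rw [map_zero, kap_rd]
    rfl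
  let θ : Zc U (toQ P) n →+ Zmod (Cc P l ⊤) k :=
    { toFun := fun z => ⟨show (Cc P l ⊤).X k from ev.symm ((kap P U σ hU n).symm z.1), (hz _).mpr (by
        rw [ev.apply_symm_apply, AddEquiv.apply_symm_apply]; exact z.2)⟩
      map_zero' := Subtype.ext (show ev.symm ((kap P U σ hU n).symm (0 : CC U (toQ P) n)) = 0 by simp)
      map_add' := fun a b => Subtype.ext (show ev.symm ((kap P U σ hU n).symm (a.1 + b.1)) = _ by
        rw [map_add, map_add]; rfl) }
  refine ⟨(cls (Cc P l ⊤) k).toAddMonoidHom.comp θ, fun h => ?_, fun z => ?_⟩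
  · obtain ⟨x, rfl⟩ := cls_surjective (Cc P l ⊤) k h
    refine ⟨⟨kap P U σ hU n (ev x.1), (hz x.1).mp x.2⟩, ?_⟩
    refine congrArg (cls (Cc P l ⊤) k) (Subtype.ext ?_)
    show ev.symm ((kap P U σ hU n).symm (kap P U σ hU n (ev x.1))) = x.1
    rw [AddEquiv.symm_apply_apply]
    exact ev.symm_apply_apply _
  · refine (cls_Cc_eq_zero_iff P ⊤ (show k - 1 + 1 = k by omega) (θ z)).trans ?_
    have hn : ((n : ℕ) : ℤ) = k - 1 + l.length := by push_cast at hk; omega
    refine ⟨fun ⟨w, hw⟩ => ⟨w ⟨n, hn⟩, ?_⟩, fun ⟨w, hw⟩ => ?_⟩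
    · rw [← dX_eval P ⊤ (show k - 1 + 1 = k by omega) hn hk w, hw]
      show z.1 = kap P U σ hU n (ev (ev.symm ((kap P U σ hU n).symm z.1)))
      rw [ev.apply_symm_apply, AddEquiv.apply_symm_apply]
    · obtain ⟨x, hx⟩ := (eval_bijective P (l := l) ⊤ hn).2 w
      refine ⟨x, (eval_bijective P ⊤ hk).1 ?_⟩
      show rd P (fam l) ⊤ n (x ⟨n, hn⟩) = ev (ev.symm ((kap P U σ hU n).symm z.1))
      rw [show x ⟨n, hn⟩ = w from hx, ev.apply_symm_apply, hw, AddEquiv.symm_apply_apply]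

/-- In degrees at least two the augmentation is invisible. -/
theorem nonempty_cech_equiv (m : ℕ) (k : ℤ) (hk : ((m + 2 : ℕ) : ℤ) = k + l.length) :
    Nonempty (((cK U (toQ P)).homology (m + 1) : AddCommGrpCat.{u}) ≃+
      ((Cc P l ⊤).homology k : ModuleCat.{u} A)) := by
  obtain ⟨q, hq, hqk⟩ := exists_cech_classes U (toQ P) (m + 1)
  obtain ⟨q', hq', hqk'⟩ := exists_classes P U σ hU (m + 1) k hk
  refine nonempty_addEquiv_of_classes q q' hq hq' fun z => (hqk z).trans (Iff.trans ?_ (hqk' z).symm)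
  show z.1 ∈ (cdiff U (toQ P) m).range ↔ _
  rw [AddMonoidHom.mem_range]
  refine ⟨fun ⟨b, hb⟩ => ⟨(kap P U σ hU m).symm b, ?_⟩, fun ⟨w, hw⟩ => ⟨kap P U σ hU m w, ?_⟩⟩
  · rw [kap_rd, AddEquiv.apply_symm_apply, hb]
  · rw [hw, kap_rd]

variable (hQ : TopCat.Presheaf.IsSheaf (X := TopCat.of T) (toQ P)) {V : Opens T} (hle : ∀ a, U a ≤ V)
  (hcov : V ≤ iSup U)
include hQ hle hcov

theorem kap_rd_zero (w : RC P (fam l) ⊤ 0) :
    kap P U σ hU 0 (rd P (fam l) ⊤ 0 w) =
      aug U (toQ P) hle (rs P (le_top : V ≤ (⊤ : Opens T))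
        (rs P (le_tin le_rfl fun a => a.elim0 : (⊤ : Opens T) ≤ tin (fam l) ⊤ (fun a : Fin 0 => a.elim0))
          (w fun a => a.elim0))) := by
  funext i
  show rs P _ (rd P (fam l) ⊤ 0 w (σ ∘ i)) = rs P _ (rs P _ (rs P _ (w fun a => a.elim0)))
  rw [rd_apply, Fin.sum_univ_succ, Fin.sum_univ_zero, add_zero, Fin.val_zero, pow_zero, one_smul]
  refine (rs_rs P _ _ _).trans ((rs_congr P w (i' := fun a => a.elim0) (funext fun a => a.elim0) _).trans ?_)
  exact ((rs_rs P _ _ _).trans (rs_rs P _ _ _)).symm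

/-- Degree one: sections on the union modulo global sections. -/
theorem nonempty_H1_equiv (k : ℤ) (hk : ((1 : ℕ) : ℤ) = k + l.length) :
    Nonempty ((P.obj (op V) ⧸ (rs P (le_top : V ≤ (⊤ : Opens T))).toAddMonoidHom.range) ≃+
      ((Cc P l ⊤).homology k : ModuleCat.{u} A)) := by
  obtain ⟨q', hq', hqk'⟩ := exists_classes P U σ hU 0 k hk
  let F : AbSh T := ⟨toQ P, hQ⟩
  let e := AddEquiv.ofBijective _ (CechOpenLib.eps_bijective U hle F hcov)
  refine nonempty_addEquiv_of_classes (QuotientAddGroup.mk' _) (q'.comp e.toAddMonoidHom)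
    (QuotientAddGroup.mk'_surjective _) (hq'.comp e.surjective) fun s => ?_
  rw [AddMonoidHom.comp_apply, hqk', QuotientAddGroup.mk'_apply, QuotientAddGroup.eq_zero_iff,
    AddMonoidHom.mem_range]
  refine ⟨fun ⟨t, ht⟩ => ⟨fun i => rs P le_top t, ?_⟩, fun ⟨w, hw⟩ => ?_⟩
  · rw [kap_rd_zero P U σ hU hQ hle hcov]
    show aug U (toQ P) hle s = _
    refine congrArg (aug U (toQ P) hle) (ht.symm.trans ?_)
    exact congrArg (rs P (le_top : V ≤ (⊤ : Opens T))) ((rs_self P t).symm.trans (rs_rs P _ _ t).symm)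
  · rw [kap_rd_zero P U σ hU hQ hle hcov] at hw
    exact ⟨_, (aug_injective F hle hcov hw).symm⟩

/-- Degree zero: global sections vanishing on the union. -/
theorem nonempty_H0_equiv (k : ℤ) (hk : ((0 : ℕ) : ℤ) = k + l.length) :
    Nonempty ((rs P (le_top : V ≤ (⊤ : Opens T))).toAddMonoidHom.ker ≃+
      ((Cc P l ⊤).homology k : ModuleCat.{u} A)) := by
  let F : AbSh T := ⟨toQ P, hQ⟩
  have hk' : ((1 : ℕ) : ℤ) = k + 1 + l.length := by omega
  let x₀ : P.obj (op (⊤ : Opens T)) →+ Xc P l ⊤ k :=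
    { toFun := fun t m i => rs P le_top t
      map_zero' := funext fun m => funext fun i => map_zero _
      map_add' := fun a b => funext fun m => funext fun i => map_add (rs P _) _ _ }
  have hz : ∀ t, (show (Cc P l ⊤).X k from x₀ t) ∈ Zmod (Cc P l ⊤) k ↔
      rs P (le_top : V ≤ (⊤ : Opens T)) t = 0 := fun t => by
    rw [mem_zmod_iff, ← (eval_bijective P ⊤ hk').1.eq_iff, ← (kap P U σ hU 0).injective.eq_iff]
    show kap P U σ hU 0 (rd P (fam l) ⊤ 0 (x₀ t ⟨0, hk⟩)) = kap P U σ hU 0 0 ↔ _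
    rw [map_zero, kap_rd_zero P U σ hU hQ hle hcov,
      show rs P (le_tin le_rfl fun a => a.elim0 : (⊤ : Opens T) ≤ tin (fam l) ⊤ (fun a : Fin 0 => a.elim0))
        (x₀ t ⟨0, hk⟩ fun a => a.elim0) = t from (rs_rs P _ _ t).trans (rs_self P t)]
    exact map_eq_zero_iff _ (aug_injective F hle hcov)
  let θ : (rs P (le_top : V ≤ (⊤ : Opens T))).toAddMonoidHom.ker →+ Zmod (Cc P l ⊤) k :=
    { toFun := fun t => ⟨show (Cc P l ⊤).X k from x₀ t.1, (hz t.1).mpr t.2⟩
      map_zero' := Subtype.ext (map_zero x₀)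
      map_add' := fun a b => Subtype.ext (map_add x₀ _ _) }
  refine ⟨AddEquiv.ofBijective ((cls (Cc P l ⊤) k).toAddMonoidHom.comp θ) ⟨?_, fun h => ?_⟩⟩
  · refine (injective_iff_map_eq_zero _).mpr fun t ht => ?_
    obtain ⟨w, hw⟩ := (cls_Cc_eq_zero_iff P ⊤ (show k - 1 + 1 = k by omega) (θ t)).mp ht
    have h0 : (0 : RC P (fam l) ⊤ 0) = x₀ t.1 ⟨0, hk⟩ := congrFun hw ⟨0, hk⟩
    refine Subtype.ext ?_
    have h1 := congrArg (rs P (le_tin le_rfl fun a => a.elim0 :
      (⊤ : Opens T) ≤ tin (fam l) ⊤ (fun a : Fin 0 => a.elim0))) (congrFun h0 fun a => a.elim0)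
    rw [Pi.zero_apply, map_zero] at h1
    exact (h1.trans ((rs_rs P _ _ t.1).trans (rs_self P t.1))).symm
  · obtain ⟨x, rfl⟩ := cls_surjective (Cc P l ⊤) k h
    let x' : Xc P l ⊤ k := x.1
    let t : P.obj (op (⊤ : Opens T)) :=
      rs P (le_tin le_rfl fun a => a.elim0 : (⊤ : Opens T) ≤ tin (fam l) ⊤ (fun a : Fin 0 => a.elim0))
        (x' ⟨0, hk⟩ fun a => a.elim0)
    have hxt : x₀ t = x' := (eval_bijective P ⊤ hk).1 (funext fun i => by
      refine (rs_rs P _ _ _).trans ((rs_congr P (x' ⟨0, hk⟩) (i' := i) (funext fun a => a.elim0) _).trans ?_)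
      exact rs_self P _)
    refine ⟨⟨t, (hz t).mp (hxt ▸ x.2)⟩, ?_⟩
    exact congrArg (cls (Cc P l ⊤) k) (Subtype.ext hxt)

end Groth.Agent.KoszulCech
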