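import Groth.Agent.KoszulCech.Cech

/-!
# The comparison of Čech cochains with the stable Koszul complex
-/

set_option linter.style.haveILetI false
set_option backward.isDefEq.respectTransparency false

universe u

open CategoryTheory CochainComplex Opposite TopologicalSpace

noncomputable section

namespace Groth.Agent.KoszulCech

variable {A : Type u} [CommRing A] {T : Type u} [TopologicalSpace T]
  (P : (Opens T)ᵒᵖ ⥤ ModuleCat.{u} A)

/-- The empty tuple. -/
abbrev m0 : {m : ℕ // (m : ℤ) = 0 + (([] : List (Opens T)).length : ℤ)} := ⟨0, by simp⟩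

theorem le_tin_nil (W : Opens T) (i : Fin 0 → Fin ([] : List (Opens T)).length) :
    W ≤ tin (fam ([] : List (Opens T))) W i :=
  le_tin le_rfl fun a => a.elim0

/-- Evaluation at the empty tuple. -/
def evNil (W : Opens T) : (Cc P [] W).X 0 ⟶ P.obj (op W) :=
  ModuleCat.ofHom
    { toFun := fun x => rs P (le_tin_nil W (fun a => a.elim0)) (x m0 fun a => a.elim0)
      map_add' := fun x y => map_add (rs P _) _ _
      map_smul' := fun r x => map_smul (rs P _) r _ }

/-- The comparison for the empty list. -/
def thetaNilApp (W : Opens T) :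
    Cc P [] W ⟶ (HomologicalComplex.single (ModuleCat.{u} A) (ComplexShape.up ℤ) 0).obj (P.obj (op W)) :=
  HomologicalComplex.mkHomToSingle (evNil P W) fun i (hi : i + 1 = 0) => by
    refine ModuleCat.hom_ext (LinearMap.ext fun x => ?_)
    show (evNil P W).hom (((Cc P [] W).d i 0).hom x) = 0
    refine (congrArg (evNil P W).hom (Cc_d P hi x)).trans ?_
    refine (map_zsmul (evNil P W).hom _ _).trans ?_
    show eps ([] : List (Opens T)) • rs P (le_tin_nil W (fun a => a.elim0)) 0 = 0
    rw [map_zero, smul_zero]

theorem thetaNilApp_f (W : Opens T) (x : Xc P [] W 0) :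
    (HomologicalComplex.singleObjXSelf (ComplexShape.up ℤ) 0 (P.obj (op W))).hom
      ((thetaNilApp P W).f 0 x) = (evNil P W).hom x := by
  have h : (thetaNilApp P W).f 0 ≫
      (HomologicalComplex.singleObjXSelf (ComplexShape.up ℤ) 0 (P.obj (op W))).hom = evNil P W := by
    rw [thetaNilApp, HomologicalComplex.mkHomToSingle_f, Category.assoc, Iso.inv_hom_id, Category.comp_id]
  exact ConcreteCategory.congr_hom h x

theorem bijective_thetaNilApp (W : Opens T) (k : ℤ) : Function.Bijective ((thetaNilApp P W).f k) := by
  by_cases hk : k = 0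
  · subst hk
    refine ⟨fun x y h => ?_, fun z => ?_⟩
    · funext ⟨m, hm⟩ i
      obtain rfl : m = 0 := by simp at hm; omega
      obtain rfl : i = fun a => a.elim0 := funext fun a => a.elim0
      have h1 := ((thetaNilApp_f P W x).symm.trans (congrArg _ h)).trans (thetaNilApp_f P W y)
      have h2 := congrArg (rs P (tin_le_left (U := fam ([] : List (Opens T))) (W := W)
        (fun a : Fin 0 => (a.elim0 : Fin 0)))) h1
      exact ((rs_rs P _ _ _).trans (rs_self P _)).symm.trans
        (h2.trans ((rs_rs P _ _ _).trans (rs_self P _)))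
    · let x : Xc P [] W 0 := fun m i =>
        rs P (tin_le_left i) ((HomologicalComplex.singleObjXSelf (ComplexShape.up ℤ) 0 (P.obj (op W))).hom z)
      refine ⟨x, singleObjXSelf_injective _ ((thetaNilApp_f P W x).trans ?_)⟩
      exact (rs_rs P _ _ _).trans (rs_self P _)
  · haveI := subsingleton_single (P.obj (op W)) hk
    haveI : Subsingleton ((Cc P [] W).X k) := ⟨fun (x y : Xc P [] W k) => by
      funext ⟨m, hm⟩ i
      cases m with
      | zero => simp at hm; omega
      | succ m => exact (i 0).elim0⟩
    exact ⟨fun _ _ _ => Subsingleton.elim _ _, fun _ => ⟨0, Subsingleton.elim _ _⟩⟩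

/-- The comparison for the empty list, natural in the base. -/
def thetaNil : CcF P [] ⟶ S P [] where
  app W := thetaNilApp P W.unop
  naturality W V h := by
    refine HomologicalComplex.to_single_hom_ext (ModuleCat.hom_ext (LinearMap.ext fun x => ?_))
    refine singleObjXSelf_injective (A := A) (P.obj V) ?_
    refine (thetaNilApp_f P V.unop _).trans (Eq.trans ?_ (single_f_eq (P.obj W) (P.obj V) (P.map h) _).symm)
    refine Eq.trans ?_ (congrArg _ (thetaNilApp_f P W.unop x).symm)
    exact (rs_rs P _ _ _).trans (rs_rs P _ h.unop.le _).symm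

/-- The induction step. -/
def thetaCons (g : Opens T) (l : List (Opens T)) (θ : CcF P l ⟶ S P l) :
    CcF P (g :: l) ⟶ S P (g :: l) where
  app W := phi P g l W.unop ≫ mappingCone.map (toInf (CcF P l) g W.unop) (toInf (S P l) g W.unop)
    (θ.app W) (θ.app (op (W.unop ⊓ g))) (θ.naturality (homOfLE (inf_le_left : W.unop ⊓ g ≤ W.unop)).op)
  naturality W V h := by
    refine (Category.assoc _ _ _).symm.trans ((congrArg (· ≫ _) (phi_naturality P g l h)).trans ?_)
    refine (Category.assoc _ _ _).trans (Eq.trans ?_ (Category.assoc _ _ _).symm)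
    refine congrArg (phi P g l W.unop ≫ ·) ?_
    refine (mappingCone.map_comp (toInf (CcF P l) g W.unop) (toInf (CcF P l) g V.unop)
      (toInf (S P l) g V.unop) _ _ (toInf_comm (CcF P l) g h) _ _
      (θ.naturality (homOfLE (inf_le_left : V.unop ⊓ g ≤ V.unop)).op)).symm.trans ?_
    refine Eq.trans ?_ (mappingCone.map_comp (toInf (CcF P l) g W.unop) (toInf (S P l) g W.unop)
      (toInf (S P l) g V.unop) _ _ (θ.naturality (homOfLE (inf_le_left : W.unop ⊓ g ≤ W.unop)).op) _ _
      (toInf_comm (S P l) g h))
    congr 1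
    · exact θ.naturality h
    · exact θ.naturality _

/-- The comparison. -/
def theta : ∀ l : List (Opens T), CcF P l ⟶ S P l
  | [] => thetaNil P
  | g :: l => thetaCons P g l (theta l)

theorem hBij_theta : ∀ (l : List (Opens T)) (W : (Opens T)ᵒᵖ), HBij ((theta P l).app W)
  | [], W => hBij_of_bijective _ (bijective_thetaNilApp P W.unop)
  | g :: l, W => HBij.comp _ (hBij_phi P g l W.unop)
    (HBij.cone _ (hBij_theta l W) (hBij_theta l (op (W.unop ⊓ g))))

variable {P} {D : A → Opens T}

/-- The limit of the Koszul cohomologies is the cohomology of the augmented cochains. -/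
theorem nonempty_koszulHLim_equiv_cech (hD : Setting P D) {a : A} {W : Opens T} (hW : D a = W)
    {M : ModuleCat.{u} A} (e : M ≅ P.obj (op W)) (fs : List A) (p : ℕ) :
    Nonempty (CohIII.koszulHLim fs M p ≃ₗ[A] (Cc P (fs.map D) W).homology ((p : ℤ) - fs.length)) := by
  subst hW
  obtain ⟨e₁⟩ := nonempty_koszulHLim_equiv hD a e fs p
  exact ⟨e₁.trans (LinearEquiv.ofBijective _
    ((hBij_theta P (fs.map D) (op (D a))).bijective_homologyMap _)).symm⟩

end Groth.Agent.KoszulCech
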