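import Groth.Agent.KoszulCech.StableH
import Groth.Agent.KoszulCech.Theta
import Groth.Agent.KoszulCech.Compare
import Groth.Prelude.Def_Coh
import Mathlib.AlgebraicGeometry.Modules.Tilde
import Mathlib.Topology.Sheaves.Flasque

/-!
# Flasque sheaves associated with modules and vanishing of the Koszul limit
-/

set_option linter.style.haveILetI false
set_option backward.isDefEq.respectTransparency false

universe u

open CategoryTheory CategoryTheory.Limits CochainComplex DerCA Opposite TopologicalSpace AlgebraicGeometry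

noncomputable section

namespace Groth.Agent.KoszulCech

open Groth.Agent.LocCohLib

variable {A : Type u} [CommRing A]

/-- Vanishing in degree one for all lists gives vanishing in all higher degrees. -/
theorem exact_of_one (M : ModuleCat.{u} A)
    (h : ∀ (fs : List A) (k l : ℤ), k = -(fs.length : ℤ) + 1 → k + 1 = l → ∀ x : (St M fs).X k,
      (St M fs).d k l x = 0 → ∃ w : (St M fs).X (k - 1), (St M fs).d (k - 1) k w = x) :
    ∀ (fs : List A) (i k l : ℤ), i + 1 = k → k + 1 = l → -(fs.length : ℤ) < k →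
      ∀ x : (St M fs).X k, (St M fs).d k l x = 0 → ∃ w : (St M fs).X i, (St M fs).d i k w = x
  | [], i, k, l, _, _, hk, x, _ => by
    haveI := subsingleton_St M [] k (by simp at hk ⊢; omega)
    exact ⟨0, Subsingleton.elim _ _⟩
  | f :: fs, i, k, l, hik, hkl, hk, x, hx => by
    obtain rfl : l = k + 1 := hkl.symm
    obtain rfl : k = i + 1 := hik.symm
    by_cases hone : i + 1 = -((f :: fs).length : ℤ) + 1
    · have h' := h (f :: fs) (i + 1) _ hone rfl x hx
      rw [add_sub_cancel_right] at h'
      exact h'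
    let K := St M fs
    let φ := locCxUnit (Submonoid.powers f) K
    change ((mappingCone φ).X (i + 1) : Type u) at x
    change (mappingCone φ).d _ _ x = 0 at hx
    show ∃ w : (mappingCone φ).X i, (mappingCone φ).d i (i + 1) w = x
    have h1 := cfst_d φ rfl (rfl : i + 1 + 1 + 1 = i + 1 + 1 + 1) x
    have h2 := csnd_d φ (rfl : i + 1 + 1 = i + 1 + 1) x
    rw [hx, map_zero] at h1 h2
    obtain ⟨v, hv⟩ := exact_of_one M h fs (i + 1) (i + 1 + 1) _ rfl rfl
      (by simp at hk ⊢; omega) _ (neg_eq_zero.1 h1.symm)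
    let b := csnd φ (i + 1) x + uF f K (i + 1) v
    have hb : ((locCx (Submonoid.powers f)).obj K).d (i + 1) (i + 1 + 1) b = 0 := by
      rw [map_add, ← uF_d, hv]
      exact (add_comm _ _).trans h2.symm
    obtain ⟨n, z, hz, hzb⟩ := exists_cycle_lift b hb
    obtain ⟨w, hw⟩ := exact_of_one M h fs i (i + 1) _ rfl rfl (by simp at hk hone ⊢; omega) z hz
    obtain ⟨w', hw'⟩ := smul_pow_surjective n (uF f K i w)
    have hwb : ((locCx (Submonoid.powers f)).obj K).d i (i + 1) w' = b := by
      apply smul_pow_injective (f := f) (K := K) (k := i + 1) n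
      show f ^ n • _ = f ^ n • _
      rw [hzb, ← map_smul]
      refine (congrArg _ hw').trans ?_
      rw [← uF_d, hw]
    refine ⟨cmk φ i (i + 1) rfl (-v) w', cone_ext φ rfl ?_ ?_⟩
    · rw [cfst_d φ rfl rfl, cfst_cmk, map_neg, hv, neg_neg]
    · rw [csnd_d φ rfl, cfst_cmk, csnd_cmk, map_neg, hwb]
      exact neg_add_eq_sub _ _ |>.trans (add_sub_cancel_right _ _)

theorem subsingleton_koszulHLim_of_one (M : ModuleCat.{u} A)
    (h : ∀ fs : List A, Subsingleton (CohIII.koszulHLim fs M 1)) (fs : List A) (i : ℕ) (hi : 0 < i) :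
    Subsingleton (CohIII.koszulHLim fs M i) := by
  obtain ⟨e⟩ := nonempty_koszulHLim_St_equiv M fs i
  haveI : Subsingleton ((St M fs).homology ((i : ℤ) - fs.length)) := ⟨fun a b => sub_eq_zero.1 (by
    obtain ⟨x, hx⟩ := cls_surjective _ ((i : ℤ) - fs.length) (a - b)
    rw [← hx]
    refine (cls_eq_zero (i := (i : ℤ) - fs.length - 1) (by omega) x).2
      (exact_of_one M (fun gs k l hk hl y hy => ?_) fs _ _ ((i : ℤ) - fs.length + 1) (by omega) rfl (by omega) x.1 (zmod_d rfl x))
    obtain ⟨e'⟩ := nonempty_koszulHLim_St_equiv M gs 1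
    haveI := h gs
    obtain rfl : k = ((1 : ℕ) : ℤ) - gs.length := by omega
    obtain rfl := hl
    haveI : Subsingleton ((St M gs).homology (((1 : ℕ) : ℤ) - gs.length)) := e'.toEquiv.symm.subsingleton
    exact (cls_eq_zero (i := ((1 : ℕ) : ℤ) - gs.length - 1) (by omega) ⟨y, mem_zmod hy⟩).1 (Subsingleton.elim _ _))⟩
  exact e.toEquiv.subsingleton

/-! ## The associated sheaf -/

variable (M : ModuleCat.{u} A)

/-- The presheaf of sections of `M~`. -/
abbrev tP : (Opens (PrimeSpectrum A))ᵒᵖ ⥤ ModuleCat.{u} A :=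
  (modulesSpecToSheaf (R := CommRingCat.of A)).obj (tilde (R := CommRingCat.of A) M) |>.presheaf

/-- The map from `M` to sections. -/
abbrev tO (U : Opens (PrimeSpectrum A)) : (M : Type u) →ₗ[A] (tP M).obj (op U) :=
  (tilde.toOpen (R := CommRingCat.of A) M U).hom

theorem tO_res {U V : Opens (PrimeSpectrum A)} (h : V ≤ U) (m : M) :
    (tP M).map (homOfLE h).op (tO M U m) = tO M V m :=
  ConcreteCategory.congr_hom (tilde.toOpen_res (R := CommRingCat.of A) M U V (homOfLE h)) m

theorem loc_tO (a : A) : IsLocalizedModule (Submonoid.powers a) (tO M (PrimeSpectrum.basicOpen a)) :=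
  IsLocalizedModule.of_linearEquiv (Submonoid.powers a)
    (StructureSheaf.toOpenₗ A M (PrimeSpectrum.basicOpen a))
    ((tilde.modulesSpecToSheafIso (R := CommRingCat.of A) M).app _).toLinearEquiv.symm

theorem setting_tilde : Setting (tP M) (fun a : A => PrimeSpectrum.basicOpen a) where
  mul a b := PrimeSpectrum.basicOpen_mul a b
  loc a f := by
    have key : ∀ (W : Opens (PrimeSpectrum A)) (_ : IsLocalizedModule (Submonoid.powers (a * f)) (tO M W))
        (h : W ≤ PrimeSpectrum.basicOpen a), Loc f ((tP M).map (homOfLE h).op) := by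
      intro W hW h
      haveI := hW
      haveI := loc_tO M a
      let D := PrimeSpectrum.basicOpen a
      have u1 : ∀ n : ℕ, Function.Bijective fun y : (tP M).obj (op D) => a ^ n • y := fun n =>
        (Module.End.isUnit_iff _).1 (IsLocalizedModule.map_units (tO M D) (⟨_, n, rfl⟩ : Submonoid.powers a))
      have u2 : ∀ n : ℕ, Function.Bijective fun y : (tP M).obj (op W) => (a * f) ^ n • y := fun n =>
        (Module.End.isUnit_iff _).1 (IsLocalizedModule.map_units (tO M W) (⟨_, n, rfl⟩ : Submonoid.powers (a * f)))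
      refine ⟨⟨fun y z hyz => (u2 1).1 ?_, fun y => ?_⟩, fun y => ?_, fun x hx => ?_⟩
      · show (a * f) ^ 1 • y = (a * f) ^ 1 • z
        rw [pow_one, mul_smul, mul_smul]
        exact congrArg (a • ·) hyz
      · obtain ⟨z, hz⟩ := (u2 1).2 y
        exact ⟨a • z, by rw [pow_one] at hz; show f • a • z = y; rw [smul_smul, mul_comm]; exact hz⟩
      · obtain ⟨⟨m, ⟨_, j, rfl⟩⟩, hy⟩ := IsLocalizedModule.surj (Submonoid.powers (a * f)) (tO M W) y
        obtain ⟨x, hx⟩ := (u1 j).2 (tO M D m)
        refine ⟨j, x, ((u2 j).1 ?_).symm⟩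
        show (a * f) ^ j • (tP M).map (homOfLE h).op x = (a * f) ^ j • f ^ j • y
        have hx' : (tP M).map (homOfLE h).op (a ^ j • x) = tO M W m := by
          rw [show a ^ j • x = tO M D m from hx]
          exact tO_res M h m
        rw [smul_comm ((a * f) ^ j) (f ^ j) y, show (a * f) ^ j • y = tO M W m from hy, ← hx', map_smul,
          mul_pow, mul_smul, smul_comm (f ^ j)]
      · obtain ⟨⟨m, ⟨_, j, rfl⟩⟩, hm⟩ := IsLocalizedModule.surj (Submonoid.powers a) (tO M D) x
        have hm' : tO M W m = 0 := by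
          rw [← tO_res M h m, ← hm]
          show (tP M).map (homOfLE h).op (a ^ j • x) = 0
          rw [map_smul, hx, smul_zero]
        obtain ⟨⟨_, k, rfl⟩, hk⟩ := (IsLocalizedModule.eq_zero_iff (Submonoid.powers (a * f)) (tO M W)).1 hm'
        refine ⟨k, (u1 (k + j)).1 ?_⟩
        show a ^ (k + j) • f ^ k • x = a ^ (k + j) • (0 : (tP M).obj (op D))
        have hk' : (a * f) ^ k • m = 0 := hk
        rw [smul_zero, smul_comm, pow_add, mul_smul, show a ^ j • x = tO M D m from hm, ← map_smul, ← map_smul,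
          smul_smul, mul_comm (f ^ k), ← mul_pow, hk', map_zero]
    exact key _ (PrimeSpectrum.basicOpen_mul a f ▸ loc_tO M (a * f)) _

/-- The open covered by a list. -/
abbrev uOpen (fs : List A) : Opens (PrimeSpectrum A) :=
  ⨆ i : Fin fs.length, PrimeSpectrum.basicOpen (fs.get i)

theorem subsingleton_one_iff_surjective (fs : List A) :
    Subsingleton (CohIII.koszulHLim fs M 1) ↔
      Function.Surjective ((tP M).map (homOfLE (le_top : uOpen fs ≤ ⊤)).op) := by
  let l := fs.map fun a => PrimeSpectrum.basicOpen a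
  let U : ULift.{u} (Fin fs.length) → Opens (PrimeSpectrum A) := fun i => PrimeSpectrum.basicOpen (fs.get i.down)
  let σ : ULift.{u} (Fin fs.length) ≃ Fin l.length := Equiv.ulift.trans (finCongr (by simp [l]))
  have hU : ∀ i, U i = fam l (σ i) := fun i => by
    rw [fam_eq_get]
    simp [U, σ, l]
  let t : M ⟶ (tP M).obj (op (⊤ : Opens (PrimeSpectrum A))) := tilde.toOpen (R := CommRingCat.of A) M ⊤
  haveI : IsIso t := tilde.isIso_toOpen_top (R := CommRingCat.of A) (M := M)
  obtain ⟨e⟩ := nonempty_koszulHLim_equiv_cech (setting_tilde M) (a := 1) (W := ⊤)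
    PrimeSpectrum.basicOpen_one (asIso t) fs 1
  obtain ⟨e'⟩ := nonempty_H1_equiv (tP M) U σ hU (Coh.toAb (tilde (R := CommRingCat.of A) M)).property
    (V := uOpen fs) (fun i => le_iSup (fun i : Fin fs.length => PrimeSpectrum.basicOpen (fs.get i)) i.down)
    (iSup_le fun i => le_iSup U ⟨i⟩) (((1 : ℕ) : ℤ) - fs.length) (by simp [l])
  rw [e.toEquiv.subsingleton_congr, ← e'.toEquiv.subsingleton_congr, QuotientAddGroup.subsingleton_iff,
    AddMonoidHom.range_eq_top]
  exact Iff.rfl

theorem isFlasque_iff_subsingleton [NoetherianSpace (PrimeSpectrum A)] :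
    TopCat.Sheaf.IsFlasque (Coh.toAb (tilde (R := CommRingCat.of A) M)) ↔
      ∀ fs : List A, Subsingleton (CohIII.koszulHLim fs M 1) := by
  simp only [subsingleton_one_iff_surjective]
  let F := Coh.toAb (tilde (R := CommRingCat.of A) M)
  constructor
  · intro hF fs
    haveI : Epi (F.obj.map (homOfLE (le_top : uOpen fs ≤ ⊤)).op) := hF.epi _
    exact (AddCommGrpCat.epi_iff_surjective (F.obj.map (homOfLE (le_top : uOpen fs ≤ ⊤)).op)).1 inferInstance
  · intro h
    have hopen : ∀ V : Opens (PrimeSpectrum A), ∃ fs : List A, V = uOpen fs := by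
      intro V
      obtain ⟨s, hs, hV⟩ := (isCompact_open_iff_eq_finite_iUnion_of_isTopologicalBasis
        (fun f : A => (PrimeSpectrum.basicOpen f : Set (PrimeSpectrum A)))
        (PrimeSpectrum.isTopologicalBasis_basic_opens) PrimeSpectrum.isCompact_basicOpen (V : Set (PrimeSpectrum A))).1
        ⟨NoetherianSpace.isCompact _, V.2⟩
      refine ⟨hs.toFinset.toList, Opens.ext ?_⟩
      rw [hV, Opens.coe_iSup]
      ext x
      simp only [Set.mem_iUnion]
      constructor
      · rintro ⟨f, hf, hx⟩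
        obtain ⟨i, hi⟩ := List.mem_iff_get.1 (Finset.mem_toList.2 (hs.mem_toFinset.2 hf))
        exact ⟨i, by rw [hi]; exact hx⟩
      · rintro ⟨i, hx⟩
        exact ⟨_, hs.mem_toFinset.1 (Finset.mem_toList.1 (List.get_mem _ i)), hx⟩
    refine ⟨fun {U V} i => ?_⟩
    haveI : Epi (F.obj.map (homOfLE (le_top : U.unop ≤ ⊤)).op ≫ F.obj.map i) := by
      rw [← F.obj.map_comp, AddCommGrpCat.epi_iff_surjective,
        Subsingleton.elim ((homOfLE (le_top : U.unop ≤ ⊤)).op ≫ i) (homOfLE (le_top : V.unop ≤ ⊤)).op]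
      obtain ⟨fs, hfs⟩ := hopen V.unop
      obtain ⟨W⟩ := V
      change W = uOpen fs at hfs
      subst hfs
      exact h fs
    exact epi_of_epi (F.obj.map (homOfLE (le_top : U.unop ≤ ⊤)).op) _

end Groth.Agent.KoszulCech
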