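import Groth.Agent.KoszulCech.Compare
import Groth.Agent.QCohLib.Push
import Groth.Agent.OpenRestrH.Scheme
import Groth.Prelude.Def_ega3
import Mathlib.AlgebraicGeometry.Morphisms.Separated

/-!
# Čech cohomology of basic opens as Koszul cohomology
-/

set_option linter.style.haveILetI false
set_option backward.isDefEq.respectTransparency false

universe u

open CategoryTheory Opposite TopologicalSpace AlgebraicGeometry

noncomputable section

namespace Groth.Agent.KoszulCech

open Groth.Agent.CohBase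

variable {X : Scheme.{u}} (F : X.Modules)

/-- Restriction of global functions. -/
abbrev resG (V : X.Opens) : Γ(X, ⊤) →+* Γ(X, V) :=
  (X.presheaf.map (homOfLE (le_top : V ≤ ⊤)).op).hom

/-- Sections as modules over global functions. -/
@[instance_reducible] def modSec (V : X.Opens) : Module Γ(X, ⊤) Γ(F, V) :=
  Module.compHom _ (resG V)

theorem map_smul_global {U V : X.Opens} (h : V ⟶ U) (a : Γ(X, ⊤)) (s : Γ(F, U)) :
    F.presheaf.map h.op (resG U a • s) = resG V a • F.presheaf.map h.op s := by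
  refine (Scheme.Modules.map_smul F h _ _).trans ?_
  congr 1
  exact (ConcreteCategory.congr_hom (X.presheaf.map_comp (homOfLE le_top).op h.op) a).symm

/-- The presheaf of modules over global functions. -/
def FP : (X.Opens)ᵒᵖ ⥤ ModuleCat.{u} Γ(X, ⊤) where
  obj V := letI := modSec F V.unop; ModuleCat.of Γ(X, ⊤) Γ(F, V.unop)
  map {V W} h := letI := modSec F V.unop; letI := modSec F W.unop; ModuleCat.ofHom
    { toFun := fun s => F.presheaf.map h s
      map_add' := fun a b => map_add _ a b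
      map_smul' := fun a s => map_smul_global F h.unop a s }
  map_id V := by
    apply ModuleCat.hom_ext
    apply DFunLike.ext
    intro s
    exact ConcreteCategory.congr_hom (F.presheaf.map_id V) s
  map_comp h k := by
    apply ModuleCat.hom_ext
    apply DFunLike.ext
    intro s
    exact ConcreteCategory.congr_hom (F.presheaf.map_comp h k) s

theorem toQ_FP : toQ (FP F) = F.presheaf := rfl

/-- Global sections. -/
def topIso : ModuleCat.of Γ(X, ⊤) (F.val.obj (op ⊤)) ≅ (FP F).obj (op ⊤) :=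
  let e : (ModuleCat.of Γ(X, ⊤) (F.val.obj (op ⊤)) : ModuleCat.{u} Γ(X, ⊤)) ≃ₗ[Γ(X, ⊤)]
      ((FP F).obj (op ⊤) : ModuleCat.{u} Γ(X, ⊤)) :=
    { toFun := fun s => s
      invFun := fun s => s
      left_inv := fun _ => rfl
      right_inv := fun _ => rfl
      map_add' := fun _ _ => rfl
      map_smul' := fun a (s : Γ(F, ⊤)) => by
        exact (congrArg (fun b : Γ(X, ⊤) => b • (show Γ(F, ⊤) from s))
          (ConcreteCategory.congr_hom (X.presheaf.map_id (op ⊤)) a)).symm }
  e.toModuleIso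

theorem resG_res {V W : X.Opens} (h : W ≤ V) (a : Γ(X, ⊤)) :
    X.presheaf.map (homOfLE h).op (resG V a) = resG W a :=
  (ConcreteCategory.congr_hom (X.presheaf.map_comp (homOfLE le_top).op (homOfLE h).op) a).symm

theorem setting [Coh.IsQCoh F] [CompactSpace X] [QuasiSeparatedSpace X] :
    Setting (FP F) (fun a : Γ(X, ⊤) => X.basicOpen a) where
  mul a b := X.basicOpen_mul a b
  loc a f := by
    have hc : IsCompact ((X.basicOpen a : X.Opens) : Set X) := isCompact_basicOpen X isCompact_univ a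
    have hs : IsQuasiSeparated ((X.basicOpen a : X.Opens) : Set X) :=
      IsQuasiSeparated.of_subset (isQuasiSeparated_univ (α := X)) (Set.subset_univ _)
    let g : Γ(X, X.basicOpen a) := resG (X.basicOpen a) f
    have hg : X.basicOpen g = X.basicOpen a ⊓ X.basicOpen f := X.basicOpen_res f _
    have hle : X.basicOpen a ⊓ X.basicOpen f ≤ X.basicOpen a := inf_le_left
    have hsc : ∀ (n : ℕ) {V : X.Opens} (h : V ≤ X.basicOpen a) (t : Γ(F, V)),
        CohBase.sc (g ^ n) h t = resG V (f ^ n) • t := fun n V h t => by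
      rw [sc_apply, map_pow, resG_res, ← map_pow]
    refine ⟨?_, fun y => ?_, fun x hx => ?_⟩
    · have hu : IsUnit (resG (X.basicOpen a ⊓ X.basicOpen f) f) := by
        have h1 : IsUnit (resG (X.basicOpen f) f) := RingedSpace.isUnit_res_basicOpen _ f
        rw [← resG_res inf_le_right]
        exact h1.map (X.presheaf.map (homOfLE (inf_le_right : X.basicOpen a ⊓ X.basicOpen f ≤ _)).op).hom
      show Function.Bijective fun y : Γ(F, X.basicOpen a ⊓ X.basicOpen f) =>
        resG (X.basicOpen a ⊓ X.basicOpen f) f • y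
      exact IsUnit.smul_bijective hu
    · let y' : Γ(F, X.basicOpen g) := F.presheaf.map (homOfLE hg.le).op y
      obtain ⟨n, s, hn⟩ := QCohLib.exists_pow_extend_of_isQuasiSeparated F hc hs g y'
      refine ⟨n, s, ?_⟩
      have h1 := congrArg (F.presheaf.map (homOfLE hg.ge).op) hn
      rw [map_sc] at h1
      simp only [y', restr_trans, restr_self] at h1
      rw [hsc] at h1
      exact h1.symm
    · obtain ⟨n, hn⟩ := QCohLib.exists_pow_zero_of_isCompact F hc g x (by
        rw [← restr_trans F hle hg.le x]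
        refine (congrArg (F.presheaf.map (homOfLE hg.le).op) ?_).trans (map_zero _)
        exact hx)
      exact ⟨n, (hsc n le_rfl x).symm.trans hn⟩

variable [CompactSpace X] [X.IsSeparated] [Coh.IsQCoh F] (fs : List Γ(X, ⊤))

/-- The index bijection. -/
def idxEquiv : ULift.{u} (Fin fs.length) ≃ Fin (fs.map fun a => X.basicOpen a).length :=
  Equiv.ulift.trans (finCongr (by simp))

theorem fam_idxEquiv (i : ULift.{u} (Fin fs.length)) :
    X.basicOpen (fs.get i.down) = fam (fs.map fun a => X.basicOpen a) (idxEquiv fs i) := by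
  rw [fam_eq_get]
  simp [idxEquiv]

theorem exists_equiv (p : ℕ) :
    Nonempty (CohIII.koszulHLim fs (ModuleCat.of Γ(X, ⊤) (F.val.obj (op ⊤))) p ≃+
      ((Cc (FP F) (fs.map fun a => X.basicOpen a) ⊤).homology ((p : ℤ) - fs.length) :
        ModuleCat.{u} Γ(X, ⊤))) := by
  haveI : QuasiSeparatedSpace X := inferInstance
  obtain ⟨e⟩ := nonempty_koszulHLim_equiv_cech (setting F)
    (W := (⊤ : X.Opens)) (a := 1) (Scheme.basicOpen_of_isUnit _ isUnit_one) (topIso F) fs p
  exact ⟨e.toAddEquiv⟩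

theorem cech_koszul (p : ℕ) (hp : 1 ≤ p) :
    Nonempty (↑(CohB1.cechH (fun i : ULift.{u} (Fin fs.length) => X.basicOpen (fs.get i.down)) F p) ≃+
      CohIII.koszulHLim fs (ModuleCat.of Γ(X, ⊤) (F.val.obj (op ⊤))) (p + 1)) := by
  obtain ⟨m, rfl⟩ : ∃ m, p = m + 1 := ⟨p - 1, by omega⟩
  obtain ⟨e⟩ := exists_equiv F fs (m + 1 + 1)
  obtain ⟨e'⟩ := nonempty_cech_equiv (FP F) (fun i : ULift.{u} (Fin fs.length) => X.basicOpen (fs.get i.down))
    (idxEquiv fs) (fam_idxEquiv fs) m (((m + 1 + 1 : ℕ) : ℤ) - fs.length) (by simp; omega)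
  exact ⟨e'.trans e.symm⟩

theorem sections_koszul :
    Nonempty (((Coh.toAb F).obj.map (homOfLE (le_top : (⨆ i : Fin fs.length, X.basicOpen (fs.get i)) ≤ ⊤)).op).hom.ker ≃+
        CohIII.koszulHLim fs (ModuleCat.of Γ(X, ⊤) (F.val.obj (op ⊤))) 0) ∧
      Nonempty (↑((Coh.toAb F).obj.obj (op (⨆ i : Fin fs.length, X.basicOpen (fs.get i)))) ⧸
        ((Coh.toAb F).obj.map (homOfLE (le_top : (⨆ i : Fin fs.length, X.basicOpen (fs.get i)) ≤ ⊤)).op).hom.range ≃+
        CohIII.koszulHLim fs (ModuleCat.of Γ(X, ⊤) (F.val.obj (op ⊤))) 1) := by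
  have hle : ∀ i : ULift.{u} (Fin fs.length),
      X.basicOpen (fs.get i.down) ≤ ⨆ i : Fin fs.length, X.basicOpen (fs.get i) := fun i =>
    le_iSup (fun i : Fin fs.length => X.basicOpen (fs.get i)) i.down
  have hcov : (⨆ i : Fin fs.length, X.basicOpen (fs.get i)) ≤
      ⨆ i : ULift.{u} (Fin fs.length), X.basicOpen (fs.get i.down) := iSup_le fun i =>
    le_iSup (fun i : ULift.{u} (Fin fs.length) => X.basicOpen (fs.get i.down)) ⟨i⟩
  obtain ⟨e₀⟩ := exists_equiv F fs 0
  obtain ⟨e₁⟩ := exists_equiv F fs 1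
  obtain ⟨d₀⟩ := nonempty_H0_equiv (FP F) (fun i : ULift.{u} (Fin fs.length) => X.basicOpen (fs.get i.down))
    (idxEquiv fs) (fam_idxEquiv fs) (Coh.toAb F).property hle hcov ((0 : ℤ) - fs.length) (by simp)
  obtain ⟨d₁⟩ := nonempty_H1_equiv (FP F) (fun i : ULift.{u} (Fin fs.length) => X.basicOpen (fs.get i.down))
    (idxEquiv fs) (fam_idxEquiv fs) (Coh.toAb F).property hle hcov ((1 : ℤ) - fs.length) (by simp)
  exact ⟨⟨d₀.trans e₀.symm⟩, ⟨d₁.trans e₁.symm⟩⟩

theorem basicOpen_prod {κ : Type*} [DecidableEq κ] (s : Finset κ) (g : κ → Γ(X, ⊤)) :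
    X.basicOpen (∏ a ∈ s, g a) = s.inf fun a => X.basicOpen (g a) := by
  induction s using Finset.induction with
  | empty => simpa using Scheme.basicOpen_of_isUnit (X := X) (1 : Γ(X, ⊤)) isUnit_one
  | insert a s ha ih => rw [Finset.prod_insert ha, Scheme.basicOpen_mul, Finset.inf_insert, ih]

theorem cohomology_koszul (haff : ∀ i : Fin fs.length, IsAffineOpen (X.basicOpen (fs.get i)))
    (q : ℕ) (hq : 1 ≤ q) :
    Nonempty (Coh.HHon X F (⨆ i : Fin fs.length, X.basicOpen (fs.get i)) q ≃+
      CohIII.koszulHLim fs (ModuleCat.of Γ(X, ⊤) (F.val.obj (op ⊤))) (q + 1)) := by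
  let U : ULift.{u} (Fin fs.length) → X.Opens := fun i => X.basicOpen (fs.get i.down)
  let V : X.Opens := ⨆ i : Fin fs.length, X.basicOpen (fs.get i)
  have hle : ∀ i, U i ≤ V := fun i => le_iSup (fun i : Fin fs.length => X.basicOpen (fs.get i)) i.down
  have hcov : V ≤ iSup U := iSup_le fun i => le_iSup U ⟨i⟩
  have hac : Acyclic U (Coh.toAb F) := acyclic_of_affine F U fun m i => by
    have h : inter U i = X.basicOpen (resG (U (i 0)) (∏ a, fs.get (i a).down)) := by
      rw [Scheme.basicOpen_res, basicOpen_prod]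
      refine le_antisymm (le_inf (inter_le U i 0) (Finset.le_inf fun a _ => inter_le U i a))
        (le_iInf fun a => inf_le_right.trans (Finset.inf_le (Finset.mem_univ a)))
    rw [h]
    exact (haff (i 0).down).basicOpen _
  obtain ⟨e₁⟩ := OpenRestrH.nonempty_HHon_equiv X F V q
  obtain ⟨e₂⟩ := CechOpenLib.cechH_iso U hle hcov hac q
  obtain ⟨e₃⟩ := cech_koszul F fs q hq
  exact ⟨(e₁.symm.trans e₂.symm).trans e₃⟩

end Groth.Agent.KoszulCech
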