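import Groth.Agent.KoszulCech.FlasqueCrit
import Groth.Agent.KoszulCech.Main
import Groth.Agent.LocZLib.Derived
import Groth.Prelude.Def_Wider

/-!
# Cohomology with supports of the sheaf of a module as a limit of Koszul cohomology
-/

set_option linter.style.haveILetI false
set_option backward.isDefEq.respectTransparency false

universe u

open CategoryTheory CategoryTheory.Limits Opposite TopologicalSpace AlgebraicGeometry Abelian

noncomputable section

namespace Groth.Agent.KoszulCech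

open Groth.Agent.CohBase

variable {A : Type u} [CommRing A] (M : ModuleCat.{u} A)

/-- The affine scheme. -/
abbrev SpA (A : Type u) [CommRing A] : Scheme.{u} := Spec (CommRingCat.of A)

/-- The underlying abelian sheaf of `M~`. -/
abbrev tAb : CohTop.Ab (SpA A).carrier := Coh.toAb (tilde (R := CommRingCat.of A) M)

theorem isAffineOpen_inter (fs : List A) (m : ℕ) (i : Fin (m + 1) → ULift.{u} (Fin fs.length)) :
    IsAffineOpen (X := SpA A)
      (inter (X := PrimeSpectrum A) (fun i : ULift.{u} (Fin fs.length) => PrimeSpectrum.basicOpen (fs.get i.down)) i) := by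
  have h : inter (X := PrimeSpectrum A) (fun i : ULift.{u} (Fin fs.length) => PrimeSpectrum.basicOpen (fs.get i.down)) i
      = PrimeSpectrum.basicOpen (∏ a, fs.get (i a).down) := by
    refine le_antisymm (fun x hx => ?_) (le_iInf fun a x hx => ?_)
    · rw [PrimeSpectrum.mem_basicOpen, Ideal.IsPrime.prod_mem_iff]
      rintro ⟨a, -, ha⟩
      have := inter_le _ i a hx
      rw [PrimeSpectrum.mem_basicOpen] at this
      exact this ha
    · rw [PrimeSpectrum.mem_basicOpen] at hx ⊢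
      exact fun ha => hx (x.2.prod_mem_iff.2 ⟨a, Finset.mem_univ _, ha⟩)
  rw [h]
  exact IsAffineOpen.Spec_basicOpen (R := CommRingCat.of A) _

theorem uOpen_eq (fs : List A) :
    LocCoh.puncturedOpen A (Ideal.span {a | a ∈ fs}) = uOpen fs := by
  refine TopologicalSpace.Opens.ext ?_
  show (PrimeSpectrum.zeroLocus ((Ideal.span {a | a ∈ fs} : Ideal A) : Set A))ᶜ = _
  rw [PrimeSpectrum.zeroLocus_span, Opens.coe_iSup]
  ext x
  simp only [Set.mem_compl_iff, PrimeSpectrum.mem_zeroLocus, Set.mem_iUnion, SetLike.mem_coe,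
    PrimeSpectrum.mem_basicOpen, Set.not_subset]
  constructor
  · rintro ⟨a, ha, hx⟩
    obtain ⟨i, rfl⟩ := List.mem_iff_get.1 ha
    exact ⟨i, hx⟩
  · rintro ⟨i, hx⟩
    exact ⟨_, List.get_mem _ i, hx⟩

theorem nonempty_HZ_succ_succ (V : (SpA A).Opens) (q : ℕ) :
    Nonempty (CohTop.HU (tAb M) (q + 1) V ≃+ LocCohZ.HZc (tAb M) (q + 1 + 1) V) := by
  haveI : Coh.IsQCoh (tilde (R := CommRingCat.of A) M) := inferInstance
  have h0 : ∀ n : ℕ, Subsingleton (CohTop.HU (tAb M) (n + 1) (⊤ : (SpA A).Opens)) := fun n =>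
    affine_vanishing (tilde (R := CommRingCat.of A) M) (isAffineOpen_top (SpA A)) n
  refine ⟨AddEquiv.ofBijective (LocCohZ.delta (X := (SpA A).carrier) (tAb M) (q + 1) (le_top : V ≤ ⊤))
    ⟨(injective_iff_map_eq_zero _).2 fun y hy => ?_, fun z => ?_⟩⟩
  · obtain ⟨x, rfl⟩ := Ext.contravariant_sequence_exact₁ (LocCohZ.zqSeq_shortExact (le_top : V ≤ ⊤))
      (tAb M) y (by omega : 1 + (q + 1) = q + 1 + 1) hy
    have hx : x = 0 := (h0 q).elim _ _
    rw [hx, Ext.comp_zero]
  · obtain ⟨y, hy⟩ := Ext.contravariant_sequence_exact₃ (LocCohZ.zqSeq_shortExact (le_top : V ≤ ⊤))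
      (tAb M) z ((h0 (q + 1)).elim _ _) (by omega : 1 + (q + 1) = q + 1 + 1)
    exact ⟨y, hy⟩

theorem nonempty_HZ_one (F : CohTop.Ab (SpA A).carrier) (V : (SpA A).Opens)
    (h0 : Subsingleton (CohTop.HU F 1 (⊤ : (SpA A).Opens))) :
    Nonempty ((F.obj.obj (op V) ⧸ (F.obj.map (homOfLE (le_top : V ≤ ⊤)).op).hom.range) ≃+
      LocCohZ.HZc F 1 V) := by
  let J := Opens.grothendieckTopology (SpA A)
  let e : ∀ W : (SpA A).Opens, CohTop.HU F 0 W ≃+ F.obj.obj (op W) := fun W =>
    Ext.addEquiv₀.trans (CohFree.homEquivSect J W F)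
  let d : F.obj.obj (op V) →+ LocCohZ.HZc F 1 V :=
    (LocCohZ.delta F 0 (le_top : V ≤ ⊤)).comp (e V).symm.toAddMonoidHom
  have hres : ∀ x, e V (CohTop.res F 0 (le_top : V ≤ ⊤) x) = F.obj.map (homOfLE (le_top : V ≤ ⊤)).op (e ⊤ x) := by
    intro x
    obtain ⟨φ, rfl⟩ := Ext.addEquiv₀.symm.surjective x
    rw [Groth.Agent.LocZLib.res_eq, Ext.addEquiv₀_symm_apply, Ext.mk₀_comp_mk₀]
    simp only [e, AddEquiv.trans_apply, ← Ext.addEquiv₀_symm_apply, AddEquiv.apply_symm_apply]
    refine (congrArg (CohFree.homEquivSect J V F) (Ext.addEquiv₀.apply_symm_apply _)).trans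
      ((CohFree.evalGen_freeSheafMap_comp J (homOfLE (le_top : V ≤ ⊤)) F φ).trans ?_)
    exact congrArg (fun z => F.obj.map (homOfLE (le_top : V ≤ ⊤)).op (CohFree.homEquivSect J ⊤ F z))
      (Ext.addEquiv₀.apply_symm_apply φ).symm
  have hd : Function.Surjective d := fun z => by
    obtain ⟨y, hy⟩ := Ext.contravariant_sequence_exact₃ (LocCohZ.zqSeq_shortExact (le_top : V ≤ ⊤))
      F z (h0.elim _ _) (n₀ := 0) (by omega)
    refine ⟨e V y, ?_⟩
    show LocCohZ.delta F 0 (le_top : V ≤ ⊤) ((e V).symm (e V y)) = z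
    rw [AddEquiv.symm_apply_apply]
    exact hy
  refine ⟨(QuotientAddGroup.quotientAddEquivOfEq ?_).trans (QuotientAddGroup.quotientKerEquivOfSurjective d hd)⟩
  ext s
  rw [AddMonoidHom.mem_ker, AddMonoidHom.mem_range]
  constructor
  · rintro ⟨t, rfl⟩
    show LocCohZ.delta F 0 (le_top : V ≤ ⊤) ((e V).symm (F.obj.map _ t)) = 0
    rw [← (e ⊤).apply_symm_apply t, ← hres, AddEquiv.symm_apply_apply]
    exact (Ext.comp_assoc _ _ _ (by omega) (by omega) (by omega)).symm.trans
      ((congrArg (fun w => Ext.comp w ((e ⊤).symm t) (by omega : 1 + 0 = 0 + 1))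
        (LocCohZ.zqSeq_shortExact (le_top : V ≤ ⊤)).extClass_comp).trans (by simp))
  · intro hs
    obtain ⟨x, hx⟩ := Ext.contravariant_sequence_exact₁ (LocCohZ.zqSeq_shortExact (le_top : V ≤ ⊤))
      F ((e V).symm s) (n₁ := 1) (by omega) hs
    refine ⟨e ⊤ x, ?_⟩
    refine (hres x).symm.trans ?_
    exact (congrArg (e V) hx).trans ((e V).apply_symm_apply s)

theorem nonempty_HZ_zero (F : CohTop.Ab (SpA A).carrier) (V : (SpA A).Opens) :
    Nonempty ((F.obj.map (homOfLE (le_top : V ≤ ⊤)).op).hom.ker ≃+ LocCohZ.HZc F 0 V) := by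
  refine ⟨(AddEquiv.trans ?_ (LocCohZ.sect0Equiv F (le_top : V ≤ ⊤)).symm)⟩
  exact { toFun := fun s => ⟨s.1, s.2⟩
          invFun := fun s => ⟨s.1, s.2⟩
          left_inv := fun _ => rfl
          right_inv := fun _ => rfl
          map_add' := fun _ _ => rfl }

theorem nonempty_koszulHLim_HZ (fs : List A) (i : ℕ) :
    Nonempty (CohIII.koszulHLim fs M i ≃+ LocCohZ.HZc (tAb M) i (uOpen fs : (SpA A).Opens)) := by
  let l := fs.map fun a => PrimeSpectrum.basicOpen a
  let U : ULift.{u} (Fin fs.length) → Opens (PrimeSpectrum A) := fun i => PrimeSpectrum.basicOpen (fs.get i.down)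
  let σ : ULift.{u} (Fin fs.length) ≃ Fin l.length := Equiv.ulift.trans (finCongr (by simp [l]))
  have hU : ∀ i, U i = fam l (σ i) := fun i => by
    rw [fam_eq_get]
    simp [U, σ, l]
  have hle : ∀ i, U i ≤ uOpen fs := fun i =>
    le_iSup (fun i : Fin fs.length => PrimeSpectrum.basicOpen (fs.get i)) i.down
  have hcov : uOpen fs ≤ iSup U := iSup_le fun i => le_iSup U ⟨i⟩
  let t : M ⟶ (tP M).obj (op (⊤ : Opens (PrimeSpectrum A))) := tilde.toOpen (R := CommRingCat.of A) M ⊤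
  haveI : IsIso t := tilde.isIso_toOpen_top (R := CommRingCat.of A) (M := M)
  obtain ⟨e⟩ := nonempty_koszulHLim_equiv_cech (setting_tilde M) (a := 1) (W := ⊤)
    PrimeSpectrum.basicOpen_one (asIso t) fs i
  match i, e with
  | 0, e =>
    obtain ⟨e'⟩ := nonempty_H0_equiv (tP M) U σ hU (tAb M).property hle hcov (((0 : ℕ) : ℤ) - fs.length)
      (by simp [l])
    obtain ⟨e''⟩ := nonempty_HZ_zero (tAb M) (uOpen fs)
    exact ⟨(e.toAddEquiv.trans e'.symm).trans e''⟩
  | 1, e =>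
    obtain ⟨e'⟩ := nonempty_H1_equiv (tP M) U σ hU (tAb M).property hle hcov (((1 : ℕ) : ℤ) - fs.length)
      (by simp [l])
    obtain ⟨e''⟩ := nonempty_HZ_one (tAb M) (uOpen fs)
      (affine_vanishing (tilde (R := CommRingCat.of A) M) (isAffineOpen_top (SpA A)) 0)
    exact ⟨(e.toAddEquiv.trans e'.symm).trans e''⟩
  | q + 2, e =>
    obtain ⟨e'⟩ := nonempty_cech_equiv (tP M) U σ hU q (((q + 2 : ℕ) : ℤ) - fs.length) (by simp [l])
    have hac : Acyclic U (tAb M) := acyclic_of_affine (tilde (R := CommRingCat.of A) M) U (isAffineOpen_inter fs)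
    obtain ⟨e₂⟩ := CechOpenLib.cechH_iso U hle hcov hac (q + 1)
    obtain ⟨e''⟩ := nonempty_HZ_succ_succ M (uOpen fs) q
    exact ⟨((e.toAddEquiv.trans e'.symm).trans e₂).trans e''⟩

end Groth.Agent.KoszulCech
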