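import Mathlib.Algebra.Category.ModuleCat.Basic
import Mathlib.Data.Fin.Parity
import Mathlib.Algebra.BigOperators.Fin
import Mathlib.Algebra.BigOperators.GroupWithZero.Action
import Mathlib.Topology.Sets.Opens

/-!
# Cochains on tuples of opens of a family, relative to an open
-/

universe u

open CategoryTheory Opposite TopologicalSpace

noncomputable section

namespace Groth.Agent.KoszulCech

variable {A : Type u} [CommRing A] {T : Type u} [TopologicalSpace T]
  (P : (Opens T)ᵒᵖ ⥤ ModuleCat.{u} A)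

/-- Restriction. -/
abbrev rs {V W : Opens T} (h : W ≤ V) : P.obj (op V) →ₗ[A] P.obj (op W) :=
  (P.map (homOfLE h).op).hom

theorem rs_rs {U V W : Opens T} (h : V ≤ U) (h' : W ≤ V) (x : P.obj (op U)) :
    rs P h' (rs P h x) = rs P (h'.trans h) x :=
  (ConcreteCategory.congr_hom (P.map_comp (homOfLE h).op (homOfLE h').op) x).symm

theorem rs_self {U : Opens T} (x : P.obj (op U)) : rs P (le_refl U) x = x :=
  ConcreteCategory.congr_hom (P.map_id (op U)) x

variable {ι ι' ι'' : Type} (U : ι → Opens T) (W : Opens T)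

/-- The open of a tuple. -/
abbrev tin {m : ℕ} (i : Fin m → ι) : Opens T := W ⊓ ⨅ a, U (i a)

/-- Cochains. -/
abbrev RC (m : ℕ) : Type u := ∀ i : Fin m → ι, P.obj (op (tin U W i))

variable {U W}

theorem tin_le_left {m : ℕ} (i : Fin m → ι) : tin U W i ≤ W := inf_le_left

theorem tin_le_apply {m : ℕ} (i : Fin m → ι) (a : Fin m) : tin U W i ≤ U (i a) :=
  inf_le_right.trans (iInf_le _ a)

theorem le_tin {m : ℕ} {i : Fin m → ι} {V : Opens T} (h : V ≤ W) (h' : ∀ a, V ≤ U (i a)) :
    V ≤ tin U W i := le_inf h (le_iInf h')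

theorem rs_congr {m : ℕ} (x : RC P U W m) {i i' : Fin m → ι} (h : i = i') {V : Opens T}
    (hi : V ≤ tin U W i) : rs P hi (x i) = rs P (h ▸ hi) (x i') := by
  subst h; rfl

variable (U W)

/-- The differential. -/
def rd (m : ℕ) : RC P U W m →ₗ[A] RC P U W (m + 1) where
  toFun x i := ∑ j : Fin (m + 1), ((-1 : ℤ) ^ (j : ℕ)) •
    rs P (le_tin (tin_le_left i) fun a => tin_le_apply i (j.succAbove a)) (x (i ∘ j.succAbove))
  map_add' x y := by
    funext i
    simp only [Pi.add_apply, map_add, smul_add, Finset.sum_add_distrib]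
  map_smul' r x := by
    funext i
    simp only [Pi.smul_apply, map_smul, RingHom.id_apply, Finset.smul_sum]
    exact Finset.sum_congr rfl fun j _ => smul_comm _ _ _

theorem rd_apply {m : ℕ} (x : RC P U W m) (i : Fin (m + 1) → ι) :
    rd P U W m x i = ∑ j : Fin (m + 1), ((-1 : ℤ) ^ (j : ℕ)) •
      rs P (le_tin (tin_le_left i) fun a => tin_le_apply i (j.succAbove a)) (x (i ∘ j.succAbove)) :=
  rfl

theorem rd_rd {m : ℕ} (x : RC P U W m) : rd P U W (m + 1) (rd P U W m x) = 0 := by
  funext i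
  simp only [rd_apply, map_sum, map_zsmul, Finset.smul_sum, smul_smul, rs_rs, Pi.zero_apply]
  refine (Fintype.sum_prod_type' _).symm.trans ?_
  refine Finset.sum_involution (fun p _ => (p.1.succAbove p.2, p.2.predAbove p.1))
    (fun p _ => ?_) (fun p _ _ h => Fin.succAbove_ne p.1 p.2 (congrArg Prod.fst h))
    (fun p _ => Finset.mem_univ _) (fun p _ => ?_)
  · obtain ⟨j, l⟩ := p
    dsimp only
    rw [← pow_add, ← pow_add]
    have e : (i ∘ j.succAbove) ∘ l.succAbove =
        (i ∘ (j.succAbove l).succAbove) ∘ (l.predAbove j).succAbove :=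
      funext fun a => congrArg i (Fin.succAbove_succAbove_succAbove_predAbove j l a).symm
    rw [rs_congr P x e, Fin.neg_one_pow_succAbove_add_predAbove (R := ℤ), neg_smul]
    exact add_neg_cancel _
  · exact Prod.ext (Fin.succAbove_succAbove_predAbove p.1 p.2)
      (Fin.predAbove_predAbove_succAbove p.1 p.2)

variable {U W} {U' : ι' → Opens T} {W' : Opens T} (σ : ι → ι') (hσ : ∀ a, U a ≤ U' (σ a))
  (hW : W ≤ W')

/-- Pull back cochains. -/
def rcomap (m : ℕ) : RC P U' W' m →ₗ[A] RC P U W m where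
  toFun x i := rs P (le_tin ((tin_le_left i).trans hW) fun a => (tin_le_apply i a).trans (hσ (i a)))
    (x (σ ∘ i))
  map_add' x y := by funext i; simp only [Pi.add_apply, map_add]
  map_smul' r x := by funext i; simp only [Pi.smul_apply, map_smul, RingHom.id_apply]

theorem rcomap_apply {m : ℕ} (x : RC P U' W' m) (i : Fin m → ι) :
    rcomap P σ hσ hW m x i =
      rs P (le_tin ((tin_le_left i).trans hW) fun a => (tin_le_apply i a).trans (hσ (i a))) (x (σ ∘ i)) :=
  rfl

theorem rcomap_rd {m : ℕ} (x : RC P U' W' m) :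
    rcomap P σ hσ hW (m + 1) (rd P U' W' m x) = rd P U W m (rcomap P σ hσ hW m x) := by
  funext i
  simp only [rcomap_apply, rd_apply, map_sum, map_zsmul, rs_rs]
  rfl

theorem rcomap_rcomap {U'' : ι'' → Opens T} {W'' : Opens T} (τ : ι' → ι'') (hτ : ∀ a, U' a ≤ U'' (τ a))
    (hW' : W' ≤ W'') {m : ℕ} (x : RC P U'' W'' m) :
    rcomap P σ hσ hW m (rcomap P τ hτ hW' m x) =
      rcomap P (τ ∘ σ) (fun a => (hσ a).trans (hτ (σ a))) (hW.trans hW') m x := by
  funext i
  simp only [rcomap_apply, rs_rs]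
  rfl

theorem rcomap_id {m : ℕ} (x : RC P U W m) : rcomap P id (fun _ => le_rfl) le_rfl m x = x :=
  funext fun i => rs_self P (x i)

variable (k : ι') (hk : W ≤ U' k)

/-- Prepend an index. -/
def rpre (m : ℕ) : RC P U' W' (m + 1) →ₗ[A] RC P U W m where
  toFun x i := rs P (le_tin ((tin_le_left i).trans hW) (Fin.cases ((tin_le_left i).trans hk)
    fun a => (tin_le_apply i a).trans (hσ (i a)))) (x (Fin.cons k (σ ∘ i)))
  map_add' x y := by funext i; simp only [Pi.add_apply, map_add]
  map_smul' r x := by funext i; simp only [Pi.smul_apply, map_smul, RingHom.id_apply]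

theorem rpre_apply {m : ℕ} (x : RC P U' W' (m + 1)) (i : Fin m → ι) :
    rpre P σ hσ hW k hk m x i = rs P (le_tin ((tin_le_left i).trans hW)
      (Fin.cases ((tin_le_left i).trans hk) fun a => (tin_le_apply i a).trans (hσ (i a))))
      (x (Fin.cons k (σ ∘ i))) :=
  rfl

theorem rpre_rd_zero (x : RC P U' W' 0) :
    rpre P σ hσ hW k hk 0 (rd P U' W' 0 x) = rcomap P σ hσ hW 0 x := by
  funext i
  simp only [rpre_apply, rd_apply, rcomap_apply, map_sum, map_zsmul, rs_rs]
  rw [Fin.sum_univ_succ, Fin.sum_univ_zero, add_zero]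
  simp only [Fin.val_zero, pow_zero, one_smul]
  exact rs_congr P x (funext fun a => a.elim0) _

theorem rpre_rd {m : ℕ} (x : RC P U' W' (m + 1)) :
    rpre P σ hσ hW k hk (m + 1) (rd P U' W' (m + 1) x) =
      rcomap P σ hσ hW (m + 1) x - rd P U W m (rpre P σ hσ hW k hk m x) := by
  funext i
  simp only [rpre_apply, rd_apply, rcomap_apply, map_sum, map_zsmul, rs_rs, Pi.sub_apply]
  rw [Fin.sum_univ_succ, sub_eq_add_neg, ← Finset.sum_neg_distrib]
  simp only [Fin.val_zero, pow_zero, one_smul, Fin.val_succ, pow_succ, mul_neg, mul_one, neg_smul]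
  refine congrArg₂ (· + ·) ?_ (Finset.sum_congr rfl fun j _ => congrArg (fun v => -v) ?_)
  · exact rs_congr P x (funext fun a => by simp) _
  · refine congrArg (((-1 : ℤ) ^ (j : ℕ)) • ·) (rs_congr P x (funext fun a => ?_) _)
    refine Fin.cases ?_ (fun b => ?_) a
    · simp
    · simp

end Groth.Agent.KoszulCech
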