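import Groth.Agent.KoszulCech.Sys
import Groth.Agent.KoszulCech.Raw

/-!
# Čech cochains of a family of opens compute the stable Koszul complex
-/

set_option linter.style.haveILetI false
set_option backward.isDefEq.respectTransparency false

universe u

open CategoryTheory CochainComplex Opposite TopologicalSpace

noncomputable section

namespace Groth.Agent.KoszulCech

variable {A : Type u} [CommRing A] {T : Type u} [TopologicalSpace T]
  (P : (Opens T)ᵒᵖ ⥤ ModuleCat.{u} A)

/-- The family of a list of opens. -/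
def fam : (l : List (Opens T)) → Fin l.length → Opens T
  | [] => Fin.elim0
  | g :: l => Fin.cons g (fam l)

theorem fam_eq_get : ∀ (l : List (Opens T)) (i : Fin l.length), fam l i = l.get i
  | [], i => i.elim0
  | _ :: _, ⟨0, _⟩ => rfl
  | _ :: l, ⟨n + 1, hn⟩ => fam_eq_get l ⟨n, Nat.lt_of_succ_lt_succ hn⟩

variable (l : List (Opens T)) (W : Opens T)

/-- Augmented cochains, by degree. -/
abbrev Xc (k : ℤ) : Type u := ∀ m : {m : ℕ // (m : ℤ) = k + l.length}, RC P (fam l) W m.1

/-- The unsigned differential. -/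
def dX {k k' : ℤ} (h : k + 1 = k') : Xc P l W k →ₗ[A] Xc P l W k' where
  toFun x m := match m with
    | ⟨0, _⟩ => 0
    | ⟨m + 1, hm⟩ => rd P (fam l) W m (x ⟨m, by omega⟩)
  map_add' x y := by
    funext ⟨m, hm⟩
    cases m with
    | zero => exact (add_zero (0 : RC P (fam l) W 0)).symm
    | succ m => exact map_add (rd P (fam l) W m) _ _
  map_smul' r x := by
    funext ⟨m, hm⟩
    cases m with
    | zero => exact (smul_zero r).symm
    | succ m => exact map_smul (rd P (fam l) W m) r _

theorem dX_dX {k k' k'' : ℤ} (h : k + 1 = k') (h' : k' + 1 = k'') (x : Xc P l W k) :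
    dX P l W h' (dX P l W h x) = 0 := by
  funext ⟨m, hm⟩
  rcases m with _ | _ | m
  · rfl
  · exact map_zero (rd P (fam l) W 0)
  · exact rd_rd P (fam l) W _

section ops

variable {l W} {l' : List (Opens T)} {W' : Opens T}

/-- A degreewise operation. -/
def opX (F : ∀ m, RC P (fam l') W' m →ₗ[A] RC P (fam l) W m) {k' k : ℤ}
    (h : k + l.length = k' + l'.length) : Xc P l' W' k' →ₗ[A] Xc P l W k where
  toFun x m := F m.1 (x ⟨m.1, by have := m.2; omega⟩)
  map_add' x y := by funext m; exact map_add (F m.1) _ _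
  map_smul' r x := by funext m; exact map_smul (F m.1) r _

/-- An operation lowering the degree. -/
def opD (F : ∀ m, RC P (fam l') W' (m + 1) →ₗ[A] RC P (fam l) W m) {k' k : ℤ}
    (h : k + l.length + 1 = k' + l'.length) : Xc P l' W' k' →ₗ[A] Xc P l W k where
  toFun x m := F m.1 (x ⟨m.1 + 1, by have := m.2; push_cast; omega⟩)
  map_add' x y := by funext m; exact map_add (F m.1) _ _
  map_smul' r x := by funext m; exact map_smul (F m.1) r _

variable (σ : Fin l.length → Fin l'.length) (hσ : ∀ a, fam l a ≤ fam l' (σ a)) (hW : W ≤ W')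

/-- Pull back. -/
abbrev cX {k' k : ℤ} (h : k + l.length = k' + l'.length) : Xc P l' W' k' →ₗ[A] Xc P l W k :=
  opX P (rcomap P σ hσ hW) h

variable (a₀ : Fin l'.length) (ha₀ : W ≤ fam l' a₀)

/-- Prepend. -/
abbrev pX {k' k : ℤ} (h : k + l.length + 1 = k' + l'.length) : Xc P l' W' k' →ₗ[A] Xc P l W k :=
  opD P (rpre P σ hσ hW a₀ ha₀) h

theorem cX_dX {j' k' j k : ℤ} (h : j + l.length = j' + l'.length) (h' : k + l.length = k' + l'.length)
    (hj' : j' + 1 = k') (hj : j + 1 = k) (x : Xc P l' W' j') :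
    cX P σ hσ hW h' (dX P l' W' hj' x) = dX P l W hj (cX P σ hσ hW h x) := by
  funext ⟨m, hm⟩
  cases m with
  | zero => exact map_zero (rcomap P σ hσ hW 0)
  | succ m => exact rcomap_rd P σ hσ hW _

theorem pX_dX {j' k' j k : ℤ} (h : j + l.length + 1 = j' + l'.length)
    (h' : k + l.length + 1 = k' + l'.length) (hc : k + l.length = j' + l'.length)
    (hj' : j' + 1 = k') (hj : j + 1 = k) (x : Xc P l' W' j') :
    pX P σ hσ hW a₀ ha₀ h' (dX P l' W' hj' x) =
      cX P σ hσ hW hc x - dX P l W hj (pX P σ hσ hW a₀ ha₀ h x) := by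
  funext ⟨m, hm⟩
  cases m with
  | zero => exact (rpre_rd_zero P σ hσ hW a₀ ha₀ _).trans (sub_zero _).symm
  | succ m => exact rpre_rd P σ hσ hW a₀ ha₀ _

end ops

section cons

variable (l : List (Opens T)) (g : Opens T)

/-- The shift of indices. -/
abbrev sc : Fin l.length → Fin (g :: l).length := Fin.succ

theorem sc_le (a : Fin l.length) : fam l a ≤ fam (g :: l) (sc l g a) := le_rfl

theorem id_le (a : Fin l.length) : fam l a ≤ fam l (id a) := le_rfl

theorem id_le' (a : Fin (g :: l).length) : fam (g :: l) a ≤ fam (g :: l) (id a) := le_rfl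

/-- The new index. -/
abbrev z0 : Fin (g :: l).length := (0 : Fin (l.length + 1))

variable (W : Opens T)

/-- Extend by zero. -/
def rext (m : ℕ) : RC P (fam l) W m →ₗ[A] RC P (fam (g :: l)) W m where
  toFun x i :=
    if h : ∀ a, (i a : Fin (l.length + 1)) ≠ 0 then
      rs P (le_tin (tin_le_left i) fun a => (tin_le_apply i a).trans (le_of_eq
        (show (Fin.cons g (fam l) : Fin (l.length + 1) → Opens T) (i a) = fam l (Fin.pred (i a) (h a)) by
          conv_lhs => rw [← Fin.succ_pred (i a) (h a)]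
          rw [Fin.cons_succ]))) (x fun a => Fin.pred (i a) (h a))
    else 0
  map_add' x y := by
    funext i
    by_cases h : ∀ a, (i a : Fin (l.length + 1)) ≠ 0 <;> simp [h]
  map_smul' r x := by
    funext i
    by_cases h : ∀ a, (i a : Fin (l.length + 1)) ≠ 0 <;> simp [h]

/-- Lift from the intersection with the new open. -/
def rlift (m : ℕ) : RC P (fam (g :: l)) (W ⊓ g) m →ₗ[A] RC P (fam (g :: l)) W m where
  toFun x i :=
    if h : ∃ a, (i a : Fin (l.length + 1)) = 0 then
      rs P (le_tin (le_inf (tin_le_left i) (by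
        obtain ⟨a, ha⟩ := h
        refine (tin_le_apply i a).trans (le_of_eq ?_)
        show (Fin.cons g (fam l) : Fin (l.length + 1) → Opens T) (i a) = g
        rw [ha, Fin.cons_zero])) fun a => tin_le_apply i a) (x i)
    else 0
  map_add' x y := by
    funext i
    by_cases h : ∃ a, (i a : Fin (l.length + 1)) = 0
    · simp only [Pi.add_apply, dif_pos h, map_add]
    · simp only [Pi.add_apply, dif_neg h, add_zero]
  map_smul' r x := by
    funext i
    by_cases h : ∃ a, (i a : Fin (l.length + 1)) = 0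
    · simp only [Pi.smul_apply, dif_pos h, map_smul, RingHom.id_apply]
    · simp only [Pi.smul_apply, dif_neg h, smul_zero]

variable {W}

theorem rcomap_rext {m : ℕ} (x : RC P (fam l) W m) :
    rcomap P (sc l g) (sc_le l g) le_rfl m (rext P l g W m x) = x := by
  funext i
  refine (congrArg (rs P _) (dif_pos fun a => Fin.succ_ne_zero (i a))).trans ?_
  refine (rs_rs P _ _ _).trans ((rs_congr P x (funext fun a => Fin.pred_succ (i a)) _).trans ?_)
  exact rs_self P (x i)

theorem rpre_rext {V : Opens T} (hV : V ≤ W) (hVg : V ≤ g) {m : ℕ} (x : RC P (fam l) W (m + 1)) :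
    rpre P (sc l g) (sc_le l g) hV (z0 l g) hVg m (rext P l g W (m + 1) x) = 0 := by
  funext i
  exact (congrArg (rs P _) (dif_neg fun h => h 0 rfl)).trans (map_zero (rs P _))

theorem rcomap_rlift {m : ℕ} (y : RC P (fam (g :: l)) (W ⊓ g) m) :
    rcomap P (sc l g) (sc_le l g) le_rfl m (rlift P l g W m y) = 0 := by
  funext i
  exact (congrArg (rs P _) (dif_neg fun ⟨a, ha⟩ => Fin.succ_ne_zero (i a) ha)).trans (map_zero (rs P _))

theorem eq_zero_of_no_new {V : Opens T} {m : ℕ} (y : RC P (fam (g :: l)) V m)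
    (hy : rcomap P (sc l g) (sc_le l g) le_rfl m y = 0) (i : Fin m → Fin (g :: l).length)
    (h : ∀ a, (i a : Fin (l.length + 1)) ≠ 0) : y i = 0 := by
  let i' : Fin m → Fin l.length := fun a => Fin.pred (i a) (h a)
  have hi : i = sc l g ∘ i' := funext fun a => (Fin.succ_pred (i a) (h a)).symm
  have hle : tin (fam (g :: l)) V i ≤ tin (fam l) V i' := le_tin (tin_le_left i) fun a => by
    refine (tin_le_apply i a).trans (le_of_eq ?_)
    rw [show i a = sc l g (i' a) from congrFun hi a]
    rfl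
  refine ((rs_self P (y i)).symm.trans (rs_congr P y hi _)).trans ?_
  have h0 := congrArg (rs P hle) (congrFun hy i')
  rw [Pi.zero_apply, map_zero, rcomap_apply, rs_rs] at h0
  exact h0

theorem rcomap_id_rlift {m : ℕ} (y : RC P (fam (g :: l)) (W ⊓ g) m)
    (hy : rcomap P (sc l g) (sc_le l g) le_rfl m y = 0) :
    rcomap P id (id_le' l g) inf_le_left m (rlift P l g W m y) = y := by
  funext i
  by_cases h : ∃ a, (i a : Fin (l.length + 1)) = 0
  · refine (congrArg (rs P _) (dif_pos h)).trans ?_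
    exact (rs_rs P _ _ _).trans (rs_self P (y i))
  · refine (congrArg (rs P _) (dif_neg h)).trans ((map_zero (rs P _)).trans ?_)
    exact (eq_zero_of_no_new P l g y hy i fun a ha => h ⟨a, ha⟩).symm

theorem eq_zero_of_rcomap {m : ℕ} (z : RC P (fam (g :: l)) W m)
    (h₁ : rcomap P (sc l g) (sc_le l g) le_rfl m z = 0)
    (h₂ : rcomap P id (id_le' l g) (inf_le_left : W ⊓ g ≤ W) m z = 0) : z = 0 := by
  funext i
  by_cases h : ∃ a, (i a : Fin (l.length + 1)) = 0
  · have hle : tin (fam (g :: l)) W i ≤ tin (fam (g :: l)) (W ⊓ g) i :=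
      le_tin (le_inf (tin_le_left i) (by
        obtain ⟨a, ha⟩ := h
        refine (tin_le_apply i a).trans (le_of_eq ?_)
        show (Fin.cons g (fam l) : Fin (l.length + 1) → Opens T) (i a) = g
        rw [ha, Fin.cons_zero])) fun a => tin_le_apply i a
    have h0 := congrArg (rs P hle) (congrFun h₂ i)
    rw [Pi.zero_apply, map_zero, rcomap_apply, rs_rs] at h0
    exact (rs_self P (z i)).symm.trans h0
  · exact eq_zero_of_no_new P l g z h₁ i fun a ha => h ⟨a, ha⟩

end cons

/-- The sign. -/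
abbrev eps (l : List (Opens T)) : ℤ := (-1) ^ l.length

theorem eps_sq (l : List (Opens T)) : eps l * eps l = 1 := by
  rw [← pow_add, Even.neg_one_pow ⟨_, rfl⟩]

theorem eps_cons (g : Opens T) (l : List (Opens T)) : eps (g :: l) = -eps l := by
  simp [eps, pow_succ]

/-- The augmented complex of Čech cochains. -/
def Cc (l : List (Opens T)) (W : Opens T) : CochainComplex (ModuleCat.{u} A) ℤ :=
  CochainComplex.of (fun k => ModuleCat.of A (Xc P l W k))
    (fun k => ModuleCat.ofHom (eps l • dX P l W (rfl : k + 1 = k + 1))) fun k => by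
    refine ModuleCat.hom_ext (LinearMap.ext fun x => ?_)
    show eps l • dX P l W rfl (eps l • dX P l W rfl x) = 0
    rw [map_zsmul, dX_dX, smul_zero, smul_zero]

theorem Cc_d {l : List (Opens T)} {W : Opens T} {i k : ℤ} (h : i + 1 = k) (x : Xc P l W i) :
    ((Cc P l W).d i k).hom x = eps l • dX P l W h x := by
  subst h
  refine ConcreteCategory.congr_hom (f := (Cc P l W).d i (i + 1))
    (g := ModuleCat.ofHom (eps l • dX P l W rfl)) ?_ x
  exact CochainComplex.of_d (fun k => ModuleCat.of A (Xc P l W k))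
    (fun k => ModuleCat.ofHom (eps l • dX P l W rfl)) i

/-- Cochains as a functor of the base open. -/
def CcF (l : List (Opens T)) : (Opens T)ᵒᵖ ⥤ CochainComplex (ModuleCat.{u} A) ℤ where
  obj W := Cc P l W.unop
  map {W W'} h :=
    { f := fun k => ModuleCat.ofHom (cX P id (fun _ => le_rfl) h.unop.le (rfl : k + _ = k + _))
      comm' := fun i k (hik : i + 1 = k) => by
        refine ModuleCat.hom_ext (LinearMap.ext fun x => ?_)
        show ((Cc P l W'.unop).d i k).hom (cX P id (fun _ => le_rfl) h.unop.le rfl x) =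
          cX P id (fun _ => le_rfl) h.unop.le rfl (((Cc P l W.unop).d i k).hom x)
        erw [Cc_d P hik, Cc_d P hik, map_zsmul, cX_dX P id (fun _ => le_rfl) h.unop.le rfl rfl hik hik] }
  map_id W := by
    ext k : 1
    exact ModuleCat.hom_ext (LinearMap.ext fun x => funext fun m => rcomap_id P _)
  map_comp {U V W} h h' := by
    ext k : 1
    refine ModuleCat.hom_ext (LinearMap.ext fun x => funext fun m => ?_)
    exact (rcomap_rcomap P id (fun _ => le_rfl) h'.unop.le id (fun _ => le_rfl) h.unop.le _).symm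

section Phi

variable (g : Opens T) (l : List (Opens T))

/-- Restriction to the old indices. -/
abbrev PX (W : Opens T) {k k' : ℤ} (h : k + 1 = k') : Xc P (g :: l) W k →ₗ[A] Xc P l W k' :=
  cX P (sc l g) (sc_le l g) le_rfl (by simp only [List.length_cons, Nat.cast_add, Nat.cast_one]; omega)

/-- Evaluation at the new index. -/
abbrev HX {W V : Opens T} (hV : V ≤ W) (hVg : V ≤ g) (k : ℤ) : Xc P (g :: l) W k →ₗ[A] Xc P l V k :=
  pX P (sc l g) (sc_le l g) hV (z0 l g) hVg (by simp only [List.length_cons, Nat.cast_add, Nat.cast_one]; omega)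

theorem PX_dX (W : Opens T) {i k n : ℤ} (h : i + 1 = k) (h' : k + 1 = n) (z : Xc P (g :: l) W i) :
    PX P g l W h' (dX P (g :: l) W h z) = dX P l W h' (PX P g l W h z) :=
  cX_dX P _ _ _ _ _ h h' z

theorem HX_dX {W V : Opens T} (hV : V ≤ W) (hVg : V ≤ g) {i k : ℤ} (h : i + 1 = k)
    (z : Xc P (g :: l) W i) :
    HX P g l hV hVg k (dX P (g :: l) W h z) =
      cX P id (fun _ => le_rfl) hV (rfl : k + _ = k + _) (PX P g l W h z) -
        dX P l V h (HX P g l hV hVg i z) := by
  refine (pX_dX P _ _ _ _ _ _ _ (by simp only [List.length_cons, Nat.cast_add, Nat.cast_one]; omega)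
    h h z).trans (congrArg (· - _) ?_)
  funext ⟨m, hm⟩ j
  exact (rs_rs P _ _ _).symm

/-- The coordinates of the comparison in a degree. -/
def phiMap (W : Opens T) (k : ℤ) :
    (Cc P (g :: l) W).X k ⟶ (mappingCone (toInf (CcF P l) g W)).X k :=
  ModuleCat.ofHom
    (((mappingCone.inl (toInf (CcF P l) g W)).v (k + 1) k (by omega)).hom.comp (PX P g l W rfl) +
      ((mappingCone.inr (toInf (CcF P l) g W)).f k).hom.comp
        (eps (g :: l) • HX P g l inf_le_left inf_le_right k))

theorem phiMap_apply (W : Opens T) {k j : ℤ} (h : k + 1 = j) (x : Xc P (g :: l) W k) :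
    (phiMap P g l W k).hom x = cmk (toInf (CcF P l) g W) k j h (PX P g l W h x)
      (eps (g :: l) • HX P g l inf_le_left inf_le_right k x) := by
  subst h
  rfl

theorem cfst_phiMap (W : Opens T) {k j : ℤ} (h : k + 1 = j) (x : Xc P (g :: l) W k) :
    cfst (toInf (CcF P l) g W) k j h ((phiMap P g l W k).hom x) = PX P g l W h x := by
  rw [phiMap_apply P g l W h, cfst_cmk]

theorem csnd_phiMap (W : Opens T) {k : ℤ} (x : Xc P (g :: l) W k) :
    csnd (toInf (CcF P l) g W) k ((phiMap P g l W k).hom x) =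
      eps (g :: l) • HX P g l inf_le_left inf_le_right k x := by
  rw [phiMap_apply P g l W rfl, csnd_cmk]

/-- The comparison with the cone. -/
def phi (W : Opens T) : Cc P (g :: l) W ⟶ mappingCone (toInf (CcF P l) g W) where
  f k := phiMap P g l W k
  comm' i k (hik : i + 1 = k) := by
    refine ModuleCat.hom_ext (LinearMap.ext fun x => ?_)
    show ((mappingCone (toInf (CcF P l) g W)).d i k).hom ((phiMap P g l W i).hom x) =
      (phiMap P g l W k).hom (((Cc P (g :: l) W).d i k).hom x)
    refine cone_ext (toInf (CcF P l) g W) rfl ?_ ?_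
    · refine (cfst_d (toInf (CcF P l) g W) hik rfl _).trans ?_
      refine (congrArg (fun z => -((Cc P l W).d k (k + 1)).hom z) (cfst_phiMap P g l W hik x)).trans ?_
      refine (congrArg Neg.neg (Cc_d P rfl (PX P g l W hik x))).trans ?_
      refine Eq.trans ?_ (cfst_phiMap P g l W rfl _).symm
      refine Eq.trans ?_ (congrArg (PX P g l W rfl) (Cc_d P hik x)).symm
      rw [map_zsmul, PX_dX P g l W hik rfl, eps_cons, neg_smul]
    · refine (csnd_d (toInf (CcF P l) g W) hik _).trans ?_
      refine (congrArg₂ (fun a b : (Cc P l (W ⊓ g)).X k => a + b)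
        (congrArg ((toInf (CcF P l) g W).f k).hom (cfst_phiMap P g l W hik x))
        ((congrArg ((Cc P l (W ⊓ g)).d i k).hom (csnd_phiMap P g l W x)).trans
          (Cc_d P hik (eps (g :: l) • HX P g l inf_le_left inf_le_right i x)))).trans ?_
      refine Eq.trans ?_ (csnd_phiMap P g l W _).symm
      refine Eq.trans ?_
        (congrArg (fun z => eps (g :: l) • HX P g l inf_le_left inf_le_right k z) (Cc_d P hik x)).symm
      show cX P id (fun _ => le_rfl) inf_le_left (rfl : k + _ = k + _) (PX P g l W hik x) +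
        eps l • dX P l (W ⊓ g) hik (eps (g :: l) • HX P g l inf_le_left inf_le_right i x) =
        eps (g :: l) • HX P g l inf_le_left inf_le_right k (eps (g :: l) • dX P (g :: l) W hik x)
      rw [map_zsmul, map_zsmul, HX_dX P g l inf_le_left inf_le_right hik, smul_smul, smul_smul, eps_sq,
        one_smul, eps_cons, mul_neg, eps_sq, neg_smul, one_smul, sub_eq_add_neg]

theorem toInf_apply {W : Opens T} {k : ℤ} (x : Xc P l W k) :
    ((toInf (CcF P l) g W).f k).hom x = cX P id (fun _ => le_rfl) inf_le_left (rfl : k + _ = k + _) x :=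
  rfl

theorem hBij_phi (W : Opens T) : HBij (phi P g l W) := by
  have lc : (((g :: l).length : ℕ) : ℤ) = l.length + 1 := by simp
  let E : ∀ {i k : ℤ} (_ : i + 1 = k) (V : Opens T), Xc P l V k →ₗ[A] Xc P (g :: l) V i :=
    fun h V => opX P (rext P l g V) (by omega)
  let L : ∀ k : ℤ, Xc P (g :: l) (W ⊓ g) k →ₗ[A] Xc P (g :: l) W k :=
    fun k => opX P (rlift P l g W) rfl
  let R : ∀ k : ℤ, Xc P (g :: l) W k →ₗ[A] Xc P (g :: l) (W ⊓ g) k :=
    fun k => cX P id (id_le' l g) inf_le_left rfl
  let Hg : ∀ k : ℤ, Xc P (g :: l) (W ⊓ g) k →ₗ[A] Xc P l (W ⊓ g) k :=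
    fun k => HX P g l le_rfl inf_le_right k
  let H : ∀ k : ℤ, Xc P (g :: l) W k →ₗ[A] Xc P l (W ⊓ g) k :=
    fun k => HX P g l inf_le_left inf_le_right k
  have PE : ∀ {i k : ℤ} (h : i + 1 = k) (V : Opens T) (a : Xc P l V k), PX P g l V h (E h V a) = a :=
    fun h V a => funext fun m => rcomap_rext P l g _
  have HE : ∀ {i k : ℤ} (h : i + 1 = k) (a : Xc P l W k), H i (E h W a) = 0 :=
    fun h a => funext fun m => rpre_rext P l g inf_le_left inf_le_right _
  have HgE : ∀ {i k : ℤ} (h : i + 1 = k) (a : Xc P l (W ⊓ g) k), Hg i (E h (W ⊓ g) a) = 0 :=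
    fun h a => funext fun m => rpre_rext P l g le_rfl inf_le_right _
  have HR : ∀ k (z : Xc P (g :: l) W k), Hg k (R k z) = H k z := fun k z => by
    funext ⟨m, hm⟩ i
    exact rs_rs P _ _ _
  have PR : ∀ {i k : ℤ} (h : i + 1 = k) (z : Xc P (g :: l) W i),
      PX P g l (W ⊓ g) h (R i z) =
        cX P id (fun _ => le_rfl) inf_le_left (rfl : k + _ = k + _) (PX P g l W h z) := fun h z => by
    funext ⟨m, hm⟩ i
    exact (rs_rs P _ _ _).trans (rs_rs P _ _ _).symm
  have PL : ∀ {i k : ℤ} (h : i + 1 = k) (y : Xc P (g :: l) (W ⊓ g) i), PX P g l W h (L i y) = 0 :=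
    fun h y => funext fun m => rcomap_rlift P l g _
  have RL : ∀ {i k : ℤ} (h : i + 1 = k) (y : Xc P (g :: l) (W ⊓ g) i),
      PX P g l (W ⊓ g) h y = 0 → R i (L i y) = y := fun {i k} h y hy => by
    funext ⟨m, hm⟩
    exact rcomap_id_rlift P l g _ (congrFun hy ⟨m, by omega⟩)
  have joint : ∀ {i k : ℤ} (h : i + 1 = k) (z : Xc P (g :: l) W i),
      PX P g l W h z = 0 → R i z = 0 → z = 0 := fun {i k} h z h₁ h₂ => by
    funext ⟨m, hm⟩
    exact eq_zero_of_rcomap P l g _ (congrFun h₁ ⟨m, by omega⟩) (congrFun h₂ ⟨m, hm⟩)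
  have Pd : ∀ {i k n : ℤ} (h : i + 1 = k) (h' : k + 1 = n) (V : Opens T) (z : Xc P (g :: l) V i),
      PX P g l V h' (dX P (g :: l) V h z) = dX P l V h' (PX P g l V h z) := fun h h' V z =>
    cX_dX P _ _ _ _ _ h h' z
  have Rd : ∀ {i k : ℤ} (h : i + 1 = k) (z : Xc P (g :: l) W i),
      R k (dX P (g :: l) W h z) = dX P (g :: l) (W ⊓ g) h (R i z) := fun h z =>
    cX_dX P id _ _ _ _ h h z
  have Hgd : ∀ {i k : ℤ} (h : i + 1 = k) (z : Xc P (g :: l) (W ⊓ g) i),
      Hg k (dX P (g :: l) (W ⊓ g) h z) = PX P g l (W ⊓ g) h z - dX P l (W ⊓ g) h (Hg i z) :=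
    fun h z => pX_dX P _ _ _ _ _ _ _ _ h h z
  have Hd : ∀ {i k : ℤ} (h : i + 1 = k) (z : Xc P (g :: l) W i),
      H k (dX P (g :: l) W h z) =
        cX P id (fun _ => le_rfl) inf_le_left (rfl : k + _ = k + _) (PX P g l W h z) -
          dX P l (W ⊓ g) h (H i z) := fun {i k} h z => by
    refine ((HR k _).symm.trans (congrArg (Hg k) (Rd h z))).trans ?_
    rw [Hgd, PR, HR]
  constructor
  · intro i k n hik hkn (x : Xc P (g :: l) W k) hx w hw
    have hx : dX P (g :: l) W hkn x = 0 := by
      have h1 : eps (g :: l) • dX P (g :: l) W hkn x = 0 := (Cc_d P hkn x).symm.trans hx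
      simpa [smul_smul, eps_sq] using congrArg (eps (g :: l) • ·) h1
    let a : Xc P l W k := cfst (toInf (CcF P l) g W) i k hik w
    let b : Xc P l (W ⊓ g) i := csnd (toInf (CcF P l) g W) i w
    have h1 : PX P g l W hkn x = -(eps l • dX P l W hkn a) := by
      refine ((cfst_phiMap P g l W hkn x).symm.trans (congrArg _ hw)).trans ?_
      refine (cfst_d _ hik hkn w).trans ?_
      exact congrArg Neg.neg (Cc_d P hkn a)
    have h2 : eps (g :: l) • H k x =
        cX P id (fun _ => le_rfl) inf_le_left (rfl : k + _ = k + _) a + eps l • dX P l (W ⊓ g) hik b := by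
      refine ((csnd_phiMap P g l W x).symm.trans (congrArg _ hw)).trans ?_
      refine (csnd_d _ hik w).trans ?_
      exact congrArg₂ (· + ·) rfl (Cc_d P hik b)
    let a₀ : Xc P l W k := -(eps l • a)
    have hPx : PX P g l W hkn x = dX P l W hkn a₀ := by
      rw [h1, map_neg, map_zsmul]
    have hHx : H k x = cX P id (fun _ => le_rfl) inf_le_left (rfl : k + _ = k + _) a₀ -
        dX P l (W ⊓ g) hik b := by
      have := congrArg (eps (g :: l) • ·) h2
      simp only [smul_smul, eps_sq, one_smul, smul_add] at this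
      rw [this, map_neg, map_zsmul, eps_cons, neg_mul, eps_sq, neg_smul, neg_smul, one_smul,
        sub_eq_add_neg]
    let x' : Xc P (g :: l) W k := x - dX P (g :: l) W hik (E hik W a₀)
    have hx' : dX P (g :: l) W hkn x' = 0 := by simp only [x', map_sub, hx, dX_dX, sub_zero]
    have hPx' : PX P g l W hkn x' = 0 := by simp only [x', map_sub, Pd hik hkn, PE hik, hPx, sub_self]
    have hHx' : H k x' = -dX P l (W ⊓ g) hik b := by
      simp only [x', map_sub]
      rw [Hd hik, PE hik, HE hik, hHx, map_zero, sub_zero]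
      abel
    let y' : Xc P (g :: l) (W ⊓ g) i :=
      pX P id (id_le' l g) inf_le_left (z0 l g) inf_le_right (by omega) x'
    have hy' : dX P (g :: l) (W ⊓ g) hik y' = R k x' := by
      have h3 := pX_dX P id (id_le' l g) (inf_le_left : W ⊓ g ≤ W) (z0 l g) inf_le_right
        (by omega : i + ((g :: l).length : ℤ) + 1 = k + (g :: l).length) (by omega) rfl hkn hik x'
      rw [hx', map_zero] at h3
      exact (sub_eq_zero.mp h3.symm).symm
    have hPy' : PX P g l (W ⊓ g) hik y' = H k x' := by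
      funext ⟨m, hm⟩ j
      exact rs_rs P _ _ _
    obtain ⟨e, he⟩ : ∃ e, e + 1 = i := ⟨i - 1, by omega⟩
    let y₂ : Xc P (g :: l) (W ⊓ g) i := y' + dX P (g :: l) (W ⊓ g) he (E he (W ⊓ g) b)
    have hPy₂ : PX P g l (W ⊓ g) hik y₂ = 0 := by
      simp only [y₂, map_add, Pd he hik, PE he, hPy', hHx', neg_add_cancel]
    have hdy₂ : dX P (g :: l) (W ⊓ g) hik y₂ = R k x' := by
      simp only [y₂, map_add, dX_dX, hy', add_zero]
    have hk : dX P (g :: l) W hik (L i y₂) = x' := by
      refine sub_eq_zero.mp (joint hkn _ ?_ ?_)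
      · rw [map_sub, Pd hik hkn, PL, map_zero, hPx', sub_zero]
      · rw [map_sub, Rd, RL hik y₂ hPy₂, hdy₂, sub_self]
    refine ⟨eps (g :: l) • (E hik W a₀ + L i y₂), ?_⟩
    refine (Cc_d P hik _).trans ?_
    rw [map_zsmul, smul_smul, eps_sq, one_smul, map_add, hk]
    exact add_sub_cancel _ _
  · intro i k n hik hkn y hy
    obtain ⟨q, hq⟩ : ∃ q, n + 1 = q := ⟨_, rfl⟩
    let a : Xc P l W n := cfst (toInf (CcF P l) g W) k n hkn y
    let b : Xc P l (W ⊓ g) k := csnd (toInf (CcF P l) g W) k y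
    have ha : dX P l W hq a = 0 := by
      have h1 := ((cfst_d (toInf (CcF P l) g W) hkn hq y).symm.trans (congrArg _ hy)).trans (map_zero _)
      rw [neg_eq_zero] at h1
      have h2 : eps l • dX P l W hq a = 0 := (Cc_d P hq a).symm.trans h1
      simpa [smul_smul, eps_sq] using congrArg (eps l • ·) h2
    let b₀ : Xc P l (W ⊓ g) k := -(eps l • b)
    have hab : cX P id (fun _ => le_rfl) inf_le_left (rfl : n + _ = n + _) a =
        dX P l (W ⊓ g) hkn b₀ := by
      have h1 := ((csnd_d (toInf (CcF P l) g W) hkn y).symm.trans (congrArg _ hy)).trans (map_zero _)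
      rw [map_neg, map_zsmul]
      refine eq_neg_of_add_eq_zero_left (Eq.trans ?_ h1)
      exact congrArg₂ (· + ·) rfl (Cc_d P hkn b).symm
    let y₂ : Xc P (g :: l) (W ⊓ g) k :=
      dX P (g :: l) (W ⊓ g) hik (E hik (W ⊓ g) b₀) - R k (E hkn W a)
    have hPy₂ : PX P g l (W ⊓ g) hkn y₂ = 0 := by
      simp only [y₂, map_sub, Pd hik hkn, PR hkn, PE hik, PE hkn, hab, sub_self]
    let z : Xc P (g :: l) W k := E hkn W a + L k y₂
    have hPz : PX P g l W hkn z = a := by simp only [z, map_add, PE hkn, PL hkn, add_zero]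
    have hdz : dX P (g :: l) W hkn z = 0 := by
      refine joint hq _ ?_ ?_
      · rw [Pd hkn hq, hPz, ha]
      · rw [Rd, map_add, RL hkn y₂ hPy₂]
        simp only [y₂, add_sub_cancel, dX_dX]
    have hHz : H k z = b₀ := by
      have : H k z = Hg k y₂ := by
        simp only [z, map_add]
        rw [HE hkn, zero_add, ← HR, RL hkn y₂ hPy₂]
      rw [this]
      simp only [y₂, map_sub]
      rw [HR, HE hkn, Hgd hik, PE hik, HgE hik, map_zero, sub_zero, sub_zero]
    refine ⟨z, 0, ((Cc_d P hkn z).trans (by rw [hdz, smul_zero])), ?_⟩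
    rw [map_zero, add_zero]
    refine cone_ext _ hkn ?_ ?_
    · exact ((cfst_phiMap P g l W hkn z).trans hPz).symm
    · refine Eq.trans ?_ (csnd_phiMap P g l W z).symm
      show b = eps (g :: l) • H k z
      rw [hHz, eps_cons, neg_smul, smul_neg, neg_neg, smul_smul, eps_sq, one_smul]

/-- The comparison with the cone, natural in the base. -/
theorem phi_naturality {W V : (Opens T)ᵒᵖ} (h : W ⟶ V) :
    (CcF P (g :: l)).map h ≫ phi P g l V.unop =
      phi P g l W.unop ≫ (coneF (CcF P l) g).map h := by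
  ext k x
  refine cone_ext _ rfl ?_ ?_
  · refine (cfst_phiMap P g l V.unop rfl _).trans (Eq.trans ?_ (cfst_map _ _ _ _ (toInf_comm (CcF P l) g h) rfl _).symm)
    refine Eq.trans ?_ (congrArg _ (cfst_phiMap P g l W.unop rfl x).symm)
    funext ⟨m, hm⟩ i
    exact (rs_rs P _ _ _).trans (rs_rs P _ _ _).symm
  · refine (csnd_phiMap P g l V.unop _).trans (Eq.trans ?_ (csnd_map _ _ _ _ (toInf_comm (CcF P l) g h) _).symm)
    refine Eq.trans ?_ (congrArg _ (csnd_phiMap P g l W.unop x).symm)
    refine Eq.trans (congrArg (eps (g :: l) • ·) ?_) (map_zsmul _ _ _).symm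
    funext ⟨m, hm⟩ i
    exact (rs_rs P _ _ _).trans (rs_rs P _ _ _).symm

end Phi

end Groth.Agent.KoszulCech
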