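import Groth.Agent.LocCohLib.Cls
import Mathlib.Algebra.Homology.HomotopyCategory.Pretriangulated
import Mathlib.Algebra.Colimit.Module

/-!
# Mapping cones of complexes of modules, by elements
-/

set_option linter.style.haveILetI false
set_option backward.isDefEq.respectTransparency false

universe u

open CategoryTheory CochainComplex CochainComplex.HomComplex

noncomputable section

namespace Groth.Agent.KoszulCech

variable {A : Type u} [CommRing A]

section

variable {K L : CochainComplex (ModuleCat.{u} A) ℤ} (φ : K ⟶ L)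

/-- First coordinate in a cone. -/
def cfst (i j : ℤ) (h : i + 1 = j) : (mappingCone φ).X i →ₗ[A] K.X j :=
  ((mappingCone.fst φ).1.v i j h).hom

/-- Second coordinate in a cone. -/
def csnd (i : ℤ) : (mappingCone φ).X i →ₗ[A] L.X i :=
  ((mappingCone.snd φ).v i i (add_zero i)).hom

/-- An element of a cone with given coordinates. -/
def cmk (i j : ℤ) (h : i + 1 = j) (a : K.X j) (b : L.X i) : (mappingCone φ).X i :=
  ((mappingCone.inl φ).v j i (by omega)).hom a + ((mappingCone.inr φ).f i).hom b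

theorem cone_ext {i j : ℤ} (h : i + 1 = j) {x y : (mappingCone φ).X i}
    (h₁ : cfst φ i j h x = cfst φ i j h y) (h₂ : csnd φ i x = csnd φ i y) : x = y := by
  have key : ∀ z, z = cmk φ i j h (cfst φ i j h z) (csnd φ i z) := fun z =>
    (ConcreteCategory.congr_hom (mappingCone.id_X φ i j h) z).symm
  rw [key x, key y, h₁, h₂]

theorem cfst_cmk {i j : ℤ} (h : i + 1 = j) (a : K.X j) (b : L.X i) :
    cfst φ i j h (cmk φ i j h a b) = a := by
  have h1 := ConcreteCategory.congr_hom (mappingCone.inl_v_fst_v φ j i h) a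
  have h2 := ConcreteCategory.congr_hom (mappingCone.inr_f_fst_v φ i j h) b
  simp only [cfst, cmk, map_add]
  exact (congrArg₂ (· + ·) h1 h2).trans (add_zero a)

theorem csnd_cmk {i j : ℤ} (h : i + 1 = j) (a : K.X j) (b : L.X i) :
    csnd φ i (cmk φ i j h a b) = b := by
  have h1 := ConcreteCategory.congr_hom (mappingCone.inl_v_snd_v φ j i (by omega)) a
  have h2 := ConcreteCategory.congr_hom (mappingCone.inr_f_snd_v φ i) b
  simp only [csnd, cmk, map_add]
  exact (congrArg₂ (· + ·) h1 h2).trans (zero_add b)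

theorem cfst_d {i j k : ℤ} (hij : i + 1 = j) (hjk : j + 1 = k) (x : (mappingCone φ).X i) :
    cfst φ j k hjk ((mappingCone φ).d i j x) = -(K.d j k (cfst φ i j hij x)) := by
  have h := mappingCone.d_fst_v φ i j k hij hjk
  exact (ConcreteCategory.congr_hom h x).trans rfl

theorem csnd_d {i j : ℤ} (hij : i + 1 = j) (x : (mappingCone φ).X i) :
    csnd φ j ((mappingCone φ).d i j x) = φ.f j (cfst φ i j hij x) + L.d i j (csnd φ i x) :=
  ConcreteCategory.congr_hom (mappingCone.d_snd_v φ i j hij) x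

variable {K' L' : CochainComplex (ModuleCat.{u} A) ℤ} (φ' : K' ⟶ L') (p : K ⟶ K') (q : L ⟶ L')
  (comm : φ ≫ q = p ≫ φ')

theorem cfst_map {i j : ℤ} (h : i + 1 = j) (x : (mappingCone φ).X i) :
    cfst φ' i j h ((mappingCone.map φ φ' p q comm).f i x) = p.f j (cfst φ i j h x) := by
  refine ConcreteCategory.congr_hom (f := (mappingCone.map φ φ' p q comm).f i ≫ (mappingCone.fst φ').1.v i j h)
    (g := (mappingCone.fst φ).1.v i j h ≫ p.f j) ?_ x
  simp [mappingCone.ext_from_iff _ j i h, mappingCone.map]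

theorem csnd_map {i : ℤ} (x : (mappingCone φ).X i) :
    csnd φ' i ((mappingCone.map φ φ' p q comm).f i x) = q.f i (csnd φ i x) := by
  refine ConcreteCategory.congr_hom (f := (mappingCone.map φ φ' p q comm).f i ≫ (mappingCone.snd φ').v i i (add_zero i))
    (g := (mappingCone.snd φ).v i i (add_zero i) ≫ q.f i) ?_ x
  simp [mappingCone.ext_from_iff _ (i + 1) i rfl, mappingCone.map]

theorem cls_sub_boundary {i k : ℤ} (hik : i + 1 = k) (v : K.X i) : K.d k (k + 1) (K.d i k v) = 0 :=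
  ConcreteCategory.congr_hom (K.d_comp_d i k (k + 1)) v

/-- The map on cohomology is bijective, by elements. -/
structure HBij : Prop where
  inj : ∀ i k l, i + 1 = k → k + 1 = l → ∀ x : K.X k, K.d k l x = 0 →
    ∀ w : L.X i, φ.f k x = L.d i k w → ∃ v : K.X i, K.d i k v = x
  surj : ∀ i k l, i + 1 = k → k + 1 = l → ∀ y : L.X k, L.d k l y = 0 →
    ∃ (x : K.X k) (w : L.X i), K.d k l x = 0 ∧ y = φ.f k x + L.d i k w

theorem hBij_of_bijective (h : ∀ k, Function.Bijective (φ.f k)) : HBij φ where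
  inj i k l _ _ x _ w hw := by
    obtain ⟨v, rfl⟩ := (h i).2 w
    exact ⟨v, (h k).1 ((ConcreteCategory.congr_hom (φ.comm i k) v).symm.trans hw.symm)⟩
  surj i k l _ _ y hy := by
    obtain ⟨x, rfl⟩ := (h k).2 y
    refine ⟨x, 0, (h l).1 (((ConcreteCategory.congr_hom (φ.comm k l) x).symm.trans hy).trans
      (map_zero _).symm), ?_⟩
    rw [map_zero, add_zero]

theorem HBij.comp {M : CochainComplex (ModuleCat.{u} A) ℤ} {ψ : L ⟶ M} (h₁ : HBij φ) (h₂ : HBij ψ) :
    HBij (φ ≫ ψ) where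
  inj i k l hik hkl x hx w hw := by
    have hx' : L.d k l (φ.f k x) = 0 := by
      refine (ConcreteCategory.congr_hom (φ.comm k l) x).trans ?_
      show φ.f l (K.d k l x) = 0
      rw [hx, map_zero]
    obtain ⟨v, hv⟩ := h₂.inj i k l hik hkl _ hx' w hw
    exact h₁.inj i k l hik hkl x hx v hv.symm
  surj i k l hik hkl z hz := by
    obtain ⟨y, w, hy, rfl⟩ := h₂.surj i k l hik hkl z hz
    obtain ⟨x, v, hx, rfl⟩ := h₁.surj i k l hik hkl y hy
    refine ⟨x, w + ψ.f i v, hx, ?_⟩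
    rw [map_add, map_add]
    show _ = ψ.f k (φ.f k x) + _
    rw [show M.d i k (ψ.f i v) = ψ.f k (L.d i k v) from ConcreteCategory.congr_hom (ψ.comm i k) v]
    abel

variable {φ φ' p q}

/-- The five lemma. -/
theorem HBij.cone (hp : HBij p) (hq : HBij q) : HBij (mappingCone.map φ φ' p q comm) := by
  have hc : ∀ k (a : K.X k), q.f k (φ.f k a) = φ'.f k (p.f k a) := fun k a =>
    ConcreteCategory.congr_hom (HomologicalComplex.congr_hom comm k) a
  have dp : ∀ i k (a : K.X i), K'.d i k (p.f i a) = p.f k (K.d i k a) := fun i k a =>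
    ConcreteCategory.congr_hom (p.comm i k) a
  have dq : ∀ i k (a : L.X i), L'.d i k (q.f i a) = q.f k (L.d i k a) := fun i k a =>
    ConcreteCategory.congr_hom (q.comm i k) a
  have dφ : ∀ i k (a : K.X i), L.d i k (φ.f i a) = φ.f k (K.d i k a) := fun i k a =>
    ConcreteCategory.congr_hom (φ.comm i k) a
  have dφ' : ∀ i k (a : K'.X i), L'.d i k (φ'.f i a) = φ'.f k (K'.d i k a) := fun i k a =>
    ConcreteCategory.congr_hom (φ'.comm i k) a
  constructor
  · intro i k l hik hkl x hx w hw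
    obtain ⟨m, hm⟩ : ∃ m, l + 1 = m := ⟨_, rfl⟩
    have hx₁ : K.d l m (cfst φ k l hkl x) = 0 := by
      simpa [hx] using (cfst_d φ hkl hm x).symm
    have hx₂ : φ.f l (cfst φ k l hkl x) + L.d k l (csnd φ k x) = 0 := by
      rw [← csnd_d φ hkl, hx, map_zero]
    have hw₁ : p.f l (cfst φ k l hkl x) = -(K'.d k l (cfst φ' i k hik w)) := by
      rw [← cfst_map φ φ' p q comm, hw, cfst_d φ' hik hkl]
    have hw₂ : q.f k (csnd φ k x) = φ'.f k (cfst φ' i k hik w) + L'.d i k (csnd φ' i w) := by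
      rw [← csnd_map φ φ' p q comm, hw, csnd_d φ' hik]
    obtain ⟨a₁, ha₁⟩ := hp.inj k l m hkl hm _ hx₁ (-(cfst φ' i k hik w)) (by rw [hw₁, map_neg])
    have hb : L.d k l (csnd φ k x + φ.f k a₁) = 0 := by
      rw [map_add, dφ, ha₁, add_comm]
      exact hx₂
    have he : K'.d k l (cfst φ' i k hik w + p.f k a₁) = 0 := by
      rw [map_add, dp, ha₁, hw₁, add_neg_cancel]
    obtain ⟨a₂, e, ha₂, he'⟩ := hp.surj i k l hik hkl _ he
    obtain ⟨b₂, hb₂⟩ := hq.inj i k l hik hkl (csnd φ k x + φ.f k a₁ - φ.f k a₂)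
      (by rw [map_sub, hb, dφ, ha₂, map_zero, sub_zero]) (csnd φ' i w + φ'.f i e) (by
        have h2 := congrArg (φ'.f k) he'
        simp only [map_add] at h2
        rw [map_sub, map_add, hw₂, hc, hc, map_add, dφ']
        rw [add_right_comm, h2]
        abel)
    refine ⟨cmk φ i k hik (a₂ - a₁) b₂, cone_ext φ hkl ?_ ?_⟩
    · rw [cfst_d φ hik hkl, cfst_cmk, map_sub, ha₂, ha₁, zero_sub, neg_neg]
    · rw [csnd_d φ hik, cfst_cmk, csnd_cmk, hb₂, map_sub]
      abel
  · intro i k l hik hkl y hy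
    obtain ⟨m, hm⟩ : ∃ m, l + 1 = m := ⟨_, rfl⟩
    have hy₁ : K'.d l m (cfst φ' k l hkl y) = 0 := by
      simpa [hy] using (cfst_d φ' hkl hm y).symm
    have hy₂ : φ'.f l (cfst φ' k l hkl y) + L'.d k l (csnd φ' k y) = 0 := by
      rw [← csnd_d φ' hkl, hy, map_zero]
    obtain ⟨a, e, ha, hae⟩ := hp.surj k l m hkl hm _ hy₁
    rw [hae, map_add, ← hc, ← dφ', add_assoc, ← map_add] at hy₂
    obtain ⟨b, hb⟩ := hq.inj k l m hkl hm (φ.f l a) (by rw [dφ, ha, map_zero])
      (-(φ'.f k e + csnd φ' k y)) (by rw [map_neg]; exact eq_neg_of_add_eq_zero_left hy₂)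
    have hb' : L'.d k l (csnd φ' k y + φ'.f k e + q.f k b) = 0 := by
      rw [map_add, dq, hb, add_comm (csnd φ' k y), add_comm]
      exact hy₂
    obtain ⟨b₁, e₂, hb₁, he₂⟩ := hq.surj i k l hik hkl _ hb'
    refine ⟨cmk φ k l hkl a (b₁ - b), cmk φ' i k hik (-e) e₂, cone_ext φ hm ?_ ?_, cone_ext φ' hkl ?_ ?_⟩
    · rw [cfst_d φ hkl hm, cfst_cmk, ha, neg_zero, map_zero]
    · rw [csnd_d φ hkl, cfst_cmk, csnd_cmk, map_sub, hb₁, hb, zero_sub, add_neg_cancel, map_zero]
    · rw [map_add, cfst_map, cfst_d φ' hik hkl, cfst_cmk, cfst_cmk, map_neg, neg_neg, hae]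
    · rw [map_add, csnd_map, csnd_d φ' hik, csnd_cmk, cfst_cmk, csnd_cmk, map_sub, map_neg]
      have h3 := eq_sub_of_add_eq he₂.symm
      rw [eq_sub_of_add_eq he₂.symm]
      abel

end

section

variable {K L : CochainComplex (ModuleCat.{u} A) ℤ}

open Groth.Agent.LocCohLib

theorem zmod_d {k l : ℤ} (h : k + 1 = l) (x : Zmod K k) : K.d k l (x : K.X k) = 0 := by
  subst h
  obtain ⟨x, hx⟩ := x
  rw [LinearMap.mem_ker] at hx
  rw [CochainComplex.next] at hx
  exact hx

theorem mem_zmod {k : ℤ} {x : K.X k} (h : K.d k (k + 1) x = 0) : x ∈ Zmod K k := by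
  rw [LinearMap.mem_ker, CochainComplex.next]
  exact h

theorem cls_eq_zero {i k : ℤ} (h : i + 1 = k) (x : Zmod K k) :
    cls K k x = 0 ↔ ∃ w : K.X i, K.d i k w = (x : K.X k) :=
  cls_eq_zero_iff' K (by rw [CochainComplex.prev]; omega) x

theorem HBij.bijective_homologyMap {φ : K ⟶ L} (hφ : HBij φ) (k : ℤ) :
    Function.Bijective (HomologicalComplex.homologyMap φ k).hom := by
  refine ⟨(injective_iff_map_eq_zero _).mpr fun z hz => ?_, fun z => ?_⟩
  · obtain ⟨x, rfl⟩ := cls_surjective K k z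
    rw [homologyMap_cls, cls_eq_zero (i := k - 1) (by omega)] at hz
    obtain ⟨w, hw⟩ := hz
    exact (cls_eq_zero (by omega) x).mpr
      (hφ.inj (k - 1) k (k + 1) (by omega) rfl x.1 (zmod_d rfl x) w hw.symm)
  · obtain ⟨y, rfl⟩ := cls_surjective L k z
    obtain ⟨x, w, hx, hy⟩ := hφ.surj (k - 1) k (k + 1) (by omega) rfl y.1 (zmod_d rfl y)
    refine ⟨cls K k ⟨x, mem_zmod hx⟩, ?_⟩
    rw [homologyMap_cls]
    refine sub_eq_zero.mp ((map_sub _ _ _).symm.trans ((cls_eq_zero (i := k - 1) (by omega) _).mpr ⟨-w, ?_⟩))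
    show L.d (k - 1) k (-w) = φ.f k x - y.1
    rw [map_neg, hy]
    abel

end

section

variable {K : ℕ → CochainComplex (ModuleCat.{u} A) ℤ} {L : CochainComplex (ModuleCat.{u} A) ℤ}
  (t : ∀ n m, n ≤ m → (K n ⟶ K m)) (φ : ∀ n, K n ⟶ L)

/-- Degreewise colimit, by elements. -/
structure IsColim : Prop where
  compat : ∀ n m (h : n ≤ m) k (x : (K n).X k), (φ m).f k ((t n m h).f k x) = (φ n).f k x
  surj : ∀ k (y : L.X k), ∃ (n₀ : ℕ), ∀ n, n₀ ≤ n → ∃ x : (K n).X k, (φ n).f k x = y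
  inj : ∀ n k (x : (K n).X k), (φ n).f k x = 0 →
    ∃ m₀ : ℕ, ∀ m (h : n ≤ m), m₀ ≤ m → (t n m h).f k x = 0

open Groth.Agent.LocCohLib

theorem nonempty_directLimit_homology_equiv (hc : IsColim t φ) (k : ℤ) :
    Nonempty (Module.DirectLimit (fun n : ℕ => ((K n).homology k : Type u))
      (fun n m h => (HomologicalComplex.homologyMap (t n m h) k).hom) ≃ₗ[A] L.homology k) := by
  let g : ∀ n, (K n).homology k →ₗ[A] L.homology k := fun n =>
    (HomologicalComplex.homologyMap (φ n) k).hom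
  have hg : ∀ n m (h : n ≤ m) z, g m ((HomologicalComplex.homologyMap (t n m h) k).hom z) = g n z := by
    intro n m h z
    obtain ⟨x, rfl⟩ := cls_surjective (K n) k z
    simp only [g]
    rw [homologyMap_cls, homologyMap_cls, homologyMap_cls]
    exact congrArg _ (Subtype.ext (hc.compat n m h k x.1))
  refine ⟨LinearEquiv.ofBijective (Module.DirectLimit.lift A ℕ _ _ g hg) ⟨?_, fun z => ?_⟩⟩
  · refine (injective_iff_map_eq_zero _).mpr fun z hz => ?_
    obtain ⟨n, z, rfl⟩ := Module.DirectLimit.exists_of z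
    rw [Module.DirectLimit.lift_of] at hz
    obtain ⟨x, rfl⟩ := cls_surjective (K n) k z
    simp only [g] at hz
    rw [homologyMap_cls, cls_eq_zero (i := k - 1) (by omega)] at hz
    obtain ⟨w, hw⟩ := hz
    obtain ⟨n₀, hn₀⟩ := hc.surj (k - 1) w
    obtain ⟨v, hv⟩ := hn₀ (max n n₀) (le_max_right _ _)
    let x' : Zmod (K (max n n₀)) k := mapZ k (t n (max n n₀) (le_max_left _ _)) x
    have h0 : (φ (max n n₀)).f k (x'.1 - (K (max n n₀)).d (k - 1) k v) = 0 := by
      rw [map_sub, sub_eq_zero]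
      refine ((hc.compat n _ (le_max_left _ _) k x.1).trans hw.symm).trans ?_
      rw [← hv]
      exact ConcreteCategory.congr_hom ((φ (max n n₀)).comm (k - 1) k) v
    obtain ⟨m₀, hm₀⟩ := hc.inj _ k _ h0
    let l := max (max n n₀) m₀
    have hl : (t (max n n₀) l (le_max_left _ _)).f k x'.1 =
        (K l).d (k - 1) k ((t (max n n₀) l (le_max_left _ _)).f (k - 1) v) := by
      have h1 := hm₀ l (le_max_left _ _) (le_max_right _ _)
      rw [map_sub, sub_eq_zero] at h1
      exact h1.trans (ConcreteCategory.congr_hom ((t (max n n₀) l (le_max_left _ _)).comm (k - 1) k) v).symm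
    rw [← Module.DirectLimit.of_f (hij := le_max_left n n₀), homologyMap_cls,
      ← Module.DirectLimit.of_f (hij := le_max_left (max n n₀) m₀), homologyMap_cls,
      (cls_eq_zero (i := k - 1) (by omega) _).mpr ⟨_, hl.symm⟩, map_zero]
  · obtain ⟨y, rfl⟩ := cls_surjective L k z
    obtain ⟨n₀, hn₀⟩ := hc.surj k y.1
    obtain ⟨x, hx⟩ := hn₀ n₀ le_rfl
    have hd : (φ n₀).f (k + 1) ((K n₀).d k (k + 1) x) = 0 := by
      refine (ConcreteCategory.congr_hom ((φ n₀).comm k (k + 1)) x).symm.trans ?_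
      show L.d k (k + 1) ((φ n₀).f k x) = 0
      rw [hx]
      exact zmod_d rfl y
    obtain ⟨m₀, hm₀⟩ := hc.inj _ _ _ hd
    have hz : (K (max n₀ m₀)).d k (k + 1) ((t n₀ (max n₀ m₀) (le_max_left _ _)).f k x) = 0 := by
      refine (ConcreteCategory.congr_hom ((t n₀ _ (le_max_left _ _)).comm k (k + 1)) x).trans ?_
      exact hm₀ _ (le_max_left _ _) (le_max_right _ _)
    refine ⟨Module.DirectLimit.of A ℕ _ _ (max n₀ m₀) (cls _ k ⟨_, mem_zmod hz⟩), ?_⟩
    rw [Module.DirectLimit.lift_of]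
    simp only [g]
    rw [homologyMap_cls]
    exact congrArg _ (Subtype.ext ((hc.compat _ _ _ k x).trans hx))

end

end Groth.Agent.KoszulCech
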