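import Groth.Agent.KoszulCech.Cone
import Groth.Agent.LocCohLib.Torsion
import Groth.Agent.LocCohLib.Cd
import Groth.Prelude.Def_DerCA

/-!
# The stable Koszul complex of a module: iterated cones of the localisation maps
-/

set_option linter.style.haveILetI false
set_option backward.isDefEq.respectTransparency false

universe u

open CategoryTheory CochainComplex DerCA

noncomputable section

namespace Groth.Agent.KoszulCech

open Groth.Agent.LocCohLib

variable {A : Type u} [CommRing A]

/-- The termwise localisation map is natural. -/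
theorem locCxUnit_naturality (T : Submonoid A) {K L : DRing.Cx A} (φ : K ⟶ L) :
    locCxUnit T K ≫ (locCx T).map φ = φ ≫ locCxUnit T L := by
  ext i : 1
  exact ((locUnit T).naturality (φ.f i)).symm

/-- Cone of the termwise localisation at the powers of `f`. -/
def coneLocF (f : A) : DRing.Cx A ⥤ DRing.Cx A where
  obj K := mappingCone (locCxUnit (Submonoid.powers f) K)
  map {K L} φ := mappingCone.map _ _ φ ((locCx (Submonoid.powers f)).map φ) (locCxUnit_naturality _ φ)
  map_id K := by
    refine Eq.trans ?_ (mappingCone.map_id _)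
    congr 1
    exact (locCx _).map_id _
  map_comp {K L P} φ ψ := by
    refine Eq.trans ?_ (mappingCone.map_comp (φ₁ := locCxUnit (Submonoid.powers f) K)
      (φ₂ := locCxUnit (Submonoid.powers f) L) (φ₃ := locCxUnit (Submonoid.powers f) P) _ _
      (locCxUnit_naturality _ φ) _ _ (locCxUnit_naturality _ ψ))
    congr 1
    exact (locCx _).map_comp _ _

/-- The stable Koszul complex, functorial in the module. -/
def stF : List A → (ModuleCat.{u} A ⥤ DRing.Cx A)
  | [] => HomologicalComplex.single (ModuleCat.{u} A) (ComplexShape.up ℤ) 0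
  | f :: fs => stF fs ⋙ coneLocF f

/-- The stable Koszul complex of a module. -/
abbrev St (M : ModuleCat.{u} A) (fs : List A) : DRing.Cx A := (stF fs).obj M

/-- The localisation map of the degree-`k` term. -/
abbrev uF (f : A) (K : DRing.Cx A) (k : ℤ) :
    K.X k →ₗ[A] ((locCx (Submonoid.powers f)).obj K).X k :=
  ((locCxUnit (Submonoid.powers f) K).f k).hom

theorem isLocalizedModule_uF (f : A) (K : DRing.Cx A) (k : ℤ) :
    IsLocalizedModule (Submonoid.powers f) (uF f K k) :=
  inferInstanceAs (IsLocalizedModule _ (LocalizedModule.mkLinearMap (Submonoid.powers f) (K.X k)))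

theorem uF_eq_zero_iff {f : A} {K : DRing.Cx A} {k : ℤ} {x : K.X k} :
    uF f K k x = 0 ↔ ∃ n : ℕ, f ^ n • x = 0 := by
  haveI := isLocalizedModule_uF f K k
  rw [IsLocalizedModule.eq_zero_iff (Submonoid.powers f) (uF f K k)]
  constructor
  · rintro ⟨⟨_, n, rfl⟩, h⟩
    exact ⟨n, h⟩
  · rintro ⟨n, h⟩
    exact ⟨⟨_, n, rfl⟩, h⟩

theorem exists_pow_smul_eq_uF {f : A} {K : DRing.Cx A} {k : ℤ}
    (y : ((locCx (Submonoid.powers f)).obj K).X k) : ∃ (n : ℕ) (x : K.X k), f ^ n • y = uF f K k x := by
  haveI := isLocalizedModule_uF f K k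
  obtain ⟨⟨x, ⟨_, n, rfl⟩⟩, h⟩ := IsLocalizedModule.surj (Submonoid.powers f) (uF f K k) y
  exact ⟨n, x, h⟩

theorem smul_pow_injective {f : A} {K : DRing.Cx A} {k : ℤ} (n : ℕ) :
    Function.Injective fun y : ((locCx (Submonoid.powers f)).obj K).X k => f ^ n • y := by
  haveI := isLocalizedModule_uF f K k
  exact IsLocalizedModule.smul_injective (uF f K k) (⟨_, n, rfl⟩ : Submonoid.powers f)

theorem smul_pow_surjective {f : A} {K : DRing.Cx A} {k : ℤ} (n : ℕ) :
    Function.Surjective fun y : ((locCx (Submonoid.powers f)).obj K).X k => f ^ n • y := by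
  haveI := isLocalizedModule_uF f K k
  exact ((Module.End.isUnit_iff _).1
    (IsLocalizedModule.map_units (uF f K k) (⟨_, n, rfl⟩ : Submonoid.powers f))).2

theorem uF_d {f : A} {K : DRing.Cx A} (i j : ℤ) (x : K.X i) :
    uF f K j (K.d i j x) = ((locCx (Submonoid.powers f)).obj K).d i j (uF f K i x) :=
  (ConcreteCategory.congr_hom ((locCxUnit (Submonoid.powers f) K).comm i j) x).symm

theorem locCx_map_uF {f : A} {K L : DRing.Cx A} (φ : K ⟶ L) (k : ℤ) (x : K.X k) :
    ((locCx (Submonoid.powers f)).map φ).f k (uF f K k x) = uF f L k (φ.f k x) :=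
  ConcreteCategory.congr_hom
    (HomologicalComplex.congr_hom (locCxUnit_naturality (Submonoid.powers f) φ) k) x

theorem subsingleton_loc {f : A} {K : DRing.Cx A} {k : ℤ} (h : Subsingleton (K.X k)) :
    Subsingleton (((locCx (Submonoid.powers f)).obj K).X k) :=
  ⟨fun a b => by
    obtain ⟨n, x, hx⟩ := exists_pow_smul_eq_uF (a - b)
    rw [Subsingleton.elim x 0, map_zero] at hx
    exact sub_eq_zero.1 (smul_pow_injective n (hx.trans (smul_zero _).symm))⟩

theorem subsingleton_St (M : ModuleCat.{u} A) : ∀ (fs : List A) (k : ℤ),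
    (0 < k ∨ k < -(fs.length : ℤ)) → Subsingleton ((St M fs).X k)
  | [], k, hk => ModuleCat.subsingleton_of_isZero
      (HomologicalComplex.isZero_single_obj_X _ _ _ _ (by simp at hk; omega))
  | f :: fs, k, hk => ⟨fun x y => by
      haveI := subsingleton_St M fs (k + 1) (by simp at hk; omega)
      haveI := subsingleton_loc (f := f) (subsingleton_St M fs k (by simp at hk; omega))
      exact cone_ext (locCxUnit (Submonoid.powers f) (St M fs)) rfl (Subsingleton.elim _ _)
        (Subsingleton.elim _ _)⟩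

/-! ## The bottom degree -/

/-- Projection of the bottom degree to the module. -/
def bot : ∀ (fs : List A) (M : ModuleCat.{u} A) (k : ℤ), k = -(fs.length : ℤ) →
    ((St M fs).X k →ₗ[A] M)
  | [], M, k, hk => (HomologicalComplex.singleObjXIsoOfEq (ComplexShape.up ℤ) 0 M k (by simpa using hk)).hom.hom
  | f :: fs, M, k, hk =>
    bot fs M (k + 1) (by simp at hk; omega) ∘ₗ cfst (locCxUnit (Submonoid.powers f) (St M fs)) k (k + 1) rfl

theorem bot_injective : ∀ (fs : List A) (M : ModuleCat.{u} A) (k : ℤ) (hk : k = -(fs.length : ℤ)),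
    Function.Injective (bot fs M k hk)
  | [], M, k, hk => (HomologicalComplex.singleObjXIsoOfEq (ComplexShape.up ℤ) 0 M k
      (by simpa using hk)).toLinearEquiv.injective
  | f :: fs, M, k, hk => fun x y hxy => by
    haveI := subsingleton_loc (f := f) (subsingleton_St M fs k (by simp at hk; omega))
    exact cone_ext (locCxUnit (Submonoid.powers f) (St M fs)) rfl
      (bot_injective fs M (k + 1) (by simp at hk; omega) hxy) (Subsingleton.elim _ _)

theorem bot_surjective : ∀ (fs : List A) (M : ModuleCat.{u} A) (k : ℤ) (hk : k = -(fs.length : ℤ)),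
    Function.Surjective (bot fs M k hk)
  | [], M, k, hk => (HomologicalComplex.singleObjXIsoOfEq (ComplexShape.up ℤ) 0 M k
      (by simpa using hk)).toLinearEquiv.surjective
  | f :: fs, M, k, hk => fun m => by
    obtain ⟨a, ha⟩ := bot_surjective fs M (k + 1) (by simp at hk; omega) m
    exact ⟨cmk _ k (k + 1) rfl a 0, (congrArg (bot fs M (k + 1) _) (cfst_cmk _ rfl a 0)).trans ha⟩

theorem bot_natural : ∀ (fs : List A) {M N : ModuleCat.{u} A} (g : M ⟶ N) (k : ℤ)
    (hk : k = -(fs.length : ℤ)) (x : (St M fs).X k),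
    bot fs N k hk (((stF fs).map g).f k x) = g (bot fs M k hk x)
  | [], M, N, g, k, hk, x => by
    obtain rfl : k = 0 := by simpa using hk
    have h : ((HomologicalComplex.single (ModuleCat.{u} A) (ComplexShape.up ℤ) 0).map g).f 0 ≫
        (HomologicalComplex.singleObjXSelf (ComplexShape.up ℤ) 0 N).hom =
        (HomologicalComplex.singleObjXSelf (ComplexShape.up ℤ) 0 M).hom ≫ g := by
      rw [HomologicalComplex.single_map_f_self (c := ComplexShape.up ℤ) 0 g]; simp
    exact ConcreteCategory.congr_hom h x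
  | f :: fs, M, N, g, k, hk, x => by
    show bot fs N (k + 1) _ (cfst (locCxUnit (Submonoid.powers f) (St N fs)) k (k + 1) rfl
      (((coneLocF f).map ((stF fs).map g)).f k x)) = _
    rw [show cfst (locCxUnit (Submonoid.powers f) (St N fs)) k (k + 1) rfl
      (((coneLocF f).map ((stF fs).map g)).f k x) = _ from
      cfst_map _ _ _ _ (locCxUnit_naturality (Submonoid.powers f) ((stF fs).map g)) rfl x]
    exact bot_natural fs g (k + 1) _ _

/-- The cycles of the bottom degree. -/
theorem d_eq_zero_iff : ∀ (fs : List A) (M : ModuleCat.{u} A) (k l : ℤ) (hk : k = -(fs.length : ℤ)),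
    k + 1 = l → ∀ x : (St M fs).X k,
    ((St M fs).d k l x = 0 ↔ ∀ f ∈ fs, ∃ n : ℕ, f ^ n • bot fs M k hk x = 0)
  | [], M, k, l, hk, hl, x => by
    haveI := subsingleton_St M [] l (Or.inl (by simp at hk; omega))
    exact ⟨fun _ f hf => by simp at hf, fun _ => Subsingleton.elim _ _⟩
  | f :: fs, M, k, l, hk, hl, x => by
    obtain rfl : l = k + 1 := hl.symm
    let φ := locCxUnit (Submonoid.powers f) (St M fs)
    haveI := subsingleton_loc (f := f) (subsingleton_St M fs k (by simp at hk; omega))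
    have hk' : k + 1 = -(fs.length : ℤ) := by simp at hk; omega
    have h1 := cfst_d φ rfl (rfl : k + 1 + 1 = k + 1 + 1) x
    have h2 : csnd φ (k + 1) ((mappingCone φ).d k (k + 1) x) =
        uF f (St M fs) (k + 1) (cfst φ k (k + 1) rfl x) := by
      rw [csnd_d φ rfl, Subsingleton.elim (csnd φ k x) 0, map_zero, add_zero]
    have ih := d_eq_zero_iff fs M (k + 1) (k + 1 + 1) hk' rfl (cfst φ k (k + 1) rfl x)
    rw [List.forall_mem_cons]
    show (mappingCone φ).d k (k + 1) x = 0 ↔ _
    constructor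
    · intro hx
      rw [hx, map_zero] at h1 h2
      obtain ⟨n, hn⟩ := uF_eq_zero_iff.1 h2.symm
      refine ⟨⟨n, ?_⟩, ih.1 (neg_eq_zero.1 h1.symm)⟩
      show f ^ n • bot fs M (k + 1) hk' (cfst φ k (k + 1) rfl x) = 0
      rw [← map_smul, hn, map_zero]
    · rintro ⟨⟨n, hn⟩, hx⟩
      refine cone_ext φ rfl (h1.trans ?_) (h2.trans ?_)
      · rw [ih.2 hx, neg_zero, map_zero]
      · rw [map_zero]
        refine uF_eq_zero_iff.2 ⟨n, bot_injective fs M (k + 1) hk' ?_⟩
        rw [map_zero, map_smul]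
        exact hn

theorem mem_torsionSub_span_iff {fs : List A} {M : Type u} [AddCommGroup M] [Module A M] {m : M} :
    m ∈ DRing.torsionSub (Ideal.span {a | a ∈ fs}) M ↔ ∀ f ∈ fs, ∃ n : ℕ, f ^ n • m = 0 := by
  constructor
  · rintro ⟨n, hn⟩ f hf
    exact ⟨n, hn _ (Ideal.pow_mem_pow (Ideal.subset_span (show f ∈ {a | a ∈ fs} from hf)) n)⟩
  · intro h
    induction fs with
    | nil =>
      refine ⟨1, fun a ha => ?_⟩
      simp at ha
      rw [ha, zero_smul]
    | cons f fs ih =>
      rw [List.forall_mem_cons] at h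
      obtain ⟨⟨n, hn⟩, h⟩ := h
      have he : ({a | a ∈ f :: fs} : Set A) = {f} ∪ {a | a ∈ fs} := by ext; simp
      rw [he, Ideal.span_union]
      exact mem_torsionSub_sup (mem_torsionSub_span_singleton hn) (ih h)

theorem mem_torsionSub_iff_d {fs : List A} {M : ModuleCat.{u} A} {k l : ℤ} (hk : k = -(fs.length : ℤ))
    (hl : k + 1 = l) (x : (St M fs).X k) :
    bot fs M k hk x ∈ DRing.torsionSub (Ideal.span {a | a ∈ fs}) M ↔ (St M fs).d k l x = 0 := by
  rw [mem_torsionSub_span_iff, d_eq_zero_iff fs M k l hk hl x]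

/-- The bottom cohomology is the torsion. -/
def botEquiv (fs : List A) (M : ModuleCat.{u} A) (k : ℤ) (hk : k = -(fs.length : ℤ)) :
    (St M fs).homology k ≃ₗ[A] DRing.torsionSub (Ideal.span {a | a ∈ fs}) M :=
  haveI := subsingleton_St M fs (k - 1) (Or.inr (by omega))
  (LinearEquiv.ofBijective (cls (St M fs) k) ⟨(injective_iff_map_eq_zero _).2 fun x hx => by
      obtain ⟨w, hw⟩ := (cls_eq_zero (i := k - 1) (by omega) x).1 hx
      refine Subtype.ext ?_
      rw [← hw, Subsingleton.elim w 0, map_zero]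
      rfl, cls_surjective _ _⟩).symm.trans
    (LinearEquiv.ofBijective (((bot fs M k hk) ∘ₗ (Zmod (St M fs) k).subtype).codRestrict _
      fun x => (mem_torsionSub_iff_d hk rfl x.1).2 (zmod_d rfl x))
      ⟨fun x y h => Subtype.ext (bot_injective fs M k hk (congrArg Subtype.val h)), fun m => by
        obtain ⟨x, hx⟩ := bot_surjective fs M k hk m.1
        exact ⟨⟨x, mem_zmod ((mem_torsionSub_iff_d hk rfl x).1 (hx ▸ m.2))⟩, Subtype.ext hx⟩⟩)

theorem botEquiv_cls (fs : List A) (M : ModuleCat.{u} A) (k : ℤ) (hk : k = -(fs.length : ℤ))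
    (x : Zmod (St M fs) k) : (botEquiv fs M k hk (cls _ k x) : M) = bot fs M k hk x.1 := by
  simp only [botEquiv, LinearEquiv.trans_apply]
  rw [LinearEquiv.ofBijective_symm_apply_apply]
  rfl

theorem botEquiv_natural (fs : List A) {M N : ModuleCat.{u} A} (g : M ⟶ N) (k : ℤ)
    (hk : k = -(fs.length : ℤ)) (z : (St M fs).homology k) :
    (botEquiv fs N k hk ((HomologicalComplex.homologyMap ((stF fs).map g) k).hom z) : N) =
      g (botEquiv fs M k hk z : M) := by
  obtain ⟨x, rfl⟩ := cls_surjective _ k z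
  rw [homologyMap_cls, botEquiv_cls, botEquiv_cls]
  exact bot_natural fs g k hk x.1

/-! ## Exactness -/

/-- Degreewise short exactness, by elements. -/
structure DSE {K L P : DRing.Cx A} (φ : K ⟶ L) (ψ : L ⟶ P) : Prop where
  inj : ∀ k, Function.Injective (φ.f k)
  exact : ∀ k, Function.Exact (φ.f k) (ψ.f k)
  surj : ∀ k, Function.Surjective (ψ.f k)

theorem DSE.cone {K L P : DRing.Cx A} {φ : K ⟶ L} {ψ : L ⟶ P} (h : DSE φ ψ) (f : A) :
    DSE ((coneLocF f).map φ) ((coneLocF f).map ψ) := by
  let T := Submonoid.powers f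
  have e1 : ∀ k, Function.Injective (((locCx T).map φ).f k) := fun k =>
    IsLocalizedModule.map_injective T (LocalizedModule.mkLinearMap T _) (LocalizedModule.mkLinearMap T _)
      (φ.f k).hom (h.inj k)
  have e2 : ∀ k, Function.Exact (((locCx T).map φ).f k) (((locCx T).map ψ).f k) := fun k =>
    IsLocalizedModule.map_exact T (LocalizedModule.mkLinearMap T _) (LocalizedModule.mkLinearMap T _)
      (LocalizedModule.mkLinearMap T _) (φ.f k).hom (ψ.f k).hom (h.exact k)
  have e3 : ∀ k, Function.Surjective (((locCx T).map ψ).f k) := fun k =>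
    IsLocalizedModule.map_surjective T (LocalizedModule.mkLinearMap T _) (LocalizedModule.mkLinearMap T _)
      (ψ.f k).hom (h.surj k)
  have cf : ∀ {K L : DRing.Cx A} (φ : K ⟶ L) (k : ℤ) (x : ((coneLocF f).obj K).X k),
      cfst (locCxUnit T L) k (k + 1) rfl (((coneLocF f).map φ).f k x) =
        φ.f (k + 1) (cfst (locCxUnit T K) k (k + 1) rfl x) :=
    fun φ k x => cfst_map _ _ _ _ (locCxUnit_naturality T φ) rfl x
  have cs : ∀ {K L : DRing.Cx A} (φ : K ⟶ L) (k : ℤ) (x : ((coneLocF f).obj K).X k),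
      csnd (locCxUnit T L) k (((coneLocF f).map φ).f k x) =
        ((locCx T).map φ).f k (csnd (locCxUnit T K) k x) :=
    fun φ k x => csnd_map _ _ _ _ (locCxUnit_naturality T φ) x
  refine ⟨fun k x y hxy => ?_, fun k y => ⟨fun hy => ?_, ?_⟩, fun k z => ?_⟩
  · refine cone_ext (locCxUnit T K) rfl (h.inj (k + 1) ?_) (e1 k ?_)
    · rw [← cf, ← cf, hxy]
    · rw [← cs, ← cs, hxy]
  · obtain ⟨a, ha⟩ := (h.exact (k + 1) _).1 ((cf ψ k y).symm.trans
      ((congrArg _ hy).trans (map_zero _)))
    obtain ⟨b, hb⟩ := (e2 k _).1 ((cs ψ k y).symm.trans ((congrArg _ hy).trans (map_zero _)))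
    refine ⟨cmk (locCxUnit T K) k (k + 1) rfl a b, cone_ext (locCxUnit T L) rfl ?_ ?_⟩
    · rw [cf, cfst_cmk, ha]
    · rw [cs, csnd_cmk, hb]
  · rintro ⟨x, rfl⟩
    refine cone_ext (locCxUnit T P) rfl ?_ ?_
    · rw [map_zero, cf, cf]; exact (h.exact (k + 1) _).2 ⟨_, rfl⟩
    · rw [map_zero, cs, cs]; exact (e2 k _).2 ⟨_, rfl⟩
  · obtain ⟨a, ha⟩ := h.surj (k + 1) (cfst (locCxUnit T P) k (k + 1) rfl z)
    obtain ⟨b, hb⟩ := e3 k (csnd (locCxUnit T P) k z)
    refine ⟨cmk (locCxUnit T L) k (k + 1) rfl a b, cone_ext (locCxUnit T P) rfl ?_ ?_⟩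
    · rw [cf, cfst_cmk, ha]
    · rw [cs, csnd_cmk, hb]

theorem dse_stF {S : ShortComplex (ModuleCat.{u} A)} (hS : S.ShortExact) : ∀ fs : List A,
    DSE ((stF fs).map S.f) ((stF fs).map S.g)
  | [] => by
    have hf := (ModuleCat.mono_iff_injective _).1 hS.mono_f
    have hg := (ModuleCat.epi_iff_surjective _).1 hS.epi_g
    have he := (ShortComplex.ShortExact.moduleCat_exact_iff_function_exact S).1 hS.exact
    have key : ∀ {X Y : ModuleCat.{u} A} (φ : X ⟶ Y) (x : ((stF (A := A) []).obj X).X 0),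
        (HomologicalComplex.singleObjXSelf (ComplexShape.up ℤ) 0 Y).hom (((stF []).map φ).f 0 x) =
        φ ((HomologicalComplex.singleObjXSelf (ComplexShape.up ℤ) 0 X).hom x) :=
      fun φ x => bot_natural [] φ 0 (by simp) x
    let e := fun X : ModuleCat.{u} A =>
      (HomologicalComplex.singleObjXSelf (ComplexShape.up ℤ) 0 X).toLinearEquiv
    refine ⟨fun k => ?_, fun k => ?_, fun k => ?_⟩
    all_goals rcases eq_or_ne k 0 with rfl | hk
    · exact fun x y hxy => (e S.X₁).injective (hf ((key S.f x).symm.trans ((congrArg (e S.X₂) hxy).trans (key S.f y))))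
    · haveI := subsingleton_St S.X₁ [] k (by simp; omega)
      exact Function.injective_of_subsingleton _
    · intro y
      constructor
      · intro hy
        obtain ⟨x, hx⟩ := (he _).1 ((key S.g y).symm.trans ((congrArg (e S.X₃) hy).trans (map_zero _)))
        exact ⟨(e S.X₁).symm x, (e S.X₂).injective ((key S.f _).trans (by
          refine Eq.trans ?_ hx
          exact congrArg S.f ((e S.X₁).apply_symm_apply x)))⟩
      · rintro ⟨x, rfl⟩
        exact (e S.X₃).injective ((key S.g _).trans (((congrArg S.g (key S.f x)).trans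
          ((he _).2 ⟨_, rfl⟩)).trans (map_zero _).symm))
    · haveI := subsingleton_St S.X₂ [] k (by simp; omega)
      haveI := subsingleton_St S.X₃ [] k (by simp; omega)
      exact fun y => ⟨fun _ => ⟨0, Subsingleton.elim _ _⟩, fun _ => Subsingleton.elim _ _⟩
    · intro z
      obtain ⟨y, hy⟩ := hg (e S.X₃ z)
      refine ⟨(e S.X₂).symm y, (e S.X₃).injective ((key S.g _).trans ?_)⟩
      exact (congrArg S.g ((e S.X₂).apply_symm_apply y)).trans hy
    · haveI := subsingleton_St S.X₃ [] k (by simp; omega)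
      exact fun z => ⟨0, Subsingleton.elim _ _⟩
  | f :: fs => (dse_stF hS fs).cone f

/-- The short exact sequence of stable Koszul complexes. -/
theorem exists_stSeq {S : ShortComplex (ModuleCat.{u} A)} (hS : S.ShortExact) (fs : List A) :
    ∃ hz : (stF fs).map S.f ≫ (stF fs).map S.g = 0,
      (ShortComplex.mk ((stF fs).map S.f) ((stF fs).map S.g) hz).ShortExact := by
  have h := dse_stF hS fs
  have hz : (stF fs).map S.f ≫ (stF fs).map S.g = 0 := by
    ext k x
    exact (h.exact k _).2 ⟨x, rfl⟩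
  refine ⟨hz, HomologicalComplex.shortExact_of_degreewise_shortExact _ fun k => ?_⟩
  exact { exact := (ShortComplex.ShortExact.moduleCat_exact_iff_function_exact _).2 (h.exact k)
          mono_f := (ModuleCat.mono_iff_injective _).2 (h.inj k)
          epi_g := (ModuleCat.epi_iff_surjective _).2 (h.surj k) }

/-! ## Vanishing on injective modules -/

theorem exists_cycle_lift {f : A} {K : DRing.Cx A} {k l : ℤ} (b : ((locCx (Submonoid.powers f)).obj K).X k)
    (hb : ((locCx (Submonoid.powers f)).obj K).d k l b = 0) :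
    ∃ (n : ℕ) (z : K.X k), K.d k l z = 0 ∧ f ^ n • b = uF f K k z := by
  obtain ⟨n, x, hx⟩ := exists_pow_smul_eq_uF b
  have h1 : uF f K l (K.d k l x) = 0 := by rw [uF_d, ← hx, map_smul, hb, smul_zero]
  obtain ⟨m, hm⟩ := uF_eq_zero_iff.1 h1
  exact ⟨m + n, f ^ m • x, by rw [map_smul, hm], by rw [map_smul, ← hx, smul_smul, pow_add]⟩

/-- On an injective module the stable Koszul complex is exact away from the bottom degree. -/
theorem exact_of_injective [IsNoetherianRing A] (E : ModuleCat.{u} A) [Module.Injective A E] :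
    ∀ (fs : List A) (i k l : ℤ), i + 1 = k → k + 1 = l → k ≠ -(fs.length : ℤ) →
      ∀ x : (St E fs).X k, (St E fs).d k l x = 0 → ∃ w : (St E fs).X i, (St E fs).d i k w = x
  | [], i, k, l, _, _, hk, x, _ => by
    haveI := subsingleton_St E [] k (by simp at hk ⊢; omega)
    exact ⟨0, Subsingleton.elim _ _⟩
  | f :: fs, i, k, l, hik, hkl, hk, x, hx => by
    obtain rfl : l = k + 1 := hkl.symm
    obtain rfl : k = i + 1 := hik.symm
    by_cases hlow : i + 1 < -(((f :: fs).length : ℕ) : ℤ)
    · haveI := subsingleton_St E (f :: fs) (i + 1) (Or.inr hlow)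
      exact ⟨0, Subsingleton.elim _ _⟩
    let K := St E fs
    let φ := locCxUnit (Submonoid.powers f) K
    change ((mappingCone φ).X (i + 1) : Type u) at x
    change (mappingCone φ).d _ _ x = 0 at hx
    show ∃ w : (mappingCone φ).X i, (mappingCone φ).d i (i + 1) w = x
    have h1 := cfst_d φ rfl (rfl : i + 1 + 1 + 1 = i + 1 + 1 + 1) x
    have h2 := csnd_d φ (rfl : i + 1 + 1 = i + 1 + 1) x
    rw [hx, map_zero] at h1 h2
    obtain ⟨v, hv⟩ := exact_of_injective E fs (i + 1) (i + 1 + 1) _ rfl rfl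
      (by simp at hk hlow; omega) _ (neg_eq_zero.1 h1.symm)
    let b := csnd φ (i + 1) x + uF f K (i + 1) v
    have hb : ((locCx (Submonoid.powers f)).obj K).d (i + 1) (i + 1 + 1) b = 0 := by
      rw [map_add, ← uF_d, hv]
      exact (add_comm _ _).trans h2.symm
    obtain ⟨n, z, hz, hzb⟩ := exists_cycle_lift b hb
    suffices h : ∃ (a : K.X (i + 1)) (w : ((locCx (Submonoid.powers f)).obj K).X i),
        K.d (i + 1) (i + 1 + 1) a = 0 ∧ uF f K (i + 1) a +
          ((locCx (Submonoid.powers f)).obj K).d i (i + 1) w = b by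
      obtain ⟨a, w, ha, haw⟩ := h
      refine ⟨cmk φ i (i + 1) rfl (a - v) w, cone_ext φ rfl ?_ ?_⟩
      · rw [cfst_d φ rfl rfl, cfst_cmk, map_sub, ha, hv, zero_sub, neg_neg]
      · rw [csnd_d φ rfl, cfst_cmk, csnd_cmk, map_sub, sub_add_eq_add_sub]
        exact (congrArg (· - uF f K (i + 1) v) haw).trans (add_sub_cancel_right _ _)
    by_cases hbot : i + 1 = -(fs.length : ℤ)
    · -- bottom degree: divisibility in the torsion submodule
      have hzT := (mem_torsionSub_iff_d (fs := fs) hbot rfl z).2 hz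
      haveI := LocCohLib.injective_torsionSub (Ideal.span {a | a ∈ fs}) E
      obtain ⟨m, hm⟩ := divProp_of_injective
        (DRing.torsionSub (Ideal.span {a | a ∈ fs}) E) f n
      obtain ⟨w, hw⟩ := hm ⟨_, hzT⟩
      obtain ⟨a, ha⟩ := bot_surjective fs E (i + 1) hbot w.1
      refine ⟨a, 0, (mem_torsionSub_iff_d hbot rfl a).1 (ha ▸ w.2), ?_⟩
      rw [map_zero, add_zero]
      apply smul_pow_injective (f := f) (K := K) (k := i + 1) n
      show f ^ n • _ = f ^ n • _
      rw [hzb, ← map_smul]
      refine sub_eq_zero.1 ((map_sub _ _ _).symm.trans (uF_eq_zero_iff.2 ⟨m, bot_injective fs E (i + 1) hbot ?_⟩))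
      rw [map_zero, map_smul, map_sub, map_smul, ha]
      exact congrArg Subtype.val hw
    · obtain ⟨w, hw⟩ := exact_of_injective E fs i (i + 1) _ rfl rfl hbot z hz
      obtain ⟨w', hw'⟩ := smul_pow_surjective n (uF f K i w)
      refine ⟨0, w', map_zero _, ?_⟩
      rw [map_zero, zero_add]
      apply smul_pow_injective (f := f) (K := K) (k := i + 1) n
      show f ^ n • _ = f ^ n • _
      rw [hzb, ← map_smul]
      refine (congrArg _ hw').trans ?_
      rw [← uF_d, hw]

theorem subsingleton_homology_of_injective [IsNoetherianRing A] (E : ModuleCat.{u} A) [Module.Injective A E]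
    (fs : List A) (k : ℤ) (hk : k ≠ -(fs.length : ℤ)) : Subsingleton ((St E fs).homology k) := by
  refine ⟨fun a b => sub_eq_zero.1 ?_⟩
  obtain ⟨x, hx⟩ := cls_surjective _ k (a - b)
  rw [← hx]
  exact (cls_eq_zero (i := k - 1) (by omega) x).2
    (exact_of_injective E fs (k - 1) k _ (by omega) rfl hk x.1 (zmod_d rfl x))

end Groth.Agent.KoszulCech
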