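import Groth.Agent.KoszulCech.StableH

/-!
# A derivation acts on the cohomology of the stable Koszul complex
-/

set_option linter.style.haveILetI false
set_option backward.isDefEq.respectTransparency false

universe u

open CategoryTheory CategoryTheory.Limits CochainComplex DerCA

noncomputable section

namespace Groth.Agent.KoszulCech

open Groth.Agent.LocCohLib

variable {A : Type u} [CommRing A] (θ : Derivation ℤ A A)

section Loc

/-- An operator over a derivation extends to a localisation. -/
theorem exists_extend {T : Submonoid A} {M M' : Type u} [AddCommGroup M] [Module A M] [AddCommGroup M']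
    [Module A M'] (f : M →ₗ[A] M') [IsLocalizedModule T f] (D : M →+ M)
    (hD : ∀ (a : A) x, D (a • x) = θ a • x + a • D x) :
    ∃ D' : M' →+ M', (∀ (a : A) y, D' (a • y) = θ a • y + a • D' y) ∧ ∀ m, D' (f m) = f (D m) := by
  let Good : M' → M' → Prop := fun y z =>
    ∃ (s : A) (m : M), s ∈ T ∧ s • y = f m ∧ s • z + θ s • y = f (D m)
  have huniq : ∀ {y z z' : M'}, Good y z → Good y z' → z = z' := by
    rintro y z z' ⟨s, m, hs, hy, hz⟩ ⟨t, n, ht, hy', hz'⟩
    have h0 : f (t • m) = f (s • n) := by rw [map_smul, map_smul, ← hy, ← hy', smul_comm]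
    obtain ⟨⟨c, hc⟩, hcc⟩ := IsLocalizedModule.exists_of_eq (S := T) (f := f) h0
    have h1 : f (D (c • (t • m))) = f (D (c • (s • n))) := congrArg (fun x => f (D x)) hcc
    rw [hD c (t • m), hD c (s • n), map_add f, map_add f, map_smul f (θ c), map_smul f (θ c), map_smul f c,
      map_smul f c, h0, add_right_inj] at h1
    have h2 : f (D (t • m)) = f (D (s • n)) :=
      IsLocalizedModule.smul_injective f (⟨c, hc⟩ : T) h1
    rw [hD t m, hD s n, map_add f, map_add f, map_smul f (θ t), map_smul f t, map_smul f (θ s), map_smul f s,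
      ← hy, ← hy', ← hz, ← hz'] at h2
    have h4 : (t * s) • z - (t * s) • z' =
        (θ t • s • y + t • (s • z + θ s • y)) - (θ s • t • y + s • (t • z' + θ t • y)) := by module
    rw [h2, sub_self, sub_eq_zero] at h4
    exact IsLocalizedModule.smul_injective f (⟨t * s, mul_mem ht hs⟩ : T) h4
  have hex : ∀ y, ∃ z, Good y z := fun y => by
    obtain ⟨⟨m, ⟨s, hs⟩⟩, hy⟩ := IsLocalizedModule.surj T f y
    obtain ⟨z, hz⟩ := ((Module.End.isUnit_iff _).1 (IsLocalizedModule.map_units f (⟨s, hs⟩ : T))).2
      (f (D m) - θ s • y)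
    exact ⟨z, s, m, hs, hy, eq_sub_iff_add_eq.1 hz⟩
  choose D' hD' using hex
  refine ⟨AddMonoidHom.mk' D' fun y₁ y₂ => huniq (hD' _) ?_, fun a y => huniq (hD' _) ?_,
    fun m => huniq (hD' _) ⟨1, m, one_mem T, one_smul _ _, ?_⟩⟩
  · obtain ⟨s, m, hs, hy, hz⟩ := hD' y₁
    obtain ⟨t, n, ht, hy', hz'⟩ := hD' y₂
    refine ⟨t * s, t • m + s • n, mul_mem ht hs, ?_, ?_⟩
    · rw [map_add f, map_smul f t, map_smul f s, ← hy, ← hy']
      module
    · rw [map_add D, map_add f, hD t m, hD s n, map_add f, map_add f, map_smul f (θ t), map_smul f t,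
        map_smul f (θ s), map_smul f s, ← hy, ← hy', ← hz, ← hz', Derivation.leibniz]
      simp only [smul_eq_mul]
      module
  · obtain ⟨s, m, hs, hy, hz⟩ := hD' y
    refine ⟨s, a • m, hs, by rw [map_smul, ← hy, smul_comm], ?_⟩
    show s • (θ a • y + a • D' y) + θ s • a • y = f (D (a • m))
    rw [hD a m, map_add f, map_smul f (θ a), map_smul f a, ← hy, ← hz]
    module
  · rw [Derivation.map_one_eq_zero, zero_smul, add_zero, one_smul]

end Loc

/-- An operator on a complex over a derivation. -/
structure CxOp (K : DRing.Cx A) where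
  /-- The operator in each degree. -/
  op : ∀ k, K.X k →+ K.X k
  leib : ∀ k (a : A) (x : K.X k), op k (a • x) = θ a • x + a • op k x
  comm : ∀ i j (x : K.X i), K.d i j (op i x) = op j (K.d i j x)

variable {θ}

theorem CxOp.exists_cone {K : DRing.Cx A} (o : CxOp θ K) (f : A) :
    Nonempty (CxOp θ ((coneLocF f).obj K)) := by
  have hu := fun k => isLocalizedModule_uF f K k
  choose o' ho' hou using fun k => (haveI := hu k; exists_extend θ (T := Submonoid.powers f) (uF f K k)
    (o.op k) (o.leib k))
  have hcomm : ∀ i j (y : ((locCx (Submonoid.powers f)).obj K).X i),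
      ((locCx (Submonoid.powers f)).obj K).d i j (o' i y) = o' j (((locCx (Submonoid.powers f)).obj K).d i j y) := by
    intro i j y
    obtain ⟨n, x, hx⟩ := exists_pow_smul_eq_uF y
    have h1 : ((locCx (Submonoid.powers f)).obj K).d i j (o' i (f ^ n • y)) =
        o' j (((locCx (Submonoid.powers f)).obj K).d i j (f ^ n • y)) := by
      rw [hx, hou, ← uF_d, o.comm, ← hou, uF_d]
    rw [ho', map_add, map_smul, map_smul, map_smul, ho'] at h1
    exact smul_pow_injective n (add_left_cancel h1)
  let φ := locCxUnit (Submonoid.powers f) K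
  show Nonempty (CxOp θ (mappingCone φ))
  refine ⟨{ op := fun k => AddMonoidHom.mk' (fun x => cmk φ k (k + 1) rfl (o.op _ (cfst φ k (k + 1) rfl x))
                (o' k (csnd φ k x))) (fun x y => cone_ext φ rfl (by simp [cfst_cmk]) (by simp [csnd_cmk]))
            leib := fun k a x => cone_ext φ rfl ?_ ?_
            comm := fun i j x => ?_ }⟩
  · simp only [AddMonoidHom.mk'_apply, map_add, map_smul, cfst_cmk, o.leib]
  · simp only [AddMonoidHom.mk'_apply, map_add, map_smul, csnd_cmk, ho']
  · simp only [AddMonoidHom.mk'_apply]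
    by_cases hij : i + 1 = j
    · subst hij
      refine cone_ext φ (rfl : i + 1 + 1 = i + 1 + 1) ?_ ?_
      · rw [cfst_d φ rfl rfl, cfst_cmk, cfst_cmk, o.comm, ← map_neg]
        exact congrArg _ (cfst_d φ rfl rfl x).symm
      · rw [csnd_d φ rfl, cfst_cmk, csnd_cmk, csnd_cmk, hcomm]
        refine (congrArg (fun t => t + _) (hou _ _).symm).trans ?_
        rw [← map_add]
        exact congrArg _ (csnd_d φ rfl x).symm
    · have hd : (mappingCone φ).d i j = 0 :=
        (mappingCone φ).shape i j (fun h : i + 1 = j => hij h)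
      refine cone_ext φ (rfl : j + 1 = j + 1) ?_ ?_ <;> simp [hd, cfst_cmk, csnd_cmk]

theorem exists_cxOp_St : ∀ fs : List A, Nonempty (CxOp θ (St (ModuleCat.of A A) fs))
  | [] => by
    classical
    let e : ∀ (k : ℤ) (_ : k = 0), (St (ModuleCat.of A A) []).X k ≃ₗ[A] A := fun k h =>
      (HomologicalComplex.singleObjXIsoOfEq (ComplexShape.up ℤ) 0 (ModuleCat.of A A) k h).toLinearEquiv
    let o : ∀ (k : ℤ) (_ : k = 0), (St (ModuleCat.of A A) []).X k →+ (St (ModuleCat.of A A) []).X k :=
      fun k h => (e k h).symm.toLinearMap.toAddMonoidHom.comp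
        ((θ : A →ₗ[ℤ] A).toAddMonoidHom.comp (e k h).toLinearMap.toAddMonoidHom)
    refine ⟨{ op := fun k => if h : k = 0 then o k h else 0
              leib := fun k a x => ?_
              comm := fun i j x => ?_ }⟩
    · rcases eq_or_ne k 0 with h | h
      · simp only [dif_pos h]
        apply (e k h).injective
        show e k h ((e k h).symm (θ (e k h (a • x)))) = e k h (θ a • x + a • (e k h).symm (θ (e k h x)))
        simp only [LinearEquiv.apply_symm_apply, map_add, map_smul]
        exact (θ.leibniz a _).trans (by simp only [smul_eq_mul]; ring)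
      · haveI := subsingleton_St (ModuleCat.of A A) [] k (by simp; omega)
        exact Subsingleton.elim _ _
    · have hd : (St (ModuleCat.of A A) []).d i j = 0 := HomologicalComplex.single_obj_d _ _ _ _ _
      simp [hd]
  | f :: fs => by
    obtain ⟨o⟩ := exists_cxOp_St fs
    exact o.exists_cone f

theorem CxOp.exists_homology {K : DRing.Cx A} (o : CxOp θ K) (k : ℤ) :
    ∃ D : K.homology k →+ K.homology k, ∀ (a : A) z, D (a • z) = θ a • z + a • D z := by
  let oZ : Zmod K k →+ K.homology k := (cls K k).toAddMonoidHom.comp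
    (AddMonoidHom.mk' (fun x => (⟨o.op k x.1, mem_zmod (by rw [o.comm, zmod_d rfl x, map_zero])⟩ : Zmod K k))
      fun x y => Subtype.ext (map_add _ _ _))
  have hker : (cls K k).toAddMonoidHom.ker ≤ oZ.ker := fun x hx => by
    obtain ⟨w, hw⟩ := (cls_eq_zero (i := k - 1) (by omega) x).1 hx
    exact (cls_eq_zero (i := k - 1) (by omega) _).2 ⟨o.op _ w, by rw [o.comm, hw]; rfl⟩
  refine ⟨(cls K k).toAddMonoidHom.liftOfSurjective (cls_surjective K k) ⟨oZ, hker⟩, fun a z => ?_⟩
  obtain ⟨x, rfl⟩ := cls_surjective K k z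
  have e : ∀ y, (cls K k).toAddMonoidHom.liftOfSurjective (cls_surjective K k) ⟨oZ, hker⟩ (cls K k y) = oZ y :=
    fun y => AddMonoidHom.liftOfRightInverse_comp_apply _ _ _ _ y
  rw [← map_smul, e, e]
  show cls K k _ = _ + a • cls K k _
  rw [← map_smul, ← map_smul, ← map_add]
  exact congrArg _ (Subtype.ext (o.leib k a x.1))

/-- Transport of an operator. -/
theorem exists_transport {N P : Type u} [AddCommGroup N] [Module A N] [AddCommGroup P] [Module A P]
    (e : N ≃ₗ[A] P) (h : ∃ D : N →+ N, ∀ (a : A) z, D (a • z) = θ a • z + a • D z) :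
    ∃ D : P →+ P, ∀ (a : A) z, D (a • z) = θ a • z + a • D z := by
  obtain ⟨D, hD⟩ := h
  refine ⟨(e.toAddEquiv.toAddMonoidHom.comp D).comp e.symm.toAddEquiv.toAddMonoidHom, fun a ξ => ?_⟩
  show e (D (e.symm (a • ξ))) = θ a • ξ + a • e (D (e.symm ξ))
  rw [map_smul, hD, map_add, map_smul, map_smul, LinearEquiv.apply_symm_apply]

/-- A derivation acts on local cohomology of the ring. -/
theorem exists_derivation_H [IsNoetherianRing A] (I : Ideal A) (θ : Derivation ℤ A A) (i : ℕ) :
    ∃ D : LocCoh.H I i A →+ LocCoh.H I i A, ∀ (a : A) ξ, D (a • ξ) = θ a • ξ + a • D ξ := by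
  obtain ⟨s, rfl⟩ := (IsNoetherian.noetherian I : I.FG)
  obtain ⟨o⟩ := exists_cxOp_St (θ := θ) s.toList
  have hh := o.exists_homology ((i : ℤ) - s.toList.length)
  obtain ⟨e⟩ := nonempty_St_equiv s.toList i (ModuleCat.of A A) ((i : ℤ) - s.toList.length) (by omega)
  have hs : Ideal.span {a | a ∈ s.toList} = Ideal.span (s : Set A) := by congr 1; ext; simp
  have key := exists_transport (P := LocCoh.H (Ideal.span {a | a ∈ s.toList}) i A) e hh
  exact Eq.mp (congrArg (fun J : Ideal A => ∃ D : LocCoh.H J i A →+ LocCoh.H J i A,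
    ∀ (a : A) ξ, D (a • ξ) = θ a • ξ + a • D ξ) hs) key

end Groth.Agent.KoszulCech
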