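import Groth.Agent.KoszulCech.Stable
import Groth.Agent.LocCohLib.DTExact
import Groth.Prelude.Def_ega3
import Mathlib.Algebra.Homology.HomologySequence
import Mathlib.Algebra.Homology.HomotopyCategory.ShiftSequence

/-!
# The stable Koszul complex computes local cohomology, the extended Čech complex and the Koszul limit
-/

set_option linter.style.haveILetI false
set_option backward.isDefEq.respectTransparency false

universe u

open CategoryTheory CategoryTheory.Limits CochainComplex DerCA

noncomputable section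

namespace Groth.Agent.KoszulCech

open Groth.Agent.LocCohLib

variable {A : Type u} [CommRing A]

/-- Two presentations of the same cokernel. -/
theorem nonempty_equiv_of_exact {R : Type*} [CommRing R] {P Q T P' Q' T' : Type*} [AddCommGroup P]
    [Module R P] [AddCommGroup Q] [Module R Q] [AddCommGroup T] [Module R T] [AddCommGroup P'] [Module R P']
    [AddCommGroup Q'] [Module R Q'] [AddCommGroup T'] [Module R T'] (g : P →ₗ[R] Q) (δ : Q →ₗ[R] T)
    (hδ : Function.Surjective δ) (he : Function.Exact g δ) (g' : P' →ₗ[R] Q') (δ' : Q' →ₗ[R] T')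
    (hδ' : Function.Surjective δ') (he' : Function.Exact g' δ') (e : P ≃ₗ[R] P') (e' : Q ≃ₗ[R] Q')
    (hc : ∀ x, e' (g x) = g' (e x)) : Nonempty (T ≃ₗ[R] T') := by
  have h : (LinearMap.range g).map (e' : Q →ₗ[R] Q') = LinearMap.range g' := by
    ext y
    constructor
    · rintro ⟨_, ⟨x, rfl⟩, rfl⟩
      exact ⟨e x, (hc x).symm⟩
    · rintro ⟨x, rfl⟩
      exact ⟨g (e.symm x), ⟨_, rfl⟩, (hc _).trans (by rw [LinearEquiv.apply_symm_apply])⟩
  exact ⟨((δ.quotKerEquivOfSurjective hδ).symm.trans
    (Submodule.quotEquivOfEq _ _ (LinearMap.exact_iff.1 he))).trans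
    ((Submodule.Quotient.equiv _ _ e' h).trans ((Submodule.quotEquivOfEq _ _
      (LinearMap.exact_iff.1 he').symm).trans (δ'.quotKerEquivOfSurjective hδ')))⟩

/-- The comparison with local cohomology in the bottom degree. -/
def botLC (fs : List A) (M : ModuleCat.{u} A) (k : ℤ) (hk : k = -(fs.length : ℤ)) :
    (St M fs).homology k ≃ₗ[A] ((localCohomology (Ideal.span {a | a ∈ fs}) 0).obj M : Type u) :=
  (botEquiv fs M k hk).trans (h0Equiv _ M).symm

theorem botLC_natural (fs : List A) {M N : ModuleCat.{u} A} (g : M ⟶ N) (k : ℤ) (hk : k = -(fs.length : ℤ))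
    (z : (St M fs).homology k) :
    botLC fs N k hk ((HomologicalComplex.homologyMap ((stF fs).map g) k).hom z) =
      ((localCohomology (Ideal.span {a | a ∈ fs}) 0).map g).hom (botLC fs M k hk z) := by
  apply (h0Equiv _ N).injective
  apply Subtype.ext
  simp only [botLC, LinearEquiv.trans_apply, LinearEquiv.apply_symm_apply]
  rw [h0Equiv_coe, h0_map, ← h0Equiv_coe, LinearEquiv.apply_symm_apply]
  exact botEquiv_natural fs g k hk z

/-- The cohomology of the stable Koszul complex is local cohomology. -/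
theorem nonempty_St_equiv [IsNoetherianRing A] (fs : List A) : ∀ (i : ℕ) (M : ModuleCat.{u} A) (k : ℤ),
    k = -(fs.length : ℤ) + i →
    Nonempty ((St M fs).homology k ≃ₗ[A]
      ((localCohomology (Ideal.span {a | a ∈ fs}) i).obj M : Type u))
  | 0, M, k, hk => ⟨botLC fs M k (by omega)⟩
  | i + 1, M, k, hk => by
    obtain ⟨S, hS, rfl, hI⟩ := exists_hull_ses M
    haveI := hI
    haveI : Module.Injective A S.X₂ := Module.injective_module_of_injective_object A S.X₂
    obtain ⟨hz, hT⟩ := exists_stSeq hS fs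
    have hrel : (ComplexShape.up ℤ).Rel (k - 1) k := show k - 1 + 1 = k by omega
    let d : (St S.X₃ fs).homology (k - 1) →ₗ[A] (St S.X₁ fs).homology k := (hT.δ (k - 1) k hrel).hom
    let J := Ideal.span {a | a ∈ fs}
    let d' := δ J hS i
    have h1 : Function.Exact (HomologicalComplex.homologyMap ((stF fs).map S.g) (k - 1)).hom d :=
      (ShortComplex.ShortExact.moduleCat_exact_iff_function_exact _).1 (hT.homology_exact₃ (k - 1) k hrel)
    haveI := subsingleton_homology_of_injective S.X₂ fs k (by omega)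
    have hsurj : Function.Surjective d := fun z =>
      ((ShortComplex.ShortExact.moduleCat_exact_iff_function_exact _).1 (hT.homology_exact₁ (k - 1) k hrel) z).1
        (Subsingleton.elim (α := (St S.X₂ fs).homology k) _ _)
    haveI := LocCohLib.subsingleton_of_injective (I := J) (M := S.X₂) i
    have hsurj' : Function.Surjective d' := fun z =>
      exists_of_map_f_eq_zero J hS i z (Subsingleton.elim _ _)
    have h1' : Function.Exact ((localCohomology J i).map S.g).hom d' := fun z =>
      ⟨exists_of_δ_eq_zero J hS i z, by rintro ⟨w, rfl⟩; exact δ_map_g J hS i w⟩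
    rcases i with _ | i
    · exact nonempty_equiv_of_exact _ d hsurj h1 _ d' hsurj' h1' (botLC fs S.X₂ (k - 1) (by omega))
        (botLC fs S.X₃ (k - 1) (by omega)) (botLC_natural fs S.g (k - 1) _)
    · obtain ⟨e⟩ := nonempty_St_equiv fs (i + 1) S.X₃ (k - 1) (by omega)
      haveI h2 := subsingleton_homology_of_injective S.X₂ fs (k - 1) (by omega)
      haveI := LocCohLib.subsingleton_of_injective (I := J) (M := S.X₂) i
      have hb : Function.Injective d := (injective_iff_map_eq_zero _).2 fun z hz => by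
        obtain ⟨w, rfl⟩ := (h1 z).1 hz
        rw [@Subsingleton.elim _ h2 w 0, map_zero]
      have hb' : Function.Injective d' := (injective_iff_map_eq_zero _).2 fun z hz => by
        obtain ⟨w, rfl⟩ := (h1' z).1 hz
        rw [Subsingleton.elim w 0, map_zero]
      exact ⟨((LinearEquiv.ofBijective d ⟨hb, hsurj⟩).symm.trans e).trans
        (LinearEquiv.ofBijective d' ⟨hb', hsurj'⟩)⟩

/-! ## The extended Čech complex is a shift of the stable Koszul complex -/

/-- Isomorphic maps have isomorphic cones. -/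
def coneIso {K L K' L' : DRing.Cx A} {φ : K ⟶ L} {φ' : K' ⟶ L'} (p : K ≅ K') (q : L ≅ L')
    (comm : φ ≫ q.hom = p.hom ≫ φ') : mappingCone φ ≅ mappingCone φ' where
  hom := mappingCone.map φ φ' p.hom q.hom comm
  inv := mappingCone.map φ' φ p.inv q.inv (by
    rw [Iso.eq_inv_comp, ← Category.assoc, ← comm, Category.assoc, Iso.hom_inv_id, Category.comp_id])
  hom_inv_id := by
    rw [← mappingCone.map_comp]
    simp only [Iso.hom_inv_id]
    exact mappingCone.map_id φ
  inv_hom_id := by
    rw [← mappingCone.map_comp]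
    simp only [Iso.inv_hom_id]
    exact mappingCone.map_id φ'

/-- Localisation of a shifted complex. -/
def coneLocShiftIso (f : A) (K : DRing.Cx A) (m : ℤ) :
    (coneLocF f).obj (K⟦m⟧) ≅ ((coneLocF f).obj K)⟦m⟧ :=
  coneIso (Iso.refl _) ((((locFunctor (Submonoid.powers f)).mapHomologicalComplex
      (ComplexShape.up ℤ)).commShiftIso m).app K)
    (φ' := (locCxUnit (Submonoid.powers f) K)⟦m⟧')
    (by ext i : 1; simp; rfl) ≪≫
  (mappingCone.shiftIso (locCxUnit (Submonoid.powers f) K) m).symm

/-- The extended Čech complex as a shifted stable Koszul complex. -/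
def extCechIso (M : ModuleCat.{u} A) : ∀ (fs : List A) (m : ℤ), m = -(fs.length : ℤ) →
    (extCech M fs ≅ (St M fs)⟦m⟧)
  | [], m, hm => ((CategoryTheory.shiftFunctorZero' (DRing.Cx A) m (by simpa using hm)).app _).symm
  | f :: fs, m, hm =>
    ((CategoryTheory.shiftFunctor (DRing.Cx A) (-1 : ℤ)).mapIso
      ((coneLocF f).mapIso (extCechIso M fs (m + 1) (by simp at hm; omega)) ≪≫
        coneLocShiftIso f (St M fs) (m + 1))) ≪≫
      ((CategoryTheory.shiftFunctorAdd' (DRing.Cx A) (m + 1) (-1) m (by omega)).app _).symm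

/-- The homology of the extended Čech complex. -/
def extCechHIso (fs : List A) (M : ModuleCat.{u} A) (q k : ℤ) (hk : k = q - fs.length) :
    extCechH fs M q ≅ (St M fs).homology k :=
  (HomologicalComplex.homologyFunctor _ _ q).mapIso (extCechIso M fs (-(fs.length : ℤ)) rfl) ≪≫
    (CochainComplex.ShiftSequence.shiftIso (ModuleCat.{u} A) (-(fs.length : ℤ)) q k (by omega)).app _

/-! ## The Koszul limit -/

theorem isIso_smul_loc (f : A) (K : DRing.Cx A) (n : ℕ) :
    IsIso (f ^ n • 𝟙 ((locCx (Submonoid.powers f)).obj K)) := by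
  haveI : ∀ k, IsIso ((f ^ n • 𝟙 ((locCx (Submonoid.powers f)).obj K)).f k) := fun k =>
    (ConcreteCategory.isIso_iff_bijective _).mpr ⟨smul_pow_injective n, smul_pow_surjective n⟩
  exact HomologicalComplex.Hom.isIso_of_components _

/-- Division by `f ^ n`. -/
def divLoc (f : A) (K : DRing.Cx A) (n : ℕ) :
    (locCx (Submonoid.powers f)).obj K ⟶ (locCx (Submonoid.powers f)).obj K :=
  haveI := isIso_smul_loc f K n
  inv (f ^ n • 𝟙 _)

theorem smul_comp_divLoc (f : A) {K Z : DRing.Cx A} (n : ℕ) (h : Z ⟶ (locCx (Submonoid.powers f)).obj K) :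
    f ^ n • (h ≫ divLoc f K n) = h := by
  haveI := isIso_smul_loc f K n
  have e : (f ^ n • 𝟙 _) ≫ divLoc f K n = 𝟙 _ := IsIso.hom_inv_id _
  rw [Linear.smul_comp, Category.id_comp] at e
  rw [← Linear.comp_smul, e, Category.comp_id]

/-- From the Koszul complex of powers to the stable Koszul complex. -/
def stMap (M : ModuleCat.{u} A) (n : ℕ) : ∀ l : List A, CohIII.koszulCx M (l.map (· ^ n)) ⟶ St M l
  | [] => 𝟙 _
  | f :: l => mappingCone.map (f ^ n • 𝟙 (CohIII.koszulCx M (l.map (· ^ n))))
      (locCxUnit (Submonoid.powers f) (St M l)) (stMap M n l)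
      ((stMap M n l ≫ locCxUnit (Submonoid.powers f) (St M l)) ≫ divLoc f (St M l) n)
      (by rw [Linear.smul_comp, Category.id_comp, smul_comp_divLoc])

theorem stMap_isColim (M : ModuleCat.{u} A) : ∀ l : List A,
    IsColim (fun n m h => CohIII.koszulTrans M n m h l) (fun n => stMap M n l)
  | [] => ⟨fun _ _ _ _ _ => rfl, fun k y => ⟨0, fun _ _ => ⟨y, rfl⟩⟩,
      fun _ k x hx => ⟨0, fun _ _ _ => hx⟩⟩
  | f :: l => by
    have ih := stMap_isColim M l
    let φ := locCxUnit (Submonoid.powers f) (St M l)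
    let ψ := fun n => (stMap M n l ≫ φ) ≫ divLoc f (St M l) n
    have hf : ∀ n k (y : (CohIII.koszulCx M (l.map (· ^ n))).X k),
        f ^ n • ((ψ n).f k y) = uF f (St M l) k ((stMap M n l).f k y) := fun n k y =>
      ConcreteCategory.congr_hom (HomologicalComplex.congr_hom
        (smul_comp_divLoc f n (stMap M n l ≫ φ)) k) y
    have c1 : ∀ n k (x : (CohIII.koszulCx M ((f :: l).map (· ^ n))).X k),
        cfst φ k (k + 1) rfl ((stMap M n (f :: l)).f k x) =
          (stMap M n l).f (k + 1) (cfst (f ^ n • 𝟙 (CohIII.koszulCx M (l.map (· ^ n)))) k (k + 1) rfl x) :=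
      fun n k x => cfst_map _ _ _ _ _ rfl x
    have c2 : ∀ n k (x : (CohIII.koszulCx M ((f :: l).map (· ^ n))).X k),
        csnd φ k ((stMap M n (f :: l)).f k x) =
          (ψ n).f k (csnd (f ^ n • 𝟙 (CohIII.koszulCx M (l.map (· ^ n)))) k x) :=
      fun n k x => csnd_map _ _ _ _ _ x
    refine ⟨fun n m h k x => cone_ext φ rfl ?_ ?_, fun k y => ?_, fun n k x hx => ?_⟩
    · rw [c1, c1, show cfst (f ^ m • 𝟙 (CohIII.koszulCx M (l.map (· ^ m)))) k (k + 1) rfl
        ((CohIII.koszulTrans M n m h (f :: l)).f k x) = _ from cfst_map _ _ _ _ _ rfl x]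
      exact ih.compat n m h (k + 1) _
    · rw [c2, c2, show csnd (f ^ m • 𝟙 (CohIII.koszulCx M (l.map (· ^ m)))) k
        ((CohIII.koszulTrans M n m h (f :: l)).f k x) = _ from csnd_map _ _ _ _ _ x]
      apply smul_pow_injective (f := f) (K := St M l) (k := k) m
      show f ^ m • _ = f ^ m • _
      rw [hf m, show f ^ m = f ^ (m - n) * f ^ n by rw [← pow_add, Nat.sub_add_cancel h], mul_smul, hf n]
      show uF f _ k ((stMap M m l).f k (f ^ (m - n) • (CohIII.koszulTrans M n m h l).f k _)) = _
      rw [map_smul, map_smul]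
      exact congrArg (fun z => f ^ (m - n) • uF f (St M l) k z) (ih.compat n m h k _)
    · obtain ⟨n₁, h₁⟩ := ih.surj (k + 1) (cfst φ k (k + 1) rfl y)
      obtain ⟨j, s, hs⟩ := exists_pow_smul_eq_uF (csnd φ k y)
      obtain ⟨n₂, h₂⟩ := ih.surj k s
      refine ⟨max (max n₁ n₂) j, fun n hn => ?_⟩
      obtain ⟨x₁, hx₁⟩ := h₁ n (by omega)
      obtain ⟨x₂, hx₂⟩ := h₂ n (by omega)
      refine ⟨cmk _ k (k + 1) rfl x₁ (f ^ (n - j) • x₂), cone_ext φ rfl ?_ ?_⟩
      · rw [c1, cfst_cmk]; exact hx₁
      · rw [c2, csnd_cmk]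
        apply smul_pow_injective (f := f) (K := St M l) (k := k) n
        show f ^ n • _ = f ^ n • _
        rw [hf, map_smul, map_smul, hx₂, ← hs, smul_smul, ← pow_add, Nat.sub_add_cancel (show j ≤ n by omega)]
    · have h1 := (c1 n k x).symm.trans ((congrArg (cfst φ k (k + 1) rfl) hx).trans (map_zero _))
      have h2 := (c2 n k x).symm.trans ((congrArg (csnd φ k) hx).trans (map_zero _))
      obtain ⟨m₁, hm₁⟩ := ih.inj n (k + 1) _ h1
      have h3 := (hf n k _).symm.trans ((congrArg (f ^ n • ·) h2).trans (smul_zero _))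
      obtain ⟨j, hj⟩ := uF_eq_zero_iff.1 h3
      obtain ⟨m₂, hm₂⟩ := ih.inj n k _ ((map_smul _ (f ^ j) _).trans hj)
      refine ⟨max m₁ (max m₂ (n + j)), fun m h hm => ?_⟩
      refine cone_ext (f ^ m • 𝟙 (CohIII.koszulCx M (l.map (· ^ m)))) rfl
        ((cfst_map _ _ _ _ _ rfl x).trans ?_) ((csnd_map _ _ _ _ _ x).trans ?_)
      · rw [map_zero]
        exact hm₁ m h (by omega)
      · rw [map_zero]
        show f ^ (m - n) • (CohIII.koszulTrans M n m h l).f k _ = 0
        rw [show f ^ (m - n) = f ^ (m - n - j) * f ^ j by rw [← pow_add]; congr 1; omega, mul_smul,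
          ← map_smul, hm₂ m h (by omega), smul_zero]

/-- The limit of the Koszul cohomologies is the cohomology of the stable Koszul complex. -/
theorem nonempty_koszulHLim_St_equiv (M : ModuleCat.{u} A) (fs : List A) (p : ℕ) :
    Nonempty (CohIII.koszulHLim fs M p ≃ₗ[A] (St M fs).homology ((p : ℤ) - fs.length)) :=
  nonempty_directLimit_homology_equiv _ _ (stMap_isColim M fs) _

end Groth.Agent.KoszulCech
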